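import Cfsg.Agent.Lib.SylowSplit.Transfer
import Mathlib.GroupTheory.Sylow
import Mathlib.GroupTheory.Nilpotent
import Mathlib.GroupTheory.PGroup

/-!
Groups in which two different Sylow 2-subgroups meet in an abelian group: every nonabelian 2-subgroup lies in
one Sylow 2-subgroup only, and fusion in a Sylow 2-subgroup `S` is controlled by `N(S)` and by the 2-elements of
the normalisers of the self-centralising abelian subgroups of `S`.
-/

set_option autoImplicit false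
set_option linter.unusedSectionVars false
set_option linter.style.haveILetI false

namespace Cfsg.Agent.AbInter

open Subgroup

universe u v

variable {G : Type u} [Group G]

/-- A power of two kills `x`. -/
def TwoEl (x : G) : Prop := ∃ k, x ^ 2 ^ k = 1

theorem twoEl_conj {x : G} (h : TwoEl x) (g : G) : TwoEl (g * x * g⁻¹) := by
  obtain ⟨k, hk⟩ := h
  exact ⟨k, by rw [conj_pow, hk]; group⟩

theorem twoEl_of_mem {P : Subgroup G} (hP : IsPGroup 2 P) {x : G} (hx : x ∈ P) : TwoEl x := by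
  obtain ⟨k, hk⟩ := hP ⟨x, hx⟩
  exact ⟨k, congrArg Subtype.val hk⟩

theorem twoEl_zpowers {x : G} (h : TwoEl x) : IsPGroup 2 (zpowers x) := by
  obtain ⟨k, hk⟩ := h
  rintro ⟨_, i, rfl⟩
  refine ⟨k, Subtype.ext ?_⟩
  rw [SubmonoidClass.coe_pow]
  show (x ^ i) ^ 2 ^ k = (1 : G)
  rw [← zpow_natCast, ← zpow_mul, mul_comm, zpow_mul, zpow_natCast, hk, one_zpow]

theorem comm_of_conj {g a b : G} (h : g * a * g⁻¹ * (g * b * g⁻¹) = g * b * g⁻¹ * (g * a * g⁻¹)) :
    a * b = b * a := by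
  have h' : g * (a * b) * g⁻¹ = g * (b * a) * g⁻¹ := by
    simpa only [mul_assoc, inv_mul_cancel_left] using h
  exact mul_left_cancel (mul_right_cancel h')

theorem conj_comm {a b : G} (h : a * b = b * a) (g : G) :
    g * a * g⁻¹ * (g * b * g⁻¹) = g * b * g⁻¹ * (g * a * g⁻¹) := by
  simp only [mul_assoc, inv_mul_cancel_left]
  rw [← mul_assoc a b, h, mul_assoc]

theorem conj_mem_iff {P : Subgroup G} {n x : G} (hn : n ∈ normalizer (P : Set G)) :
    n * x * n⁻¹ ∈ P ↔ x ∈ P := (mem_normalizer_iff.1 hn x).symm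

section

variable [Finite G]

/-- Two different Sylow 2-subgroups meet in an abelian group. -/
def AbInt (G : Type u) [Group G] : Prop :=
  ∀ S T : Sylow 2 G, S ≠ T → IsMulCommutative ↥((S : Subgroup G) ⊓ (T : Subgroup G))

theorem sylow_eq (hA : AbInt G) {S T : Sylow 2 G} {x y : G} (hxS : x ∈ (S : Subgroup G))
    (hyS : y ∈ (S : Subgroup G)) (hxT : x ∈ (T : Subgroup G)) (hyT : y ∈ (T : Subgroup G))
    (hne : x * y ≠ y * x) : S = T := by
  by_contra h
  haveI := hA S T h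
  exact hne (congrArg Subtype.val
    (mul_comm' (⟨x, hxS, hxT⟩ : ↥((S : Subgroup G) ⊓ T)) ⟨y, hyS, hyT⟩))

/-- A 2-subgroup with two noncommuting elements in `S` lies in `S`. -/
theorem le_of_noncomm (hA : AbInt G) {S : Sylow 2 G} {P : Subgroup G} (hP : IsPGroup 2 P) {x y : G}
    (hxP : x ∈ P) (hyP : y ∈ P) (hxS : x ∈ (S : Subgroup G)) (hyS : y ∈ (S : Subgroup G))
    (hne : x * y ≠ y * x) : P ≤ (S : Subgroup G) := by
  obtain ⟨T, hT⟩ := hP.exists_le_sylow
  rwa [sylow_eq hA hxS hyS (hT hxP) (hT hyP) hne]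

/-- An element moving two noncommuting elements of `S` into `S` normalises `S`. -/
theorem mem_normalizer_of_noncomm (hA : AbInt G) {S : Sylow 2 G} {g x y : G} (hxS : x ∈ (S : Subgroup G))
    (hyS : y ∈ (S : Subgroup G)) (hgx : g * x * g⁻¹ ∈ (S : Subgroup G)) (hgy : g * y * g⁻¹ ∈ (S : Subgroup G))
    (hne : x * y ≠ y * x) : g ∈ normalizer ((S : Subgroup G) : Set G) := by
  have hle : (S : Subgroup G).map (MulAut.conj g).toMonoidHom ≤ (S : Subgroup G) :=
    le_of_noncomm hA (S.isPGroup'.map _) (mem_map_of_mem _ hxS) (mem_map_of_mem _ hyS) hgx hgy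
      fun h => hne (comm_of_conj h)
  exact mem_normalizer_fintype fun z hz => hle (mem_map_of_mem _ hz)

/-! ### Self-centralising abelian subgroups -/

/-- An abelian subgroup of `S` which is self-centralising in `S`. -/
structure SelfCent (S : Sylow 2 G) (R : Subgroup G) : Prop where
  le : R ≤ (S : Subgroup G)
  comm : ∀ a ∈ R, ∀ b ∈ R, a * b = b * a
  self : ∀ g ∈ (S : Subgroup G), (∀ a ∈ R, g * a = a * g) → g ∈ R

/-- The normaliser in `S`. -/
def NS (S : Sylow 2 G) (R : Subgroup G) : Subgroup G := (S : Subgroup G) ⊓ normalizer (R : Set G)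

/-- The centraliser in `S`. -/
def cS (S : Sylow 2 G) (x : G) : Subgroup G := (S : Subgroup G) ⊓ centralizer ({x} : Set G)

theorem mem_cS {S : Sylow 2 G} {x g : G} : g ∈ cS S x ↔ g ∈ (S : Subgroup G) ∧ g * x = x * g :=
  and_congr_right fun _ => mem_centralizer_singleton_iff

/-- An essential subgroup: some element of the normaliser induces what `N(S)` does not. -/
structure Ess (S : Sylow 2 G) (R : Subgroup G) : Prop extends SelfCent S R where
  moved : ∃ n ∈ normalizer (R : Set G), ∀ m ∈ normalizer (R : Set G),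
    m ∈ normalizer ((S : Subgroup G) : Set G) → m⁻¹ * n ∉ centralizer (R : Set G)

theorem conjMap_mem {R : Subgroup G} {g x : G} :
    x ∈ R.map (MulAut.conj g).toMonoidHom ↔ g⁻¹ * x * g ∈ R := by
  constructor
  · rintro ⟨y, hy, rfl⟩
    simpa [mul_assoc] using hy
  · exact fun h => ⟨_, h, by simp [mul_assoc]⟩

theorem SelfCent.conj {S : Sylow 2 G} {R : Subgroup G} (h : SelfCent S R) {m : G}
    (hm : m ∈ normalizer ((S : Subgroup G) : Set G)) : SelfCent S (R.map (MulAut.conj m).toMonoidHom) := by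
  refine ⟨?_, ?_, fun g hg hc => ?_⟩
  · rintro _ ⟨x, hx, rfl⟩
    exact (conj_mem_iff hm).2 (h.le hx)
  · rintro _ ⟨x, hx, rfl⟩ _ ⟨y, hy, rfl⟩
    exact conj_comm (h.comm x hx y hy) m
  · rw [conjMap_mem]
    refine h.self _ ((conj_mem_iff hm).1 (by simpa [mul_assoc] using hg)) fun a ha => comm_of_conj (g := m) ?_
    simpa [mul_assoc] using hc _ ⟨a, ha, rfl⟩

theorem mem_normalizer_conj {R : Subgroup G} {g n : G} (hn : n ∈ normalizer (R : Set G)) :
    g * n * g⁻¹ ∈ normalizer ((R.map (MulAut.conj g).toMonoidHom : Subgroup G) : Set G) :=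
  le_normalizer_map _ (mem_map_of_mem (MulAut.conj g).toMonoidHom hn)

theorem mem_normalizer_of_conj {R : Subgroup G} {g n : G}
    (hn : n ∈ normalizer ((R.map (MulAut.conj g).toMonoidHom : Subgroup G) : Set G)) :
    g⁻¹ * n * g ∈ normalizer (R : Set G) := by
  refine mem_normalizer_fintype fun x hx => ?_
  have := conjMap_mem.1 ((mem_normalizer_iff.1 hn (g * x * g⁻¹)).1 (conjMap_mem.2 (by simpa [mul_assoc] using hx)))
  simpa [mul_assoc] using this

theorem Ess.conj {S : Sylow 2 G} {R : Subgroup G} (h : Ess S R) {m : G}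
    (hm : m ∈ normalizer ((S : Subgroup G) : Set G)) : Ess S (R.map (MulAut.conj m).toMonoidHom) := by
  refine ⟨h.toSelfCent.conj hm, ?_⟩
  obtain ⟨n, hn, hn'⟩ := h.moved
  refine ⟨m * n * m⁻¹, mem_normalizer_conj hn, fun k hk hkS hc => ?_⟩
  refine hn' (m⁻¹ * k * m) (mem_normalizer_of_conj hk) (mul_mem (mul_mem (inv_mem hm) hkS) hm) ?_
  rw [mem_centralizer_iff] at hc ⊢
  intro a ha
  refine comm_of_conj (g := m) ?_
  simpa [mul_assoc] using hc (m * a * m⁻¹) (mem_map_of_mem (MulAut.conj m).toMonoidHom ha)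

variable {S : Sylow 2 G} (hA : AbInt G) (hS : ∃ x ∈ (S : Subgroup G), ∃ y ∈ (S : Subgroup G), x * y ≠ y * x)
include hA hS

theorem SelfCent.ne_sylow {R : Subgroup G} (h : SelfCent S R) : R ≠ (S : Subgroup G) := by
  rintro rfl
  obtain ⟨x, hx, y, hy, hne⟩ := hS
  exact hne (h.comm x hx y hy)

theorem SelfCent.exists_NS_notMem {R : Subgroup G} (h : SelfCent S R) : ∃ u ∈ NS S R, u ∉ R := by
  haveI : Fact (Nat.Prime 2) := ⟨Nat.prime_two⟩
  haveI := S.isPGroup'.isNilpotent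
  have hlt : R.subgroupOf (S : Subgroup G) < ⊤ := lt_top_iff_ne_top.2 fun e =>
    h.ne_sylow hA hS (le_antisymm h.le fun x hx => (e ▸ mem_top (⟨x, hx⟩ : (S : Subgroup G)) :))
  obtain ⟨⟨u, huS⟩, hu, hu'⟩ :=
    SetLike.exists_of_lt (Group.normalizerCondition_of_isNilpotent _ hlt)
  exact ⟨u, ⟨huS, mem_normalizer_fintype fun x hx => (mem_normalizer_iff.1 hu ⟨x, h.le hx⟩).1 hx⟩, hu'⟩

theorem SelfCent.exists_pair {R : Subgroup G} (h : SelfCent S R) :
    ∃ u ∈ NS S R, ∃ x ∈ R, u * x ≠ x * u := by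
  obtain ⟨u, hu, hu'⟩ := h.exists_NS_notMem hA hS
  by_contra! hall
  exact hu' (h.self u hu.1 fun a ha => hall u hu a ha)

/-- `N_S(R)` is a maximal 2-subgroup of the normaliser. -/
theorem SelfCent.le_NS {R : Subgroup G} (h : SelfCent S R) {P : Subgroup G} (hP : IsPGroup 2 P)
    (hPN : P ≤ normalizer (R : Set G)) (hle : NS S R ≤ P) : P ≤ NS S R := by
  obtain ⟨u, hu, x, hx, hne⟩ := h.exists_pair hA hS
  have hxN : x ∈ NS S R := ⟨h.le hx, le_normalizer hx⟩
  exact le_inf (le_of_noncomm hA hP (hle hu) (hle hxN) hu.1 (h.le hx) hne) hPN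

/-- Inside a subgroup of the normaliser every 2-subgroup is conjugate into `N_S(R)`. -/
theorem SelfCent.exists_conj {R : Subgroup G} (h : SelfCent S R) {K : Subgroup G} (hK : NS S R ≤ K)
    (hKN : K ≤ normalizer (R : Set G)) {P : Subgroup G} (hP : IsPGroup 2 P) (hPK : P ≤ K) :
    ∃ k ∈ K, ∀ p ∈ P, k * p * k⁻¹ ∈ NS S R := by
  haveI : Fact (Nat.Prime 2) := ⟨Nat.prime_two⟩
  have hTK : IsPGroup 2 ((NS S R).subgroupOf K) :=
    (S.isPGroup'.to_le (inf_le_left : NS S R ≤ (S : Subgroup G))).comap_of_injective K.subtype K.subtype_injective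
  obtain ⟨Q, hQ⟩ := hTK.exists_le_sylow
  have hQle : (Q : Subgroup K).map K.subtype ≤ NS S R :=
    h.le_NS hA hS (Q.isPGroup'.map _) ((map_subtype_le _).trans hKN)
      (fun x hx => ⟨⟨x, hK hx⟩, hQ hx, rfl⟩)
  obtain ⟨P', hP'⟩ := (hP.comap_of_injective K.subtype K.subtype_injective).exists_le_sylow
  obtain ⟨k, hk⟩ := MulAction.exists_smul_eq K P' Q
  refine ⟨k, k.2, fun p hp => ?_⟩
  have h1 : k * ⟨p, hPK hp⟩ * k⁻¹ ∈ (Q : Subgroup K) := by
    rw [← hk]
    exact ⟨⟨p, hPK hp⟩, hP' hp, rfl⟩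
  exact hQle ⟨_, h1, rfl⟩

/-- Invariance under the normaliser of a self-centralising abelian subgroup. -/
theorem SelfCent.invariant {α : Sort v} (f : G → α)
    (hN : ∀ n ∈ normalizer ((S : Subgroup G) : Set G), ∀ x ∈ (S : Subgroup G), f (n * x * n⁻¹) = f x)
    (hR : ∀ R : Subgroup G, Ess S R → ∀ u ∈ normalizer (R : Set G), TwoEl u → ∀ x ∈ R, f (u * x * u⁻¹) = f x)
    {R : Subgroup G} (h : SelfCent S R) {n : G} (hn : n ∈ normalizer (R : Set G)) {x : G} (hx : x ∈ R) :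
    f (n * x * n⁻¹) = f x := by
  by_cases hne : ∀ n ∈ normalizer (R : Set G), ∃ m ∈ normalizer (R : Set G),
      m ∈ normalizer ((S : Subgroup G) : Set G) ∧ m⁻¹ * n ∈ centralizer (R : Set G)
  · obtain ⟨m, -, hmS, hc⟩ := hne n hn
    have e : n * x * n⁻¹ = m * x * m⁻¹ := by
      have h1 := mem_centralizer_iff.1 hc x hx
      calc n * x * n⁻¹ = m * ((m⁻¹ * n) * x) * (m⁻¹ * n)⁻¹ * m⁻¹ := by group
        _ = _ := by rw [← h1]; group
    rw [e]
    exact hN m hmS x (h.le hx)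
  push Not at hne
  have hE : Ess S R := ⟨h, hne⟩
  set O := closure {u : G | u ∈ normalizer (R : Set G) ∧ TwoEl u} with hO
  have hON : O ≤ normalizer (R : Set G) := (closure_le _).2 fun u hu => hu.1
  have hTO : NS S R ≤ O := fun u hu => subset_closure ⟨hu.2, twoEl_of_mem S.isPGroup' hu.1⟩
  have hinv : ∀ o ∈ O, ∀ x ∈ R, f (o * x * o⁻¹) = f x := by
    intro o ho
    induction ho using closure_induction with
    | mem u hu => exact hR R hE u hu.1 hu.2
    | one => intro x _; simp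
    | mul a b ha hb iha ihb =>
      intro x hx
      rw [show a * b * x * (a * b)⁻¹ = a * (b * x * b⁻¹) * a⁻¹ by group,
        iha _ ((conj_mem_iff (hON hb)).2 hx), ihb x hx]
    | inv a ha iha =>
      intro x hx
      have h1 := iha (a⁻¹ * x * a) (by simpa using (conj_mem_iff (inv_mem (hON ha))).2 hx)
      rw [show a * (a⁻¹ * x * a) * a⁻¹ = x by group] at h1
      rw [inv_inv]
      exact h1.symm
  -- Frattini argument
  set P := (NS S R).map (MulAut.conj n).toMonoidHom with hPdef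
  have hPO : P ≤ O := by
    rintro _ ⟨u, hu, rfl⟩
    exact subset_closure ⟨mul_mem (mul_mem hn hu.2) (inv_mem hn),
      twoEl_conj (twoEl_of_mem S.isPGroup' hu.1) n⟩
  obtain ⟨o, ho, hoP⟩ := h.exists_conj hA hS hTO hON ((S.isPGroup'.to_le inf_le_left).map _) hPO
  obtain ⟨u, hu, y, hy, hne'⟩ := h.exists_pair hA hS
  have hyN : y ∈ NS S R := ⟨h.le hy, le_normalizer hy⟩
  have hm : o * n ∈ normalizer ((S : Subgroup G) : Set G) := by
    refine mem_normalizer_of_noncomm hA hu.1 (h.le hy) ?_ ?_ hne'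
    · rw [show o * n * u * (o * n)⁻¹ = o * (n * u * n⁻¹) * o⁻¹ by group]
      exact (hoP _ (mem_map_of_mem (MulAut.conj n).toMonoidHom hu)).1
    · rw [show o * n * y * (o * n)⁻¹ = o * (n * y * n⁻¹) * o⁻¹ by group]
      exact (hoP _ (mem_map_of_mem (MulAut.conj n).toMonoidHom hyN)).1
  have h1 := hinv o ho (n * x * n⁻¹) ((conj_mem_iff hn).2 hx)
  have h2 := hN _ hm x (h.le hx)
  rw [show o * n * x * (o * n)⁻¹ = o * (n * x * n⁻¹) * o⁻¹ by group] at h2
  rw [← h1, h2]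

/-- `C_S(x)` is a Sylow 2-subgroup of `C(x)`. -/
def Full (S : Sylow 2 G) (x : G) : Prop :=
  ∀ P : Subgroup G, IsPGroup 2 P → (∀ p ∈ P, p * x = x * p) → cS S x ≤ P → P ≤ cS S x

theorem full_of_noncomm {x a b : G} (ha : a ∈ cS S x) (hb : b ∈ cS S x) (hne : a * b ≠ b * a) :
    Full S x := fun _ hP hc hle =>
  le_inf (le_of_noncomm hA hP (hle ha) (hle hb) ha.1 hb.1 hne)
    fun p hp => mem_centralizer_singleton_iff.2 (hc p hp)

theorem selfCent_cS {x : G} (hx : x ∈ (S : Subgroup G))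
    (hab : ∀ a ∈ cS S x, ∀ b ∈ cS S x, a * b = b * a) : SelfCent S (cS S x) :=
  ⟨inf_le_left, hab, fun _ hg hc => mem_cS.2 ⟨hg, hc x (mem_cS.2 ⟨hx, rfl⟩)⟩⟩

section Control

variable {α : Sort v} (f : G → α)
    (hN : ∀ n ∈ normalizer ((S : Subgroup G) : Set G), ∀ x ∈ (S : Subgroup G), f (n * x * n⁻¹) = f x)
    (hR : ∀ R : Subgroup G, Ess S R → ∀ u ∈ normalizer (R : Set G), TwoEl u → ∀ x ∈ R, f (u * x * u⁻¹) = f x)
include hN hR

theorem exists_full {x : G} (hx : x ∈ (S : Subgroup G)) :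
    ∃ n : G, n * x * n⁻¹ ∈ (S : Subgroup G) ∧ Full S (n * x * n⁻¹) ∧ f (n * x * n⁻¹) = f x := by
  haveI : Fact (Nat.Prime 2) := ⟨Nat.prime_two⟩
  by_cases hab : ∀ a ∈ cS S x, ∀ b ∈ cS S x, a * b = b * a
  swap
  · push Not at hab
    obtain ⟨a, ha, b, hb, hne⟩ := hab
    exact ⟨1, by simpa using hx, by simpa using full_of_noncomm hA hS ha hb hne, by simp⟩
  by_cases hF : Full S x
  · exact ⟨1, by simpa using hx, by simpa using hF, by simp⟩
  simp only [Full, not_forall] at hF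
  obtain ⟨P, hP, hc, hle, hnle⟩ := hF
  have h := selfCent_cS hA hS hx hab
  set R := cS S x with hRdef
  haveI := hP.isNilpotent
  have hlt : R.subgroupOf P < ⊤ := lt_top_iff_ne_top.2 fun e =>
    hnle fun p hp => (e ▸ mem_top (⟨p, hp⟩ : P) :)
  obtain ⟨⟨w, hwP⟩, hw, hw'⟩ := SetLike.exists_of_lt (Group.normalizerCondition_of_isNilpotent _ hlt)
  have hwN : w ∈ normalizer (R : Set G) :=
    mem_normalizer_fintype fun y hy => (mem_normalizer_iff.1 hw ⟨y, hle hy⟩).1 hy
  obtain ⟨n, hn, hnP⟩ := h.exists_conj hA hS (inf_le_right : NS S R ≤ _) le_rfl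
    (hP.to_le (inf_le_left : P ⊓ normalizer (R : Set G) ≤ P)) inf_le_right
  have hxR : x ∈ R := mem_cS.2 ⟨hx, rfl⟩
  set x' := n * x * n⁻¹
  have hx'R : x' ∈ R := (conj_mem_iff hn).2 hxR
  have hw'' := hnP w ⟨hwP, hwN⟩
  have hwR : n * w * n⁻¹ ∉ R := fun hm => hw' (show w ∈ R from (conj_mem_iff hn).1 hm)
  obtain ⟨r, hr, hne⟩ : ∃ r ∈ R, n * w * n⁻¹ * r ≠ r * (n * w * n⁻¹) := by
    by_contra! hall
    exact hwR (h.self _ hw''.1 hall)
  exact ⟨n, h.le hx'R, full_of_noncomm hA hS (mem_cS.2 ⟨hw''.1, conj_comm (hc w hwP) n⟩)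
    (mem_cS.2 ⟨h.le hr, h.comm r hr x' hx'R⟩) hne, h.invariant hA hS f hN hR hn hxR⟩

theorem full_transfer {x y g : G} (hx : x ∈ (S : Subgroup G)) (hy : y ∈ (S : Subgroup G))
    (hFx : Full S x) (hFy : Full S y) (e : g * x * g⁻¹ = y) : f y = f x := by
  haveI : Fact (Nat.Prime 2) := ⟨Nat.prime_two⟩
  -- each centraliser is conjugate into the other
  have key : ∀ {x y g : G}, Full S y → g * x * g⁻¹ = y →
      ∃ h : G, h * x * h⁻¹ = y ∧ ∀ p ∈ cS S x, h * p * h⁻¹ ∈ cS S y := by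
    intro x y g hFy e
    set C := centralizer ({y} : Set G) with hC
    have h2 : IsPGroup 2 ((cS S y).subgroupOf C) :=
      (S.isPGroup'.to_le (inf_le_left : cS S y ≤ (S : Subgroup G))).comap_of_injective C.subtype C.subtype_injective
    obtain ⟨Q, hQ⟩ := h2.exists_le_sylow
    have hQle : (Q : Subgroup C).map C.subtype ≤ cS S y :=
      hFy _ (Q.isPGroup'.map _) (by rintro _ ⟨c, -, rfl⟩; exact mem_centralizer_singleton_iff.1 c.2)
        fun p hp => ⟨⟨p, hp.2⟩, hQ hp, rfl⟩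
    have hPC : ∀ p ∈ cS S x, g * p * g⁻¹ ∈ C := fun p hp =>
      mem_centralizer_singleton_iff.2 (e ▸ conj_comm (mem_cS.1 hp).2 g)
    set P := (cS S x).map (MulAut.conj g).toMonoidHom with hP
    have hPC' : P ≤ C := by rintro _ ⟨p, hp, rfl⟩; exact hPC p hp
    obtain ⟨P', hP'⟩ := (((S.isPGroup'.to_le (inf_le_left : cS S x ≤ (S : Subgroup G))).map
      (MulAut.conj g).toMonoidHom).comap_of_injective C.subtype C.subtype_injective).exists_le_sylow
    obtain ⟨c, hc⟩ := MulAction.exists_smul_eq C P' Q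
    refine ⟨c * g, ?_, fun p hp => ?_⟩
    · rw [show (c : G) * g * x * ((c : G) * g)⁻¹ = c * (g * x * g⁻¹) * (c : G)⁻¹ by group, e,
        mem_centralizer_singleton_iff.1 c.2, mul_inv_cancel_right]
    · have h1 : c * ⟨g * p * g⁻¹, hPC p hp⟩ * c⁻¹ ∈ (Q : Subgroup C) := by
        rw [← hc]
        exact ⟨⟨g * p * g⁻¹, hPC p hp⟩, hP' (mem_map_of_mem (MulAut.conj g).toMonoidHom hp), rfl⟩
      rw [show (c : G) * g * p * ((c : G) * g)⁻¹ = c * (g * p * g⁻¹) * (c : G)⁻¹ by group]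
      exact hQle ⟨_, h1, rfl⟩
  obtain ⟨h, he, hp⟩ := key hFy e
  obtain ⟨h', he', hp'⟩ := key (x := y) (y := x) (g := g⁻¹) hFx (by rw [← e]; group)
  by_cases hab : ∀ a ∈ cS S y, ∀ b ∈ cS S y, a * b = b * a
  swap
  · push Not at hab
    obtain ⟨a, ha, b, hb, hne⟩ := hab
    have h'N := mem_normalizer_of_noncomm hA ha.1 hb.1 (hp' a ha).1 (hp' b hb).1 hne
    rw [← he']
    exact (hN h' h'N y hy).symm
  -- the abelian case
  have habx : ∀ a ∈ cS S x, ∀ b ∈ cS S x, a * b = b * a := fun a ha b hb =>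
    comm_of_conj (hab _ (hp a ha) _ (hp b hb))
  have h1 := selfCent_cS hA hS hx habx
  have h2 := selfCent_cS hA hS hy hab
  set R1 := cS S x with hR1
  set R2 := cS S y with hR2
  have hmap : R1.map (MulAut.conj h).toMonoidHom = R2 := by
    refine eq_of_le_of_card_ge ?_ ?_
    · rintro _ ⟨p, hp1, rfl⟩; exact hp p hp1
    · calc Nat.card R2 = Nat.card (R2.map (MulAut.conj h').toMonoidHom) :=
            (card_map_of_injective (MulAut.conj h').injective).symm
        _ ≤ Nat.card R1 := Nat.card_mono (Set.toFinite _) (by rintro _ ⟨p, hp2, rfl⟩; exact hp' p hp2)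
        _ = Nat.card (R1.map (MulAut.conj h).toMonoidHom) :=
            (card_map_of_injective (MulAut.conj h).injective).symm
  have hTN : ∀ t ∈ NS S R1, h * t * h⁻¹ ∈ normalizer (R2 : Set G) := fun t ht =>
    hmap ▸ mem_normalizer_conj ht.2
  obtain ⟨n, hn, hnP⟩ := h2.exists_conj hA hS (inf_le_right : NS S R2 ≤ _) le_rfl
    ((S.isPGroup'.to_le (inf_le_left : NS S R1 ≤ (S : Subgroup G))).map (MulAut.conj h).toMonoidHom)
    (by rintro _ ⟨t, ht, rfl⟩; exact hTN t ht)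
  obtain ⟨u, hu, z, hz, hne⟩ := h1.exists_pair hA hS
  have hzN : z ∈ NS S R1 := ⟨h1.le hz, le_normalizer hz⟩
  have hm : n * h ∈ normalizer ((S : Subgroup G) : Set G) := by
    refine mem_normalizer_of_noncomm hA hu.1 (h1.le hz) ?_ ?_ hne
    · rw [show n * h * u * (n * h)⁻¹ = n * (h * u * h⁻¹) * n⁻¹ by group]
      exact (hnP _ (mem_map_of_mem (MulAut.conj h).toMonoidHom hu)).1
    · rw [show n * h * z * (n * h)⁻¹ = n * (h * z * h⁻¹) * n⁻¹ by group]
      exact (hnP _ (mem_map_of_mem (MulAut.conj h).toMonoidHom hzN)).1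
  have hyR : y ∈ R2 := mem_cS.2 ⟨hy, rfl⟩
  have e1 := h2.invariant hA hS f hN hR hn hyR
  have e2 := hN _ hm x hx
  rw [show n * h * x * (n * h)⁻¹ = n * (h * x * h⁻¹) * n⁻¹ by group, he] at e2
  rw [← e1, e2]

/-- Fusion is controlled by `N(S)` and the 2-elements normalising essential subgroups. -/
theorem control {x g : G} (hx : x ∈ (S : Subgroup G)) (hgx : g * x * g⁻¹ ∈ (S : Subgroup G)) :
    f (g * x * g⁻¹) = f x := by
  obtain ⟨n1, h1, F1, e1⟩ := exists_full hA hS f hN hR hx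
  obtain ⟨n2, h2, F2, e2⟩ := exists_full hA hS f hN hR hgx
  rw [← e1, ← e2]
  exact full_transfer hA hS f hN hR h1 h2 F1 F2 (g := n2 * g * n1⁻¹) (by group)

end Control

/-- The transfer criterion. -/
theorem hom_eq_one [IsSimpleGroup G] (hG : ¬ IsMulCommutative G) {Q : Type v} [CommGroup Q] [Finite Q]
    (hQ : IsPGroup 2 Q) (φ : (S : Subgroup G) →* Q)
    (hN : ∀ n ∈ normalizer ((S : Subgroup G) : Set G), ∀ x y : (S : Subgroup G), (y : G) = n * x * n⁻¹ → φ y = φ x)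
    (hR : ∀ R : Subgroup G, Ess S R → ∀ u ∈ normalizer (R : Set G), TwoEl u →
      ∀ x y : (S : Subgroup G), (x : G) ∈ R → (y : G) = u * x * u⁻¹ → φ y = φ x)
    (x : (S : Subgroup G)) : φ x = 1 := by
  classical
  have hperf : commutator G = ⊤ := by
    rcases (inferInstance : (commutator G).Normal).eq_bot_or_eq_top with e | e
    · exact absurd ⟨⟨fun a b => commutatorElement_eq_one_iff_mul_comm.1 (mem_bot.1 (e ▸
        commutator_mem_commutator (mem_top a) (mem_top b)))⟩⟩ hG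
    · exact e
  refine SylowSplit.invariant_eq_one hperf S hQ φ (fun a b hab => ?_) x
  obtain ⟨g, hg⟩ := isConj_iff.1 hab
  let f : G → Q := fun z => if hz : z ∈ (S : Subgroup G) then φ ⟨z, hz⟩ else 1
  have hf : ∀ z : (S : Subgroup G), f z = φ z := fun z => dif_pos z.2
  rw [← hf a, ← hf b, ← hg]
  refine (control hA hS f (fun n hn z hz => ?_) (fun R hE u hu htu z hz => ?_) a.2 (hg ▸ b.2)).symm
  · have h1 : n * z * n⁻¹ ∈ (S : Subgroup G) := (conj_mem_iff hn).2 hz
    rw [show f (n * z * n⁻¹) = _ from dif_pos h1, show f z = _ from dif_pos hz]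
    exact hN n hn ⟨z, hz⟩ _ rfl
  · have h1 : u * z * u⁻¹ ∈ (S : Subgroup G) := hE.le ((conj_mem_iff hu).2 hz)
    rw [show f (u * z * u⁻¹) = _ from dif_pos h1, show f z = _ from dif_pos (hE.le hz)]
    exact hR R hE u hu htu ⟨z, hE.le hz⟩ _ hz rfl

end

end Cfsg.Agent.AbInter
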