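import Cfsg.Agent.Lib.AbInter.Large

/-!
A pair of mates of index two over the intersection: the chain of subgroups `⟨w⟩ Z ⟨v⟩` up to a normal subgroup of
index two.
-/

set_option autoImplicit false
set_option linter.unusedSectionVars false
set_option linter.style.haveILetI false

namespace Cfsg.Agent.AbInter

open Subgroup

universe u

variable {G : Type u} [Group G] [Finite G] {S : Sylow 2 G} {A A' : Subgroup G} {v d : G}

theorem coset_two {Z A : Subgroup G} (hle : Z ≤ A) (hcard : Nat.card A ≤ 2 * Nat.card Z) {v a : G} (hv : v ∈ A)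
    (hv' : v ∉ Z) (ha : a ∈ A) : a ∈ Z ∨ v⁻¹ * a ∈ Z := by
  have h1 := card_mul_index (Z.subgroupOf A)
  rw [Nat.card_congr (subgroupOfEquivOfLe hle).toEquiv] at h1
  have h2 : (Z.subgroupOf A).index ≤ 2 :=
    Nat.le_of_mul_le_mul_left (by rw [h1, mul_comm]; exact hcard) (Nat.card_pos (α := Z))
  have h3 : (Z.subgroupOf A).index ≠ 1 := fun e => hv'
    (mem_subgroupOf.1 ((index_eq_one.1 e).symm ▸ mem_top (⟨v, hv⟩ : A)))
  have h4 : (Z.subgroupOf A).index = 2 := by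
    have : (Z.subgroupOf A).index ≠ 0 := index_ne_zero_of_finite
    omega
  have h5 := mul_mem_iff_of_index_two h4 (a := (⟨v, hv⟩ : A)⁻¹) (b := ⟨a, ha⟩)
  by_cases haZ : a ∈ Z
  · exact Or.inl haZ
  · refine Or.inr (mem_subgroupOf.1 (h5.2 (iff_of_false (fun e => hv' ?_) haZ)) :)
    simpa [mem_subgroupOf] using e

theorem exists_odd_mul {m : ℤ} (hm : Odd m) (n : ℕ) (k : ℤ) : ∃ j : ℤ, (2 : ℤ) ^ n ∣ m * j - k := by
  obtain ⟨r, rfl⟩ := hm
  obtain ⟨a, b, hab⟩ := (show IsCoprime (2 : ℤ) (2 * r + 1) from ⟨-r, 1, by ring⟩).pow_left (m := n)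
  exact ⟨b * k, ⟨-(a * k), by linear_combination k * hab⟩⟩

/-- Mates `A`, `A'` of index two over their intersection, `v` an involution of `A` outside `A'` and `d` its
commutator with `A'`. -/
structure Setup (S : Sylow 2 G) (A A' : Subgroup G) (v d : G) : Prop where
  mate : Mate S A A'
  v_mem : v ∈ A
  v_sq : v * v = 1
  v_out : v ∉ A'
  small : ∀ a ∈ A, a ∈ A ⊓ A' ∨ v⁻¹ * a ∈ A ⊓ A'
  exch : ∃ σ, Exch S A A' σ
  d_eq : ∀ b ∈ A', b ∉ A → b * v * b⁻¹ * v⁻¹ = d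

theorem Setup.vS (st : Setup S A A' v d) : v ∈ (S : Subgroup G) := st.mate.ess.le st.v_mem

theorem Setup.v_inv (st : Setup S A A' v d) : v⁻¹ = v := inv_eq_of_mul_eq_one_right st.v_sq

theorem Setup.comm_z (st : Setup S A A' v d) {z : G} (hz : z ∈ A ⊓ A') : z * v = v * z :=
  st.mate.ess.comm z hz.1 v st.v_mem

theorem Setup.conj_sq (st : Setup S A A' v d) (g : G) : g * v * g⁻¹ * (g * v * g⁻¹) = 1 := by
  rw [show g * v * g⁻¹ * (g * v * g⁻¹) = g * (v * v) * g⁻¹ by group, st.v_sq]; group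

variable (hA : AbInt G) (hS : ∃ x ∈ (S : Subgroup G), ∃ y ∈ (S : Subgroup G), x * y ≠ y * x)
include hA hS

theorem Mate.setup (h : Mate S A A') (hnn : ¬ (S : Subgroup G) ≤ NS S A)
    (hc : Nat.card A ≤ 2 * Nat.card ↥(A ⊓ A')) {v b₀ : G} (hv : v ∈ A) (hv2 : v * v = 1) (hv' : v ∉ A')
    (hb : b₀ ∈ A') (hb' : b₀ ∉ A) : Setup S A A' v (b₀ * v * b₀⁻¹ * v⁻¹) := by
  obtain ⟨σ, hσ, hσN, hσ'⟩ := exists_mover hnn
  refine ⟨h, hv, hv2, hv', fun a ha => coset_two inf_le_left hc hv (fun e => hv' e.2) ha,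
    ⟨σ, ⟨hσ, hσN, hσ'⟩⟩, fun b hbA hbA' => ?_⟩
  have hc' : Nat.card A' ≤ 2 * Nat.card ↥(A' ⊓ A) := by rw [inf_comm, ← h.card_eq hA hS]; exact hc
  have hz : b₀⁻¹ * b ∈ A' ⊓ A :=
    (coset_two (Z := A' ⊓ A) inf_le_left hc' hb (fun e => hb' e.2) hbA).resolve_left fun e => hbA' e.2
  have h1 : b₀⁻¹ * b * v = v * (b₀⁻¹ * b) := h.ess.comm _ hz.2 v hv
  calc b * v * b⁻¹ * v⁻¹ = b₀ * (b₀⁻¹ * b * v) * (b₀⁻¹ * b)⁻¹ * b₀⁻¹ * v⁻¹ := by group
    _ = _ := by rw [h1]; group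

theorem Setup.exists_v' (st : Setup S A A' v d) : ∃ v' ∈ A', v' * v' = 1 ∧ v' ∉ A := by
  obtain ⟨σ, hσ⟩ := st.exch
  obtain ⟨k1, k2, k3⟩ := hσ.maps hA hS st.mate
  refine ⟨σ * v * σ⁻¹, k1 v st.v_mem, st.conj_sq σ, fun h1 => st.v_out ?_⟩
  obtain ⟨e1, -⟩ := st.mate.swap hA hS hσ.mem hσ.norm hσ.out
  obtain ⟨-, e2⟩ := st.mate.swap hA hS hσ.mem hσ.norm hσ.out
  rw [← e2] at h1
  obtain ⟨b, hb, e⟩ := h1
  have : b = v := (MulAut.conj σ).injective e
  exact this ▸ hb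

theorem Setup.d_facts (st : Setup S A A' v d) : d ∈ A ⊓ A' ∧ d * d = 1 ∧ d ≠ 1 := by
  obtain ⟨b, hb, -, hbA⟩ := st.exists_v' hA hS
  rw [← st.d_eq b hb hbA]
  refine ⟨st.mate.comm_mem st.v_mem hb, st.mate.comm_two hA hS st.v_mem hb, fun e => st.v_out ?_⟩
  exact st.mate.mem_of_comm hA hS st.v_mem hb hbA (mul_inv_eq_iff_eq_mul.1 (mul_inv_eq_one.1 e))

theorem Setup.sq_ne (st : Setup S A A' v d) {z : G} (hz : z ∈ A ⊓ A') : z * z ≠ d := fun e => by
  obtain ⟨b, hb, -, hbA⟩ := st.exists_v' hA hS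
  exact st.v_out (st.mate.mem_of_comm hA hS st.v_mem hb hbA
    (st.mate.comm_sq hA hS st.v_mem hb hz ((st.d_eq b hb hbA).trans e.symm)))

/-- An element of `A` outside `A'` is not fused in `S` into `A ⊓ A'`. -/
theorem Setup.not_conj (st : Setup S A A' v d) {g a : G} (hg : g ∈ (S : Subgroup G)) (ha : a ∈ A) (ha' : a ∉ A') :
    g * a * g⁻¹ ∉ A ⊓ A' := by
  intro hz
  obtain ⟨u, hu, x, hx, hne⟩ := st.mate.ess.toSelfCent.exists_pair hA hS
  have key : ∀ t ∈ NS S A, g⁻¹ * t * g ∈ A := fun t ht =>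
    st.mate.cS_le hA hS ha ha' (mul_mem (mul_mem (inv_mem hg) ht.1) hg)
      (comm_of_conj (g := g) (by simpa [mul_assoc] using st.mate.central hA hS hz ht))
  refine hne (comm_of_conj (g := g⁻¹) ?_)
  simpa [mul_assoc] using st.mate.ess.comm _ (key u hu) _ (key x (st.mate.le_left hx))

/-- The centraliser in `S` of a conjugate of an element of `A` outside `A'`. -/
theorem Setup.mem_of_comm_conj (st : Setup S A A' v d) {g a x : G} (hg : g ∈ (S : Subgroup G)) (ha : a ∈ A)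
    (ha' : a ∉ A') (hx : x ∈ (S : Subgroup G)) (hc : x * (g * a * g⁻¹) = g * a * g⁻¹ * x) : g⁻¹ * x * g ∈ A :=
  st.mate.cS_le hA hS ha ha' (mul_mem (mul_mem (inv_mem hg) hx) hg)
    (comm_of_conj (g := g) (by simpa [mul_assoc] using hc))

theorem Setup.stab (st : Setup S A A' v d) {g : G} (hg : g ∈ (S : Subgroup G)) (h : g * v * g⁻¹ ∈ A) :
    g ∈ NS S A := by
  refine ⟨hg, mem_normalizer_fintype fun x hx => ?_⟩
  have hnot : g * v * g⁻¹ ∉ A' := fun e => st.not_conj hA hS hg st.v_mem st.v_out ⟨h, e⟩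
  exact st.mate.cS_le hA hS h hnot (mul_mem (mul_mem hg (st.mate.ess.le hx)) (inv_mem hg))
    (conj_comm (st.mate.ess.comm x hx v st.v_mem) g)

theorem Setup.eq_conj (st : Setup S A A' v d) {R : Subgroup G} (hR : SelfCent S R) {g a : G}
    (hg : g ∈ (S : Subgroup G)) (ha : a ∈ A) (ha' : a ∉ A') (hmem : g * a * g⁻¹ ∈ R) :
    R = A.map (MulAut.conj g).toMonoidHom := by
  have hle : R ≤ A.map (MulAut.conj g).toMonoidHom := fun r hr =>
    conjMap_mem.2 (st.mem_of_comm_conj hA hS hg ha ha' (hR.le hr) (hR.comm r hr _ hmem))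
  refine le_antisymm hle fun x hx => ?_
  have hx' := st.mate.ess.toSelfCent.conj (le_normalizer hg : g ∈ normalizer ((S : Subgroup G) : Set G))
  exact hR.self x (hx'.le hx) fun r hr => hx'.comm x hx r (hle hr)

omit hA hS

/-- A subgroup `⟨w⟩ Z ⟨v⟩` with `v` inverting `w` of order `2 ^ i`. -/
structure Inv (S : Sylow 2 G) (A A' : Subgroup G) (v d : G) (P : Subgroup G) (w : G) (i : ℕ) : Prop where
  two_le : 2 ≤ i
  le : P ≤ (S : Subgroup G)
  le_T : NS S A ≤ P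
  mem : w ∈ P
  pow : w ^ 2 ^ (i - 1) = d
  inv : v * w * v⁻¹ = w⁻¹
  act : ∀ z ∈ A ⊓ A', ∃ u : ℤ, u % 4 = 1 ∧ z * w * z⁻¹ = w ^ u
  cover : ∀ p ∈ P, ∃ k : ℤ, ∃ z ∈ A ⊓ A', p = w ^ k * z ∨ p = w ^ k * v * z

variable {P : Subgroup G} {w : G} {i : ℕ}

theorem Inv.le_A (I : Inv S A A' v d P w i) (st : Setup S A A' v d) : A ≤ P := st.mate.le_left.trans I.le_T

theorem Inv.conj_v (I : Inv S A A' v d P w i) (k : ℤ) : v * w ^ k * v⁻¹ = w ^ (-k) := by
  rw [← conj_zpow, I.inv, inv_zpow']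

theorem Inv.conj_z (I : Inv S A A' v d P w i) {z : G} (hz : z ∈ A ⊓ A') :
    ∃ u : ℤ, u % 4 = 1 ∧ ∀ k : ℤ, z * w ^ k * z⁻¹ = w ^ (u * k) := by
  obtain ⟨u, hu, he⟩ := I.act z hz
  exact ⟨u, hu, fun k => by rw [← conj_zpow, he, ← zpow_mul]⟩

theorem odd_of_four {u : ℤ} (hu : u % 4 = 1) : Odd u := ⟨u / 2, by omega⟩

include hA hS

theorem Inv.ord (I : Inv S A A' v d P w i) (st : Setup S A A' v d) : orderOf w = 2 ^ i := by
  haveI : Fact (Nat.Prime 2) := ⟨Nat.prime_two⟩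
  obtain ⟨hd, hd2, hd1⟩ := st.d_facts hA hS
  have hi : i - 1 + 1 = i := by have := I.two_le; omega
  rw [← hi]
  refine orderOf_eq_prime_pow (by rw [I.pow]; exact hd1) ?_
  rw [pow_succ, pow_mul, I.pow, pow_two, hd2]

theorem Inv.one_iff (I : Inv S A A' v d P w i) (st : Setup S A A' v d) {k : ℤ} :
    w ^ k = 1 ↔ (2 : ℤ) ^ i ∣ k := by
  rw [← orderOf_dvd_iff_zpow_eq_one, I.ord hA hS st]
  norm_num

theorem Inv.zpow_inj (I : Inv S A A' v d P w i) (st : Setup S A A' v d) {k l : ℤ} :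
    w ^ k = w ^ l ↔ (2 : ℤ) ^ i ∣ k - l := by
  rw [← I.one_iff hA hS st, zpow_sub, mul_inv_eq_one]

theorem Inv.mem_A (I : Inv S A A' v d P w i) (st : Setup S A A' v d) {k : ℤ} (hk : w ^ k ∈ A) :
    (2 : ℤ) ^ (i - 1) ∣ k ∧ (w ^ k = 1 ∨ w ^ k = d) := by
  obtain ⟨hd, hd2, hd1⟩ := st.d_facts hA hS
  have h1 : w ^ k = w ^ (-k) := by
    rw [← I.conj_v, st.mate.ess.comm v st.v_mem _ hk]; group
  have h2 := (I.zpow_inj hA hS st).1 h1
  have hi : i = i - 1 + 1 := by have := I.two_le; omega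
  rw [hi, pow_succ, show k - -k = k * 2 by ring] at h2
  have h3 : (2 : ℤ) ^ (i - 1) ∣ k := Int.dvd_of_mul_dvd_mul_right (by norm_num) h2
  refine ⟨h3, ?_⟩
  obtain ⟨q, rfl⟩ := h3
  have hN : w ^ ((2 : ℤ) ^ (i - 1) * q) = d ^ q := by
    rw [zpow_mul, show ((2 : ℤ) ^ (i - 1)) = ((2 ^ (i - 1) : ℕ) : ℤ) by norm_num, zpow_natCast, I.pow]
  rw [hN]
  rcases Int.even_or_odd q with ⟨r, rfl⟩ | ⟨r, rfl⟩
  · left; rw [zpow_add, ← (Commute.refl d).mul_zpow, hd2, one_zpow]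
  · right; rw [zpow_add_one, two_mul, zpow_add, ← (Commute.refl d).mul_zpow, hd2, one_zpow, one_mul]

theorem Inv.zpow_d (I : Inv S A A' v d P w i) (st : Setup S A A' v d) (q : ℤ) :
    w ^ ((2 : ℤ) ^ (i - 1) * q) ∈ A ⊓ A' := by
  rw [zpow_mul, show ((2 : ℤ) ^ (i - 1)) = ((2 ^ (i - 1) : ℕ) : ℤ) by norm_num, zpow_natCast, I.pow]
  exact zpow_mem (st.d_facts hA hS).1 q

/-- An odd power of `w` generates it. -/
theorem Inv.odd_gen (I : Inv S A A' v d P w i) (st : Setup S A A' v d) {k : ℤ} (hk : Odd k) :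
    ∃ b : ℤ, w = (w ^ k) ^ b := by
  obtain ⟨b, hb⟩ := exists_odd_mul hk i 1
  refine ⟨b, ?_⟩
  rw [← zpow_mul]
  conv_lhs => rw [← zpow_one w]
  exact ((I.zpow_inj hA hS st).2 hb).symm

theorem Inv.card (I : Inv S A A' v d P w i) (st : Setup S A A' v d) :
    Nat.card P = 2 ^ (i - 1) * Nat.card A := by
  let f : Fin (2 ^ (i - 1)) × A → P := fun x =>
    ⟨w ^ ((x.1 : ℕ) : ℤ) * x.2, mul_mem (zpow_mem I.mem _) (I.le_A st x.2.2)⟩
  have hf : Function.Bijective f := by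
    constructor
    · rintro ⟨r, a⟩ ⟨r', a'⟩ e
      have e' : w ^ ((r : ℕ) : ℤ) * (a : G) = w ^ ((r' : ℕ) : ℤ) * (a' : G) := congrArg Subtype.val e
      have h1 : w ^ (((r : ℕ) : ℤ) - ((r' : ℕ) : ℤ)) = (a' : G) * (a : G)⁻¹ := by
        rw [zpow_sub, ← (show Commute (w ^ ((r' : ℕ) : ℤ))⁻¹ (w ^ ((r : ℕ) : ℤ)) from
          ((Commute.refl w).zpow_zpow _ _).inv_left).eq]
        calc (w ^ ((r' : ℕ) : ℤ))⁻¹ * w ^ ((r : ℕ) : ℤ) =
            (w ^ ((r' : ℕ) : ℤ))⁻¹ * (w ^ ((r : ℕ) : ℤ) * (a : G)) * (a : G)⁻¹ := by group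
          _ = _ := by rw [e']; group
      have h2 := (I.mem_A hA hS st (k := ((r : ℕ) : ℤ) - ((r' : ℕ) : ℤ))
        (by rw [h1]; exact mul_mem a'.2 (inv_mem a.2))).1
      have h3 : (r' : ℕ) ≡ (r : ℕ) [MOD 2 ^ (i - 1)] := Nat.modEq_iff_dvd.2 (by exact_mod_cast h2)
      have h4 : r' = r := Fin.ext (h3.eq_of_lt_of_lt r'.2 r.2)
      subst h4
      exact Prod.ext rfl (Subtype.ext (mul_left_cancel e'))
    · rintro ⟨p, hp⟩
      obtain ⟨k, z, hz, e⟩ := I.cover p hp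
      set N : ℤ := (2 : ℤ) ^ (i - 1) with hN
      have hN0 : 0 < N := by positivity
      obtain ⟨r, hr⟩ := Int.eq_ofNat_of_zero_le (Int.emod_nonneg k hN0.ne')
      have hrlt : r < 2 ^ (i - 1) := by
        have := Int.emod_lt_of_pos k hN0
        rw [hr, hN] at this
        exact_mod_cast this
      have hk : w ^ k = w ^ (r : ℤ) * w ^ (N * (k / N)) := by
        rw [← zpow_add, ← hr, Int.emod_add_mul_ediv]
      have hd := (I.zpow_d hA hS st (k / N)).1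
      rcases e with e | e
      · exact ⟨(⟨r, hrlt⟩, ⟨w ^ (N * (k / N)) * z, mul_mem hd hz.1⟩), Subtype.ext
          (show w ^ (r : ℤ) * (w ^ (N * (k / N)) * z) = p by rw [e, hk, mul_assoc])⟩
      · exact ⟨(⟨r, hrlt⟩, ⟨w ^ (N * (k / N)) * (v * z), mul_mem hd (mul_mem st.v_mem hz.1)⟩), Subtype.ext
          (show w ^ (r : ℤ) * (w ^ (N * (k / N)) * (v * z)) = p by rw [e, hk]; group)⟩
  rw [← Nat.card_eq_of_bijective f hf, Nat.card_prod, Nat.card_fin]

/-- The involutions of the chain member. -/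
theorem Inv.classify (I : Inv S A A' v d P w i) (st : Setup S A A' v d) {p : G} (hp : p ∈ P) (hp2 : p * p = 1) :
    p ∈ A ⊓ A' ∨ (∃ q ∈ P, ∃ a ∈ A, a ∉ A' ∧ p = q * a * q⁻¹) ∨
      ∃ k : ℤ, Odd k ∧ ∃ z ∈ A ⊓ A', z * z = 1 ∧ z * w = w * z ∧ p = w ^ k * v * z := by
  obtain ⟨k, z, hz, e⟩ := I.cover p hp
  obtain ⟨u, hu, hconj⟩ := I.conj_z hz
  obtain ⟨hd, hd2, hd1⟩ := st.d_facts hA hS
  have hsq : ∀ m : ℤ, w ^ m * (z * z) = 1 → z * z = 1 ∧ (2 : ℤ) ^ i ∣ m := by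
    intro m hm
    have h1 : w ^ m = (z * z)⁻¹ := eq_inv_of_mul_eq_one_left hm
    rcases (I.mem_A hA hS st (k := m) (h1 ▸ inv_mem (mul_mem hz.1 hz.1))).2 with h2 | h2
    · exact ⟨by rwa [h2, one_mul] at hm, (I.one_iff hA hS st).1 h2⟩
    · refine absurd ?_ (st.sq_ne hA hS hz)
      rw [h2] at h1
      rw [← inv_inv (z * z), ← h1]
      exact inv_eq_of_mul_eq_one_right hd2
  have hi : i = i - 1 + 1 := by have := I.two_le; omega
  rcases e with e | e
  · left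
    have h1 : w ^ (k + u * k) * (z * z) = 1 := by
      rw [← hp2, e, zpow_add, ← hconj]; group
    obtain ⟨-, hdvd⟩ := hsq _ h1
    obtain ⟨m, hm⟩ : ∃ m, 1 + u = 2 * m := ⟨(1 + u) / 2, by omega⟩
    have hmo : Odd m := ⟨m / 2, by omega⟩
    obtain ⟨b, hb⟩ := exists_odd_mul hmo (i - 1) 1
    have h2 : (2 : ℤ) ^ (i - 1) ∣ m * k := by
      refine Int.dvd_of_mul_dvd_mul_right (a := (2 : ℤ)) (by norm_num) ?_
      rw [← pow_succ, ← hi, show m * k * 2 = 2 * m * k by ring, ← hm, show (1 + u) * k = k + u * k by ring]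
      exact hdvd
    have h3 : (2 : ℤ) ^ (i - 1) ∣ k := by
      have := dvd_sub (h2.mul_left b) (hb.mul_left k)
      rwa [show b * (m * k) - k * (m * b - 1) = k by ring] at this
    obtain ⟨q, rfl⟩ := h3
    rw [e]
    exact mul_mem (I.zpow_d hA hS st q) hz
  · have hvz : v * z * (v * z) = z * z := by
      rw [sq_mul st.mate.ess.comm st.v_mem hz.1, st.v_sq, one_mul]
    have hc : ∀ m : ℤ, v * z * w ^ m * (v * z)⁻¹ = w ^ (-(u * m)) := fun m => by
      rw [show v * z * w ^ m * (v * z)⁻¹ = v * (z * w ^ m * z⁻¹) * v⁻¹ by group, hconj, I.conj_v]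
    have h1 : w ^ (k + -(u * k)) * (z * z) = 1 := by
      rw [← hp2, e, zpow_add, ← hc, ← hvz]; group
    obtain ⟨hz2, hdvd⟩ := hsq _ h1
    right
    rcases Int.even_or_odd k with ⟨k', rfl⟩ | hk
    · left
      obtain ⟨m, hm⟩ : ∃ m, 1 + u = 2 * m := ⟨(1 + u) / 2, by omega⟩
      have hmo : Odd m := ⟨m / 2, by omega⟩
      obtain ⟨j, hj⟩ := exists_odd_mul hmo (i - 1) k'
      have hdvd' : (2 : ℤ) ^ i ∣ j + u * j - (k' + k') := by
        rw [show j + u * j - (k' + k') = (m * j - k') * 2 by linear_combination j * hm, hi, pow_succ]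
        exact mul_dvd_mul_right hj 2
      refine ⟨w ^ j, zpow_mem I.mem j, v * z, mul_mem st.v_mem hz.1, fun e' => st.v_out ?_, ?_⟩
      · simpa using mul_mem e' (inv_mem hz.2)
      · rw [e, ← (I.zpow_inj hA hS st).2 hdvd', zpow_add, show u * j = -(u * -j) by ring, ← hc, zpow_neg]
        group
    · refine Or.inr ⟨k, hk, z, hz, hz2, ?_, e⟩
      obtain ⟨b, hb⟩ := I.odd_gen hA hS st hk
      have h2 : Commute z (w ^ k) := by
        refine mul_inv_eq_iff_eq_mul.1 ?_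
        rw [hconj]
        refine (I.zpow_inj hA hS st).2 ?_
        rw [show u * k - k = -(k + -(u * k)) by ring]
        exact hdvd.neg_right
      rw [hb]
      exact (h2.zpow_right b).eq

theorem Inv.change (I : Inv S A A' v d P w i) (st : Setup S A A' v d) {k : ℤ} {z : G} (hk : Odd k)
    (hz : z ∈ A ⊓ A') (hz2 : z * z = 1) (hc : z * w = w * z) : Inv S A A' v d P (w ^ k * z) i := by
  obtain ⟨hd, hd2, hd1⟩ := st.d_facts hA hS
  have hzi : z⁻¹ = z := inv_eq_of_mul_eq_one_right hz2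
  have hC : Commute (w ^ k) z := (show Commute w z from hc.symm).zpow_left k
  refine ⟨I.two_le, I.le, I.le_T, mul_mem (zpow_mem I.mem k) (I.le_A st hz.1), ?_, ?_, fun z' hz' => ?_,
    fun p hp => ?_⟩
  · have h2 : z ^ 2 ^ (i - 1) = 1 := by
      rw [show i - 1 = i - 2 + 1 by have := I.two_le; omega, pow_succ', pow_mul, pow_two, hz2, one_pow]
    rw [hC.mul_pow, h2, mul_one, ← zpow_natCast, ← zpow_mul, mul_comm, zpow_mul, zpow_natCast, I.pow]
    obtain ⟨r, rfl⟩ := hk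
    rw [zpow_add_one, two_mul, zpow_add, ← (Commute.refl d).mul_zpow, hd2, one_zpow, one_mul]
  · rw [show v * (w ^ k * z) * v⁻¹ = v * w ^ k * v⁻¹ * (v * z * v⁻¹) by group, I.conj_v, ← st.comm_z hz,
      mul_inv_cancel_right, mul_inv_rev, hzi, ← zpow_neg]
    exact ((show Commute w z from hc.symm).zpow_left (-k)).eq
  · obtain ⟨u, hu, hconj⟩ := I.conj_z hz'
    refine ⟨u, hu, ?_⟩
    have h2 : z ^ u = z := by
      obtain ⟨r, rfl⟩ := odd_of_four hu
      rw [zpow_add_one, two_mul, zpow_add, ← (Commute.refl z).mul_zpow, hz2, one_zpow, one_mul]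
    rw [hC.mul_zpow, h2, ← zpow_mul, mul_comm k u, ← hconj,
      show z' * (w ^ k * z) * z'⁻¹ = z' * w ^ k * z'⁻¹ * (z' * z * z'⁻¹) by group,
      st.mate.ess.comm z' hz'.1 z hz.1, mul_inv_cancel_right]
  · obtain ⟨b, hb⟩ := I.odd_gen hA hS st hk
    obtain ⟨m, z₀, hz₀, e⟩ := I.cover p hp
    have hw : w ^ m = (w ^ k * z) ^ (b * m) * z ^ (b * m) := by
      have h1 : Commute (w ^ k * z) z := hC.mul_left (Commute.refl z)
      rw [← h1.mul_zpow, mul_assoc, hz2, mul_one]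
      conv_lhs => rw [hb, ← zpow_mul]
    have hzm : z ^ (b * m) ∈ A ⊓ A' := zpow_mem hz _
    refine ⟨b * m, z ^ (b * m) * z₀, mul_mem hzm hz₀, ?_⟩
    rcases e with e | e
    · exact Or.inl (by rw [e, hw, mul_assoc])
    · refine Or.inr ?_
      rw [e, hw, mul_assoc, mul_assoc, ← mul_assoc (z ^ (b * m)), st.comm_z hzm]
      group

/-- An element of `S` outside moving `v` into the chain member. -/
theorem Inv.odd_of (I : Inv S A A' v d P w i) (st : Setup S A A' v d) {g : G} (hg : g ∈ (S : Subgroup G))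
    (hg' : g ∉ P) (h : g * v * g⁻¹ ∈ P) : ∃ w₁, Inv S A A' v d P w₁ i ∧ g * v * g⁻¹ = w₁ * v := by
  rcases I.classify hA hS st h (st.conj_sq g) with h1 | ⟨q, hq, a, ha, -, e⟩ | ⟨k, hk, z, hz, hz2, hzw, e⟩
  · exact absurd h1 (st.not_conj hA hS hg st.v_mem st.v_out)
  · refine absurd ?_ hg'
    have h2 : q⁻¹ * g * v * (q⁻¹ * g)⁻¹ = a := by
      calc q⁻¹ * g * v * (q⁻¹ * g)⁻¹ = q⁻¹ * (g * v * g⁻¹) * q := by group
        _ = _ := by rw [e]; group
    have h3 := mul_mem hq (I.le_T (st.stab hA hS (mul_mem (inv_mem (I.le hq)) hg) (h2.symm ▸ ha)))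
    rwa [mul_inv_cancel_left] at h3
  · exact ⟨_, I.change hA hS st hk hz hz2 hzw, by rw [e, mul_assoc, mul_assoc, st.comm_z hz]⟩

/-- Outside the chain member there is a single coset moving `v` into it. -/
theorem Inv.key (I : Inv S A A' v d P w i) (st : Setup S A A' v d) {n : G} (hn : n ∈ (S : Subgroup G))
    (hnN : n ∈ normalizer (P : Set G)) (hconj : n * v * n⁻¹ = w * v) {g : G} (hg : g ∈ (S : Subgroup G))
    (h : g * v * g⁻¹ ∈ P) : g ∈ P ∨ n⁻¹ * g ∈ P := by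
  rcases I.classify hA hS st h (st.conj_sq g) with h1 | ⟨q, hq, a, ha, -, e⟩ | ⟨k, hk, z, hz, -, hzw, e⟩
  · exact absurd h1 (st.not_conj hA hS hg st.v_mem st.v_out)
  · left
    have h2 : q⁻¹ * g * v * (q⁻¹ * g)⁻¹ = a := by
      calc q⁻¹ * g * v * (q⁻¹ * g)⁻¹ = q⁻¹ * (g * v * g⁻¹) * q := by group
        _ = _ := by rw [e]; group
    have h3 := mul_mem hq (I.le_T (st.stab hA hS (mul_mem (inv_mem (I.le hq)) hg) (h2.symm ▸ ha)))
    rwa [mul_inv_cancel_left] at h3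
  · right
    obtain ⟨r, rfl⟩ := hk
    have hzj : ∀ m : ℤ, Commute z (w ^ m) := fun m => (show Commute z w from hzw).zpow_right m
    have h1 : w ^ (-r) * (g * v * g⁻¹) * (w ^ (-r))⁻¹ = n * v * n⁻¹ * z := by
      rw [hconj, e, ← zpow_neg, neg_neg]
      calc w ^ (-r) * (w ^ (2 * r + 1) * v * z) * w ^ r = w ^ (-r) * w ^ (2 * r + 1) * v * (z * w ^ r) := by group
        _ = w ^ (r + 1) * v * (w ^ r * z) := by rw [(hzj r).eq, ← zpow_add]; ring_nf
        _ = w ^ (r + 1) * (v * w ^ r * v⁻¹) * (v * z) := by group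
        _ = _ := by rw [I.conj_v]; group
    have hzc : z * (n * v * n⁻¹) = n * v * n⁻¹ * z := by
      rw [hconj]; exact (Commute.mul_right (show Commute z w from hzw) (st.comm_z hz)).eq
    have hz' := st.mem_of_comm_conj hA hS hn st.v_mem st.v_out (st.mate.ess.le hz.1) hzc
    have h2 : n⁻¹ * (w ^ (-r) * g) * v * (n⁻¹ * (w ^ (-r) * g))⁻¹ = v * (n⁻¹ * z * n) := by
      calc n⁻¹ * (w ^ (-r) * g) * v * (n⁻¹ * (w ^ (-r) * g))⁻¹ =
          n⁻¹ * (w ^ (-r) * (g * v * g⁻¹) * (w ^ (-r))⁻¹) * n := by group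
        _ = _ := by rw [h1]; group
    have h3 := I.le_T (st.stab hA hS (mul_mem (inv_mem hn) (mul_mem (zpow_mem (I.le I.mem) _) hg))
      (h2.symm ▸ mul_mem st.v_mem hz'))
    have h4 : n⁻¹ * w ^ (-r) * n ∈ P := by simpa using (conj_mem_iff (inv_mem hnN)).2 (zpow_mem I.mem (-r))
    have h5 := mul_mem (inv_mem h4) h3
    rwa [show (n⁻¹ * w ^ (-r) * n)⁻¹ * (n⁻¹ * (w ^ (-r) * g)) = n⁻¹ * g by group] at h5

theorem Inv.base (st : Setup S A A' v d) : ∃ c, Inv S A A' v d (NS S A) c 2 := by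
  obtain ⟨v', hv', hv'2, hv'A⟩ := st.exists_v' hA hS
  obtain ⟨hd, hd2, hd1⟩ := st.d_facts hA hS
  have h := st.mate
  have hv'i : v'⁻¹ = v' := inv_eq_of_mul_eq_one_right hv'2
  have hde := st.d_eq v' hv' hv'A
  have hsm' : ∀ b ∈ A', b ∈ A ⊓ A' ∨ v'⁻¹ * b ∈ A ⊓ A' := by
    intro b hb
    by_cases hbA : b ∈ A
    · exact Or.inl ⟨hbA, hb⟩
    refine Or.inr ⟨?_, A'.mul_mem (A'.inv_mem hv') hb⟩
    have h1 : v'⁻¹ * b * v = v * (v'⁻¹ * b) := by
      have e1 : b * v * b⁻¹ = v' * v * v'⁻¹ := mul_right_cancel ((st.d_eq b hb hbA).trans hde.symm)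
      calc v'⁻¹ * b * v = v'⁻¹ * (b * v * b⁻¹) * b := by group
        _ = _ := by rw [e1]; group
    exact h.cS_le hA hS st.v_mem st.v_out (mul_mem (inv_mem (h.ess'.le hv')) (h.ess'.le hb)) h1
  refine ⟨v * v', ⟨le_rfl, inf_le_left, le_rfl, mul_mem (h.le_left st.v_mem) (h.le_right hv'), ?_, ?_,
    fun z hz => ⟨1, rfl, ?_⟩, fun p hp => ?_⟩⟩
  · show (v * v') ^ 2 = d
    rw [← inv_eq_of_mul_eq_one_right hd2, ← hde, hv'i, st.v_inv, pow_two, mul_inv_rev, mul_inv_rev, mul_inv_rev,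
      hv'i, st.v_inv]
    group
  · rw [mul_inv_rev, hv'i, ← mul_assoc, st.v_sq, one_mul]
  · rw [zpow_one, ← h.central hA hS hz (mul_mem (h.le_left st.v_mem) (h.le_right hv')), mul_inv_cancel_right]
  · obtain ⟨a, ha, b, hb, rfl⟩ := h.top hA hS hp
    have hzz : ∀ z ∈ A ⊓ A', ∀ t ∈ NS S A, t * z = z * t := fun z hz t ht => h.central hA hS hz ht
    rcases st.small a ha with ha' | ha' <;> rcases hsm' b hb with hb' | hb'
    · exact ⟨0, a * b, mul_mem ha' hb', Or.inl (by group)⟩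
    · refine ⟨-1, a * (v'⁻¹ * b), mul_mem ha' hb', Or.inr ?_⟩
      have h1 : v' = (v * v') ^ (-1 : ℤ) * v := by
        rw [zpow_neg_one, mul_inv_rev, mul_assoc, inv_mul_cancel, mul_one, hv'i]
      rw [← h1, ← mul_assoc, hzz a ha' v' (h.le_right hv')]
      group
    · exact ⟨0, v⁻¹ * a * b, mul_mem ha' hb', Or.inr (by group)⟩
    · refine ⟨1, v⁻¹ * a * (v'⁻¹ * b), mul_mem ha' hb', Or.inl ?_⟩
      rw [zpow_one, show v * v' * (v⁻¹ * a * (v'⁻¹ * b)) = v * (v' * (v⁻¹ * a)) * (v'⁻¹ * b) by group,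
        hzz _ ha' v' (h.le_right hv')]
      group

/-- A proper chain member extends to its normaliser in `S`. -/
theorem Inv.step (I : Inv S A A' v d P w i) (st : Setup S A A' v d) {n : G} (hn : n ∈ (S : Subgroup G))
    (hnN : n ∈ normalizer (P : Set G)) (hconj : n * v * n⁻¹ = w * v) (hne : ¬ (S : Subgroup G) ≤ NS S P) :
    ∃ w', Inv S A A' v d (NS S P) w' (i + 1) := by
  classical
  obtain ⟨hd, hd2, hd1⟩ := st.d_facts hA hS
  have hPN : P ≤ NS S P := le_inf I.le le_normalizer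
  obtain ⟨m, hm, hm', hmN⟩ := exists_normalizing S.isPGroup' (inf_le_left : NS S P ≤ (S : Subgroup G)) hne
  set y := m * v * m⁻¹ with hy
  have hvP : v ∈ P := I.le_A st st.v_mem
  have hyN : y ∈ NS S P := (conj_mem_iff hmN).2 (hPN hvP)
  have hyP : y ∉ P := fun e => hm' (by
    rcases I.key hA hS st hn hnN hconj hm e with h1 | h1
    · exact hPN h1
    · rw [show m = n * (n⁻¹ * m) by group]; exact mul_mem (show n ∈ NS S P from ⟨hn, hnN⟩) (hPN h1))
  obtain ⟨w₁, I₁, he⟩ := I.odd_of hA hS st hyN.1 hyP ((conj_mem_iff hyN.2).2 hvP)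
  have hy2 : y * y = 1 := st.conj_sq m
  have hyi : y⁻¹ = y := inv_eq_of_mul_eq_one_right hy2
  have hsplit : ∀ g ∈ NS S P, g ∈ P ∨ y⁻¹ * g ∈ P := fun g hg => by
    rcases I.key hA hS st hn hnN hconj hg.1 ((conj_mem_iff hg.2).2 hvP) with h1 | h1
    · exact Or.inl h1
    refine Or.inr ?_
    have h2 := (I.key hA hS st hn hnN hconj hyN.1 ((conj_mem_iff hyN.2).2 hvP)).resolve_left hyP
    rw [show y⁻¹ * g = (n⁻¹ * y)⁻¹ * (n⁻¹ * g) by group]
    exact mul_mem (inv_mem h2) h1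
  set w' := y * v with hw'
  have hw2 : w' * w' = w₁ := by
    rw [hyi] at he
    rw [hw', show y * v * (y * v) = y * v * y * v by group, he, mul_assoc, st.v_sq, mul_one]
  have hwinv : v * w' * v⁻¹ = w'⁻¹ := by
    rw [hw', mul_inv_rev y v, hyi, ← mul_assoc, mul_inv_cancel_right, st.v_inv]
  have hyw : y * w' * y⁻¹ = w'⁻¹ := by
    calc y * (y * v) * y⁻¹ = y * y * (v * y⁻¹) := by group
      _ = v * y⁻¹ := by rw [hy2, one_mul]
      _ = v⁻¹ * y⁻¹ := by rw [st.v_inv]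
      _ = (y * v)⁻¹ := (mul_inv_rev y v).symm
  have hsq : ∀ k : ℤ, w₁ ^ k = w' ^ (2 * k) := fun k => by rw [← hw2, zpow_mul, zpow_two]
  have hpow : w' ^ 2 ^ (i + 1 - 1) = d := by
    have h2 := I.two_le
    rw [show i + 1 - 1 = i - 1 + 1 by omega, pow_succ', pow_mul, pow_two, hw2, I₁.pow]
  haveI : Fact (Nat.Prime 2) := ⟨Nat.prime_two⟩
  have hord : orderOf w' = 2 ^ (i + 1) := by
    rw [Nat.add_sub_cancel] at hpow
    refine orderOf_eq_prime_pow (by rw [hpow]; exact hd1) ?_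
    rw [pow_succ, pow_mul, hpow, pow_two, hd2]
  have hinj : ∀ a b : ℤ, w' ^ a = w' ^ b → (2 : ℤ) ^ (i + 1) ∣ a - b := fun a b h => by
    have h1 : w' ^ (a - b) = 1 := by rw [zpow_sub, h, mul_inv_cancel]
    have h2 := orderOf_dvd_iff_zpow_eq_one.2 h1
    rw [hord] at h2
    exact_mod_cast h2
  have hyk : ∀ k : ℤ, w' ^ k * y * (w' ^ k)⁻¹ = w' ^ (2 * k) * y := fun k => by
    have h1 : y * (w' ^ k)⁻¹ * y⁻¹ = w' ^ k := by
      rw [← zpow_neg, ← conj_zpow, hyw, inv_zpow', neg_neg]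
    calc w' ^ k * y * (w' ^ k)⁻¹ = w' ^ k * (y * (w' ^ k)⁻¹ * y⁻¹) * y := by group
      _ = _ := by rw [h1, two_mul, zpow_add]
  -- every element is a power of `w'` times an element centralising `y`
  set C := A.map (MulAut.conj m).toMonoidHom with hC
  have hCy : ∀ c ∈ C, c * y * c⁻¹ = y := by
    rintro _ ⟨a, ha, rfl⟩
    refine mul_inv_eq_iff_eq_mul.2 ?_
    exact conj_comm (st.mate.ess.comm a ha v st.v_mem) m
  have hCN : C ≤ NS S P := by
    rintro _ ⟨a, ha, rfl⟩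
    exact (conj_mem_iff hmN).2 (hPN (I.le_A st ha))
  have hw'N : w' ∈ NS S P := mul_mem hyN (hPN hvP)
  let f : Fin (2 ^ i) × C → ↥(NS S P) := fun x =>
    ⟨w' ^ ((x.1 : ℕ) : ℤ) * x.2, mul_mem (zpow_mem hw'N _) (hCN x.2.2)⟩
  have hf : Function.Injective f := by
    rintro ⟨r, c⟩ ⟨r', c'⟩ e
    have e' : w' ^ ((r : ℕ) : ℤ) * (c : G) = w' ^ ((r' : ℕ) : ℤ) * (c' : G) := congrArg Subtype.val e
    have h1 : w' ^ (2 * ((r : ℕ) : ℤ)) * y = w' ^ (2 * ((r' : ℕ) : ℤ)) * y := by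
      rw [← hyk, ← hyk]
      conv_lhs => rw [← hCy c c.2]
      conv_rhs => rw [← hCy c' c'.2]
      calc _ = (w' ^ ((r : ℕ) : ℤ) * c) * y * (w' ^ ((r : ℕ) : ℤ) * c)⁻¹ := by group
        _ = _ := by rw [e']; group
    have h2 := hinj _ _ (mul_right_cancel h1)
    rw [pow_succ, ← mul_sub, mul_comm (2 : ℤ) (_ - _)] at h2
    have h2' : (2 : ℤ) ^ i ∣ ((r : ℕ) : ℤ) - ((r' : ℕ) : ℤ) := Int.dvd_of_mul_dvd_mul_right (by norm_num) h2
    have h3 : (r' : ℕ) ≡ (r : ℕ) [MOD 2 ^ i] := Nat.modEq_iff_dvd.2 (by exact_mod_cast h2')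
    have h4 : r' = r := Fin.ext (h3.eq_of_lt_of_lt r'.2 r.2)
    subst h4
    exact Prod.ext rfl (Subtype.ext (mul_left_cancel e'))
  have hcard : Nat.card ↥(NS S P) ≤ Nat.card (Fin (2 ^ i) × C) := by
    let g : ↥(NS S P) → Bool × P := fun x =>
      if h : (x : G) ∈ P then (true, ⟨x, h⟩) else (false, ⟨y⁻¹ * x, (hsplit x x.2).resolve_left h⟩)
    have hg : Function.Injective g := by
      intro a b e
      simp only [g] at e
      by_cases ha : (a : G) ∈ P <;> by_cases hb : (b : G) ∈ P <;> simp [ha, hb] at e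
      · exact e
      · exact e
    refine (Nat.card_le_card_of_injective g hg).trans_eq ?_
    rw [Nat.card_prod, Nat.card_prod, Nat.card_fin, I.card hA hS st, hC,
      card_map_of_injective (MulAut.conj m).injective, Nat.card_eq_fintype_card, Fintype.card_bool, ← mul_assoc,
      ← pow_succ', Nat.sub_add_cancel (by have := I.two_le; omega)]
  have hsurj := (hf.bijective_of_nat_card_le hcard).2
  refine ⟨w', ⟨by have := I.two_le; omega, inf_le_left, I.le_T.trans hPN, hw'N, hpow, hwinv,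
    fun z hz => ?_, fun g hg => ?_⟩⟩
  · obtain ⟨⟨r, c⟩, hrc⟩ := hsurj ⟨z, hPN (I.le_A st hz.1)⟩
    have hrc' : w' ^ ((r : ℕ) : ℤ) * (c : G) = z := congrArg Subtype.val hrc
    set k : ℤ := ((r : ℕ) : ℤ)
    have h1 : z * y * z⁻¹ = w' ^ (2 * k) * y := by
      rw [← hrc', ← hyk k]
      conv_rhs => rw [← hCy c c.2]
      group
    have h2 : z * w' * z⁻¹ = w' ^ (2 * k + 1) := by
      rw [hw', show z * (y * v) * z⁻¹ = z * y * z⁻¹ * (z * v * z⁻¹) by group, h1, st.comm_z hz,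
        mul_inv_cancel_right, ← hw', zpow_add_one, hw']
      group
    refine ⟨2 * k + 1, ?_, h2⟩
    obtain ⟨u, hu, hu'⟩ := I₁.act z hz
    have h3 : w' ^ (2 * (2 * k + 1)) = w' ^ (2 * u) := by
      rw [mul_comm 2 (2 * k + 1), zpow_mul, ← h2, zpow_two, ← hsq, ← hu', ← hw2]
      group
    have h4 := hinj _ _ h3
    have h5 : (4 : ℤ) ∣ 2 * k + 1 - u := by
      rw [pow_succ, ← mul_sub, mul_comm (2 : ℤ) (_ - _)] at h4
      refine dvd_trans ?_ (Int.dvd_of_mul_dvd_mul_right (by norm_num) h4)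
      rw [show (4 : ℤ) = 2 ^ 2 by norm_num]
      exact pow_dvd_pow 2 I.two_le
    omega
  · rcases hsplit g hg with h1 | h1
    · obtain ⟨k, z, hz, e⟩ := I₁.cover g h1
      exact ⟨2 * k, z, hz, by rwa [← hsq]⟩
    · obtain ⟨k, z, hz, e⟩ := I₁.cover _ h1
      have hy' : y = w' * v := by rw [hw', mul_assoc, st.v_sq, mul_one]
      refine ⟨1 - 2 * k, z, hz, ?_⟩
      have hc := conj_zpow (a := v) (b := w') (i := 2 * k)
      rw [hwinv, inv_zpow'] at hc
      have h2 : w' ^ (1 - 2 * k) = w' * (v * w' ^ (2 * k) * v⁻¹) := by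
        rw [← hc, sub_eq_add_neg, zpow_add, zpow_one]
      rcases e with e | e
      · refine Or.inr ?_
        rw [h2, ← hsq, show g = y * (y⁻¹ * g) by group, e, hy']
        group
      · refine Or.inl ?_
        rw [h2, ← hsq, show g = y * (y⁻¹ * g) by group, e, hy', st.v_inv]
        group

omit hA hS

/-- The last member of the chain: normal of index two, `n` outside with `n v n⁻¹ = w v`. -/
structure Top (S : Sylow 2 G) (A A' : Subgroup G) (v d : G) (P : Subgroup G) (w : G) (i : ℕ) (n : G) : Prop where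
  inv : Inv S A A' v d P w i
  n_mem : n ∈ (S : Subgroup G)
  n_out : n ∉ P
  conj : n * v * n⁻¹ = w * v
  normal : (S : Subgroup G) ≤ normalizer (P : Set G)
  cosets : ∀ g ∈ (S : Subgroup G), g ∈ P ∨ n⁻¹ * g ∈ P

include hA hS

theorem exists_top (st : Setup S A A' v d) : ∃ P w i n, Top S A A' v d P w i n := by
  suffices h : ∀ (m : ℕ) (P : Subgroup G) (w : G) (i : ℕ), Inv S A A' v d P w i → ¬ (S : Subgroup G) ≤ P →
      Nat.card G ≤ i + m → ∃ P w i n, Top S A A' v d P w i n by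
    obtain ⟨c, hc⟩ := Inv.base hA hS st
    obtain ⟨σ, hσ⟩ := st.exch
    exact h (Nat.card G) _ c 2 hc (fun hle => hσ.out (hle hσ.mem)) (Nat.le_add_left _ _)
  intro m
  induction m with
  | zero =>
    intro P w i I _ hb
    have h1 : orderOf w ≤ Nat.card G := orderOf_le_card
    rw [I.ord hA hS st] at h1
    have h2 : i < 2 ^ i := Nat.lt_two_pow_self
    omega
  | succ m ih =>
    intro P w i I hne hb
    obtain ⟨n, hn, hn', hnN⟩ := exists_normalizing S.isPGroup' I.le hne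
    obtain ⟨w₁, I₁, he⟩ := I.odd_of hA hS st hn hn' ((conj_mem_iff hnN).2 (I.le_A st st.v_mem))
    by_cases hle : (S : Subgroup G) ≤ NS S P
    · exact ⟨P, w₁, i, n, I₁, hn, hn', he, hle.trans inf_le_right, fun g hg =>
        I₁.key hA hS st hn hnN he hg ((conj_mem_iff (hle hg).2).2 (I.le_A st st.v_mem))⟩
    · obtain ⟨w', I'⟩ := I₁.step hA hS st hn hnN he hle
      exact ih _ w' _ I' hle (by omega)

variable {n : G}

omit hA hS in
theorem Top.quot (T : Top S A A' v d P w i n) {a b : G} (ha : a ∈ (S : Subgroup G)) (hb : b ∈ (S : Subgroup G))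
    (ha' : a ∉ P) (hb' : b ∉ P) : a⁻¹ * b ∈ P := by
  rw [show a⁻¹ * b = (n⁻¹ * a)⁻¹ * (n⁻¹ * b) by group]
  exact mul_mem (inv_mem ((T.cosets a ha).resolve_left ha')) ((T.cosets b hb).resolve_left hb')

theorem Top.change (T : Top S A A' v d P w i n) (st : Setup S A A' v d) {g : G} (hg : g ∈ (S : Subgroup G))
    (hg' : g ∉ P) : ∃ w', Top S A A' v d P w' i g := by
  obtain ⟨w', I', he⟩ := T.inv.odd_of hA hS st hg hg' ((conj_mem_iff (T.normal hg)).2 (T.inv.le_A st st.v_mem))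
  exact ⟨w', I', hg, hg', he, T.normal, fun x hx => or_iff_not_imp_left.2 fun h => T.quot hg hx hg' h⟩

theorem Top.card (T : Top S A A' v d P w i n) (st : Setup S A A' v d) :
    Nat.card (S : Subgroup G) = 2 ^ i * Nat.card A := by
  classical
  let f : Bool × P → (S : Subgroup G) := fun x =>
    if x.1 then ⟨x.2, T.inv.le x.2.2⟩ else ⟨n * x.2, mul_mem T.n_mem (T.inv.le x.2.2)⟩
  have hf : Function.Bijective f := by
    constructor
    · rintro ⟨a, p⟩ ⟨b, q⟩ e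
      have hno : ∀ p q : P, (p : G) ≠ n * q := fun p q e => T.n_out (by
        rw [show n = (p : G) * (q : G)⁻¹ by rw [e]; group]
        exact mul_mem p.2 (inv_mem q.2))
      cases a <;> cases b <;> simp [f] at e
      · simp [Subtype.ext_iff, e]
      · exact absurd e.symm (hno q p)
      · exact absurd e (hno p q)
      · simp [Subtype.ext_iff, e]
    · rintro ⟨g, hg⟩
      rcases T.cosets g hg with h1 | h1
      · exact ⟨(true, ⟨g, h1⟩), by simp [f]⟩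
      · exact ⟨(false, ⟨_, h1⟩), by simp [f]⟩
  rw [← Nat.card_eq_of_bijective f hf, Nat.card_prod, T.inv.card hA hS st, Nat.card_eq_fintype_card,
    Fintype.card_bool, ← mul_assoc, ← pow_succ', Nat.sub_add_cancel (by have := T.inv.two_le; omega)]

theorem Top.conj_sq_one (T : Top S A A' v d P w i n) (st : Setup S A A' v d) {z g : G} (hz : z ∈ A ⊓ A')
    (hz2 : z * z = 1) (hg : g ∈ (S : Subgroup G)) : g * z * g⁻¹ ∈ A ⊓ A' := by
  have hp2 : g * z * g⁻¹ * (g * z * g⁻¹) = 1 := by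
    rw [show g * z * g⁻¹ * (g * z * g⁻¹) = g * (z * z) * g⁻¹ by group, hz2]; group
  rcases T.inv.classify hA hS st ((conj_mem_iff (T.normal hg)).2 (T.inv.le_A st hz.1)) hp2 with
    h1 | ⟨q, hq, a, ha, ha', e⟩ | ⟨k, hk, z₂, hz₂, -, hzw, e⟩
  · exact h1
  · refine absurd ?_ (st.not_conj hA hS (g := g⁻¹ * q) (mul_mem (inv_mem hg) (T.inv.le hq)) ha ha')
    rw [show g⁻¹ * q * a * (g⁻¹ * q)⁻¹ = g⁻¹ * (q * a * q⁻¹) * g by group, ← e,
      show g⁻¹ * (g * z * g⁻¹) * g = z by group]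
    exact hz
  · exfalso
    obtain ⟨r, rfl⟩ := hk
    have hzc : z₂ * (n * v * n⁻¹) = n * v * n⁻¹ * z₂ := by
      rw [T.conj]; exact (Commute.mul_right (show Commute z₂ w from hzw) (st.comm_z hz₂)).eq
    have hb := st.mem_of_comm_conj hA hS T.n_mem st.v_mem st.v_out (st.mate.ess.le hz₂.1) hzc
    set b := n⁻¹ * z₂ * n with hbdef
    set h := n⁻¹ * w ^ (-r) * g with hh
    have hhS : h ∈ (S : Subgroup G) :=
      mul_mem (mul_mem (inv_mem T.n_mem) (zpow_mem (T.inv.le T.inv.mem) _)) hg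
    have he : h * z * h⁻¹ = v * b := by
      have h1 : v = n⁻¹ * (w * v) * n := by rw [← T.conj]; group
      calc h * z * h⁻¹ = n⁻¹ * (w ^ (-r) * (g * z * g⁻¹) * w ^ r) * n := by rw [hh]; group
        _ = n⁻¹ * (w ^ (r + 1) * v * (z₂ * w ^ r)) * n := by rw [e]; group
        _ = n⁻¹ * (w ^ (r + 1) * (v * w ^ r * v⁻¹) * (v * z₂)) * n := by
          rw [((show Commute z₂ w from hzw).zpow_right r).eq]; group
        _ = n⁻¹ * (w * v) * n * b := by rw [T.inv.conj_v, hbdef]; group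
        _ = _ := by rw [← h1]
    by_cases hb' : b ∈ A'
    · refine st.not_conj hA hS (g := h⁻¹) (inv_mem hhS) (mul_mem st.v_mem hb)
        (fun e' => st.v_out (by simpa only [mul_inv_cancel_right] using A'.mul_mem e' (A'.inv_mem hb'))) ?_
      rw [← he, show h⁻¹ * (h * z * h⁻¹) * h⁻¹⁻¹ = z by group]
      exact hz
    · refine st.not_conj hA hS T.n_mem hb hb' ?_
      rw [hbdef, show n * (n⁻¹ * z₂ * n) * n⁻¹ = z₂ by group]
      exact hz₂

/-- The involutions of `A ⊓ A'` are central in `P`. -/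
theorem Top.central (T : Top S A A' v d P w i n) (st : Setup S A A' v d) {z : G} (hz : z ∈ A ⊓ A')
    (hz2 : z * z = 1) {p : G} (hp : p ∈ P) : z * p = p * z := by
  have h1 := T.conj_sq_one hA hS st hz hz2 (inv_mem T.n_mem)
  rw [inv_inv] at h1
  have h2 : z * (w * v) = w * v * z := by
    have h3 := conj_comm (st.comm_z h1) n
    rwa [show n * (n⁻¹ * z * n) * n⁻¹ = z by group, T.conj] at h3
  have hzw : Commute z w := by
    have h3 := (show Commute z (w * v) from h2).mul_right ((show Commute z v from st.comm_z hz).inv_right)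
    rwa [mul_inv_cancel_right] at h3
  obtain ⟨k, z', hz', e⟩ := T.inv.cover p hp
  have hzz : Commute z z' := st.mate.ess.comm z hz.1 z' hz'.1
  rcases e with rfl | rfl
  · exact ((hzw.zpow_right k).mul_right hzz).eq
  · exact (((hzw.zpow_right k).mul_right (show Commute z v from st.comm_z hz)).mul_right hzz).eq

/-- The other involutions of `P` are conjugate to elements of `A` outside `A'`. -/
theorem Top.inv_conj (T : Top S A A' v d P w i n) (st : Setup S A A' v d) {p : G} (hp : p ∈ P) (hp2 : p * p = 1)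
    (hpZ : p ∉ A ⊓ A') : ∃ g ∈ (S : Subgroup G), ∃ a ∈ A, a ∉ A' ∧ p = g * a * g⁻¹ := by
  rcases T.inv.classify hA hS st hp hp2 with h1 | ⟨q, hq, a, ha, ha', e⟩ | ⟨k, hk, z, hz, hz2, hzw, e⟩
  · exact absurd h1 hpZ
  · exact ⟨q, T.inv.le hq, a, ha, ha', e⟩
  · obtain ⟨r, rfl⟩ := hk
    have hb := T.conj_sq_one hA hS st hz hz2 (inv_mem T.n_mem)
    rw [inv_inv] at hb
    refine ⟨w ^ r * n, mul_mem (zpow_mem (T.inv.le T.inv.mem) r) T.n_mem, v * (n⁻¹ * z * n),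
      mul_mem st.v_mem hb.1, fun e' => st.v_out (by simpa only [mul_inv_cancel_right] using A'.mul_mem e' (A'.inv_mem hb.2)), ?_⟩
    rw [e, show w ^ r * n * (v * (n⁻¹ * z * n)) * (w ^ r * n)⁻¹ = w ^ r * (n * v * n⁻¹) * z * w ^ (-r) by group,
      T.conj, mul_assoc (w ^ r * (w * v)), ((show Commute z w from hzw).zpow_right (-r)).eq,
      show w ^ r * (w * v) * (w ^ (-r) * z) = w ^ (r + 1) * (v * w ^ (-r) * v⁻¹) * v * z by group, T.inv.conj_v]
    group

theorem Top.not_abelian (T : Top S A A' v d P w i n) (st : Setup S A A' v d) : v * w ≠ w * v := by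
  intro e
  have h1 := T.inv.inv
  rw [e, mul_inv_cancel_right, eq_inv_iff_mul_eq_one] at h1
  have h2 : orderOf w ∣ 2 := orderOf_dvd_of_pow_eq_one (by rw [pow_two, h1])
  rw [T.inv.ord hA hS st] at h2
  have h3 : 4 ≤ 2 ^ i := le_trans (by norm_num) (Nat.pow_le_pow_right two_pos T.inv.two_le)
  have := Nat.le_of_dvd two_pos h2
  omega

/-- The essential subgroups inside `P`. -/
theorem Top.ess_le (T : Top S A A' v d P w i n) (st : Setup S A A' v d) {R : Subgroup G} (hR : Ess S R)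
    (hle : R ≤ P) : ∃ g ∈ (S : Subgroup G), R = A.map (MulAut.conj g).toMonoidHom := by
  obtain ⟨u, hu, hu', huN⟩ := exists_normalizing (S.isPGroup'.to_le T.inv.le) hle fun h =>
    T.not_abelian hA hS st (hR.comm v (h (T.inv.le_A st st.v_mem)) w (h T.inv.mem))
  obtain ⟨r, hr, hr2, hne⟩ := hR.exists_moved hA hS ⟨T.inv.le hu, huN⟩ hu'
  obtain ⟨g, hg, a, ha, ha', e⟩ := T.inv_conj hA hS st (hle hr) hr2 fun hrZ =>
    hne (T.central hA hS st hrZ hr2 hu).symm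
  exact ⟨g, hg, st.eq_conj hA hS hR.toSelfCent hg ha ha' (e ▸ hr)⟩

/-- An essential subgroup outside `P` has an involution outside `P`. -/
theorem Top.ess_out (T : Top S A A' v d P w i n) (st : Setup S A A' v d) {R : Subgroup G} (hR : Ess S R)
    (hle : ¬ R ≤ P) : ∃ y ∈ R, y * y = 1 ∧ y ∉ P := by
  obtain ⟨r₀, hr₀, hr₀'⟩ := SetLike.not_le_iff_exists.1 hle
  obtain ⟨u, hu, huR⟩ := hR.toSelfCent.exists_NS_notMem hA hS
  obtain ⟨u', hu'P, hu'N, hu'R⟩ : ∃ u' ∈ P, u' ∈ NS S R ∧ u' ∉ R := by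
    by_cases huP : u ∈ P
    · exact ⟨u, huP, hu, huR⟩
    · exact ⟨r₀⁻¹ * u, T.quot (hR.le hr₀) hu.1 hr₀' huP,
        mul_mem (inv_mem ⟨hR.le hr₀, le_normalizer hr₀⟩) hu, fun e => huR (by simpa using mul_mem hr₀ e)⟩
  obtain ⟨r, hr, hr2, hne⟩ := hR.exists_moved hA hS hu'N hu'R
  refine ⟨r, hr, hr2, fun hrP => hle ?_⟩
  obtain ⟨g, hg, a, ha, ha', e⟩ := T.inv_conj hA hS st hrP hr2 fun hrZ =>
    hne (T.central hA hS st hrZ hr2 hu'P).symm
  rw [st.eq_conj hA hS hR.toSelfCent hg ha ha' (e ▸ hr)]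
  rintro _ ⟨x, hx, rfl⟩
  exact (conj_mem_iff (T.normal hg)).2 (T.inv.le_A st hx)

/-- In a simple group some essential subgroup is outside `P`. -/
theorem Top.exists_out [IsSimpleGroup G] (hG : ¬ IsMulCommutative G) (T : Top S A A' v d P w i n)
    (st : Setup S A A' v d) : ∃ R : Subgroup G, Ess S R ∧ ¬ R ≤ P := by
  classical
  by_contra! hall
  let φ : ↥(S : Subgroup G) →* Multiplicative (ZMod 2) :=
    MonoidHom.mk' (fun x => if (x : G) ∈ P then 1 else Multiplicative.ofAdd 1) fun x y => by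
      rw [coe_mul]
      by_cases hx : (x : G) ∈ P <;> by_cases hy : (y : G) ∈ P
      · simp [hx, hy, mul_mem hx hy]
      · rw [if_pos hx, if_neg hy, if_neg fun e => hy (by simpa using mul_mem (inv_mem hx) e), one_mul]
      · rw [if_neg hx, if_pos hy, if_neg fun e => hx (by simpa using mul_mem e (inv_mem hy)), mul_one]
      · have h1 := T.quot (a := (x : G)⁻¹) (inv_mem x.2) y.2 (fun e => hx (by simpa using inv_mem e)) hy
        rw [inv_inv] at h1
        rw [if_neg hx, if_neg hy, if_pos h1]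
        decide +revert
  have hNP : ∀ m ∈ normalizer ((S : Subgroup G) : Set G), ∀ x ∈ P, m * x * m⁻¹ ∈ P := by
    intro m hm x hx
    have hAle : ∀ a ∈ A, m * a * m⁻¹ ∈ P := fun a ha =>
      hall _ (st.mate.ess.conj hm) (mem_map_of_mem (MulAut.conj m).toMonoidHom ha)
    have hwP : m * w * m⁻¹ ∈ P := by
      have h1 := hall _ ((st.mate.ess.conj (le_normalizer T.n_mem)).conj hm)
        (mem_map_of_mem (MulAut.conj m).toMonoidHom (mem_map_of_mem (MulAut.conj n).toMonoidHom st.v_mem))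
      have h2 := mul_mem (show m * (n * v * n⁻¹) * m⁻¹ ∈ P from h1) (inv_mem (hAle v st.v_mem))
      rwa [T.conj, show m * (w * v) * m⁻¹ * (m * v * m⁻¹)⁻¹ = m * w * m⁻¹ by group] at h2
    obtain ⟨k, z, hz, e⟩ := T.inv.cover x hx
    have hwk : m * w ^ k * m⁻¹ ∈ P := by rw [← conj_zpow]; exact zpow_mem hwP k
    rcases e with e | e <;> rw [e]
    · rw [show m * (w ^ k * z) * m⁻¹ = m * w ^ k * m⁻¹ * (m * z * m⁻¹) by group]
      exact mul_mem hwk (hAle z hz.1)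
    · rw [show m * (w ^ k * v * z) * m⁻¹ = m * w ^ k * m⁻¹ * (m * v * m⁻¹) * (m * z * m⁻¹) by group]
      exact mul_mem (mul_mem hwk (hAle v st.v_mem)) (hAle z hz.1)
  have hφ := hom_eq_one hA hS hG (IsPGroup.of_card (p := 2) (n := 1) (by simp)) φ (fun m hm x y e => ?_)
    (fun R hR u hu _ x y hx e => ?_) ⟨n, T.n_mem⟩
  · rw [show φ ⟨n, T.n_mem⟩ = _ from if_neg T.n_out] at hφ
    exact absurd hφ (fun e => by simpa using congrArg Multiplicative.toAdd e)
  · have hiff : (y : G) ∈ P ↔ (x : G) ∈ P := by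
      rw [e]
      refine ⟨fun h1 => ?_, hNP m hm _⟩
      have := hNP m⁻¹ (inv_mem hm) _ h1
      rwa [show m⁻¹ * (m * (x : G) * m⁻¹) * m⁻¹⁻¹ = x by group] at this
    show (if (y : G) ∈ P then (1 : Multiplicative (ZMod 2)) else _) = if (x : G) ∈ P then 1 else _
    simp only [hiff]
  · show (if (y : G) ∈ P then (1 : Multiplicative (ZMod 2)) else _) = if (x : G) ∈ P then 1 else _
    rw [if_pos (hall R hR (e ▸ (conj_mem_iff hu).2 hx)), if_pos (hall R hR hx)]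

end Cfsg.Agent.AbInter
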