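import Cfsg.Agent.Lib.AbInter.Offender

/-!
What a quadratic offender on an essential subgroup `R` gives: `N_S(R) = R B`, the fixed points of `B`, and, if
`|N_S(R) : R| = 2`, the commutators of the 2-elements of `N(R)` with `R`.
-/

set_option autoImplicit false
set_option linter.unusedSectionVars false
set_option linter.style.haveILetI false

namespace Cfsg.Agent.AbInter

open Subgroup FFEmb
open scoped Pointwise

universe u

variable {G : Type u} [Group G] [Finite G] {S : Sylow 2 G} {R B : Subgroup G}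

section

variable (hA : AbInt G) (hS : ∃ x ∈ (S : Subgroup G), ∃ y ∈ (S : Subgroup G), x * y ≠ y * x)
include hA hS

/-- The consequences of the offender theorem. -/
theorem Offend.out (D : Offend S R B) : QuadOut S R B := by
  haveI : Fact (Nat.Prime 2) := ⟨Nat.prime_two⟩
  haveI := finite_mulAut' ↥(AbInter.omega R D.ess.comm)
  letI := autAct (Aut1 R D.ess.comm)
  have h := D.ess
  obtain ⟨Bb, k, Q0, hoff, hmem, hcard, hconcl, hP, -, -, -, hT⟩ := offender hA hS D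
  set V := AbInter.omega R h.comm with hV
  set Cb := centralizer (B : Set G) with hCb
  have hfx : ∀ v : ↥V, (Additive.ofMul v : Additive ↥V) ∈ fx (Additive ↥V) Bb ↔ (v : G) ∈ Cb := by
    intro v
    constructor
    · intro hv
      refine mem_centralizer_iff.2 fun b hb => ?_
      have hbN : b ∈ normalizer (R : Set G) := (D.le hb).2
      have h1 := hv ⟨_, ⟨⟨b, hbN⟩, rfl⟩⟩ ((hmem _).2 ⟨⟨b, hbN⟩, hb, rfl⟩)
      exact mul_inv_eq_iff_eq_mul.1 (congrArg Subtype.val (congrArg Additive.toMul h1))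
    · intro hv g hg
      obtain ⟨b, hb, e⟩ := (hmem g).1 hg
      refine Additive.toMul.injective (Subtype.ext ?_)
      show (((g : MulAut ↥V) v : ↥V) : G) = v
      rw [← e]
      exact mul_inv_eq_iff_eq_mul.2 (mem_centralizer_iff.1 hv _ hb)
  have hfxcard : Nat.card (fx (Additive ↥V) Bb) = Nat.card ↥(V ⊓ Cb) := by
    refine Nat.card_congr
      { toFun := fun v => ⟨((Additive.toMul (v : Additive ↥V) : ↥V) : G), (Additive.toMul (v : Additive ↥V)).2,
          (hfx _).1 v.2⟩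
        invFun := fun v => ⟨Additive.ofMul ⟨v, v.2.1⟩, (hfx ⟨v, v.2.1⟩).2 v.2.2⟩
        left_inv := fun v => rfl
        right_inv := fun v => rfl }
  have hVR : V ≤ R := fun x hx => hx.1
  -- the index on the involutions is exactly `|B : B ∩ R|`
  have hq : Cb.relIndex V = Nat.card Bb := by
    have h1 := card_inf_mul_relIndex Cb V
    rw [inf_comm, ← hfxcard, hP.card_left] at h1
    have h2 : Nat.card ↥V = Nat.card Bb ^ 2 * Nat.card ↥(fx (Additive ↥V) Bb ⊓ fx (Additive ↥V) (conjS k Bb)) := by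
      rw [← hP.card_V]
      exact (Nat.card_congr (Additive.toMul (α := ↥V))).symm
    rw [h2, pow_two] at h1
    refine Nat.eq_of_mul_eq_mul_left (Nat.mul_pos (Nat.card_pos (α := Bb))
      (Nat.card_pos (α := ↥(fx (Additive ↥V) Bb ⊓ fx (Additive ↥V) (conjS k Bb))))) (h1.trans ?_)
    ring
  have hqR : Cb.relIndex R = Nat.card Bb := by
    refine le_antisymm ?_ (hq ▸ relIndex_le_of_le_right hVR (index_ne_zero_of_finite (H := Cb.subgroupOf R)))
    have h2 := card_inf_mul_relIndex Cb R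
    have h4 := D.bound
    rw [← hcard, ← h2, inf_comm] at h4
    refine Nat.le_of_mul_le_mul_left (c := Nat.card ↥(R ⊓ Cb) * Nat.card ↥(R ⊓ B)) ?_
      (Nat.mul_pos (Nat.card_pos (α := ↥(R ⊓ Cb))) (Nat.card_pos (α := ↥(R ⊓ B))))
    calc Nat.card ↥(R ⊓ Cb) * Nat.card ↥(R ⊓ B) * Cb.relIndex R
        = Nat.card ↥(R ⊓ Cb) * Cb.relIndex R * Nat.card ↥(R ⊓ B) := by ring
      _ ≤ _ := h4
      _ = _ := by ring
  have homega : ∀ a ∈ R, ∃ v ∈ R, v * v = 1 ∧ v⁻¹ * a ∈ Cb := by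
    let f : ↥V ⧸ Cb.subgroupOf V → ↥R ⧸ Cb.subgroupOf R := Quotient.map' (inclusion hVR) fun x y hxy => by
      rw [QuotientGroup.leftRel_apply] at hxy ⊢
      exact hxy
    have hinj : Function.Injective f := by
      intro x y
      induction x using QuotientGroup.induction_on with
      | _ x =>
      induction y using QuotientGroup.induction_on with
      | _ y =>
      intro hxy
      exact QuotientGroup.eq.2 (QuotientGroup.eq.1 hxy : _)
    have hbij : Function.Bijective f := (Nat.bijective_iff_injective_and_card f).2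
      ⟨hinj, by rw [← index_eq_card, ← index_eq_card]; exact hq.trans hqR.symm⟩
    intro a ha
    obtain ⟨x, hx⟩ := hbij.2 (QuotientGroup.mk ⟨a, ha⟩)
    obtain ⟨v, rfl⟩ := QuotientGroup.mk_surjective x
    exact ⟨v, v.2.1, v.2.2, (QuotientGroup.eq.1 hx : _)⟩
  have hne : ∀ b ∈ B, b ∉ R → ∀ bb : Aut1 R h.comm,
      (∀ v : ↥V, (((bb : MulAut ↥V) v : ↥V) : G) = b * v * b⁻¹) → bb ≠ 1 := by
    intro b hb hbR bb hbb e
    refine hbR ((h.centralizes hA hS).1 b (D.le hb) fun v hv hv2 => ?_)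
    have h1 := hbb ⟨v, hv, hv2⟩
    rw [e] at h1
    exact (mul_inv_eq_iff_eq_mul.1 h1.symm)
  have hfix : ∀ b ∈ B, b ∉ R → ∀ a ∈ R, b * a = a * b → a ∈ Cb := by
    intro b hb hbR a ha hba
    obtain ⟨v, hv, hv2, hz⟩ := homega a ha
    have hbv : b * v = v * b := by
      have hbz := mem_centralizer_iff.1 hz b hb
      rw [← mul_assoc] at hbz
      calc b * v = b * (a * (v⁻¹ * a)⁻¹) := by group
        _ = b * a * (v⁻¹ * a)⁻¹ := by group
        _ = a * (b * (v⁻¹ * a)⁻¹) := by rw [hba]; group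
        _ = a * ((v⁻¹ * a)⁻¹ * b) := by
          rw [mem_centralizer_iff.1 (inv_mem hz) b hb]
        _ = v * b := by group
    have hbN : b ∈ normalizer (R : Set G) := (D.le hb).2
    have h1 : (Additive.ofMul (⟨v, hv, hv2⟩ : ↥V) : Additive ↥V) ∈ fx (Additive ↥V) Bb := by
      refine hP.fix_eq ⟨_, ⟨⟨b, hbN⟩, rfl⟩⟩ ((hmem _).2 ⟨⟨b, hbN⟩, hb, rfl⟩)
        (hne b hb hbR _ fun w => rfl) _ ?_
      refine Additive.toMul.injective (Subtype.ext ?_)
      exact mul_inv_eq_iff_eq_mul.2 hbv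
    rw [show a = v * (v⁻¹ * a) by group]
    exact mul_mem ((hfx _).1 h1) hz
  have hsq : ∀ a ∈ R, a * a ∈ Cb := by
    intro a ha
    obtain ⟨v, hv, hv2, hz⟩ := homega a ha
    have hvz : v⁻¹ * a ∈ R := mul_mem (inv_mem hv) ha
    rw [show a * a = v * (v⁻¹ * a) * (v * (v⁻¹ * a)) by group, sq_mul h.comm hv hvz, hv2, one_mul]
    exact mul_mem hz hz
  refine ⟨fun u hu => ?_, ?_, hfix, homega, hsq, fun b hb => ?_, fun a ha b hb z hz hzC hcomm => ?_⟩
  · obtain ⟨b, hb, e⟩ := hT u hu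
    refine ⟨u * b⁻¹, ?_, b, hb, by group⟩
    refine h.self _ (mul_mem hu.1 (inv_mem (D.le hb).1)) fun a ha => ?_
    have hbN : b ∈ normalizer (R : Set G) := (D.le hb).2
    have h1 := e (b⁻¹ * a * b) (by simpa using (conj_mem_iff (inv_mem hbN)).2 ha)
    rw [show b * (b⁻¹ * a * b) * b⁻¹ = a by group] at h1
    calc u * b⁻¹ * a = u * (b⁻¹ * a * b) * u⁻¹ * (u * b⁻¹) := by group
      _ = _ := by rw [h1]
  · rw [← hcard, ← card_inf_mul_relIndex Cb R, hqR, inf_comm]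
    ring
  · refine (h.centralizes hA hS).1 _ (mul_mem (D.le hb) (D.le hb)) fun v hv hv2 => ?_
    set e := b * v * b⁻¹ * v⁻¹ with he
    have heC : b * e = e * b := mem_centralizer_iff.1 (D.quad v hv b hb) b hb
    have hbN : b ∈ normalizer (R : Set G) := (D.le hb).2
    have hbv : b * v * b⁻¹ = e * v := by rw [he]; group
    have he2 : e * e = 1 := by
      have hbv' : b * v * b⁻¹ ∈ R := (conj_mem_iff hbN).2 hv
      rw [he, sq_mul h.comm hbv' (inv_mem hv),
        show b * v * b⁻¹ * (b * v * b⁻¹) = b * (v * v) * b⁻¹ by group,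
        show v⁻¹ * v⁻¹ = (v * v)⁻¹ by group, hv2]
      group
    have hb2 : b * b * v * (b * b)⁻¹ = v := by
      calc b * b * v * (b * b)⁻¹ = b * (b * v * b⁻¹) * b⁻¹ := by group
        _ = b * e * (v * b⁻¹) := by rw [hbv]; group
        _ = e * (b * v * b⁻¹) := by rw [heC]; group
        _ = v := by rw [hbv, ← mul_assoc, he2, one_mul]
    exact mul_inv_eq_iff_eq_mul.1 hb2
  · -- a commutator which is a square is fixed by a conjugate offender
    by_cases hbR : b ∈ R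
    · exact h.comm b hbR a ha
    obtain ⟨v, hv, hv2, hz'⟩ := homega a ha
    have hbN : b ∈ normalizer (R : Set G) := (D.le hb).2
    have hvR : b * v * b⁻¹ ∈ R := (conj_mem_iff hbN).2 hv
    have he : b * v * b⁻¹ * v⁻¹ = z * z := by
      have h1 : b * (v⁻¹ * a) * b⁻¹ = v⁻¹ * a := mul_inv_eq_iff_eq_mul.2 (mem_centralizer_iff.1 hz' b hb)
      have hd : b * v * b⁻¹ * v⁻¹ ∈ R := mul_mem hvR (inv_mem hv)
      calc b * v * b⁻¹ * v⁻¹ = (b * v * b⁻¹) * (b * (v⁻¹ * a) * b⁻¹) * ((v⁻¹ * a)⁻¹ * v⁻¹) := by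
            rw [h1]; group
        _ = b * a * b⁻¹ * a⁻¹ := by group
        _ = z * z := hcomm
    have hzz : ∀ m ∈ normalizer (R : Set G), ∀ c ∈ B, m * c * m⁻¹ * (z * z) = z * z * (m * c * m⁻¹) := by
      intro m hm c hc
      have hz1 : m⁻¹ * z * m ∈ R := by simpa using (conj_mem_iff (inv_mem hm)).2 hz
      have h1 := conj_comm (mem_centralizer_iff.1 (hsq _ hz1) c hc) m
      rwa [show m * (m⁻¹ * z * m * (m⁻¹ * z * m)) * m⁻¹ = z * z by group] at h1
    obtain ⟨n, hn⟩ := (MonoidHom.mem_range).1 k.2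
    have h1 := hP.comm_inter ⟨_, ⟨⟨b, hbN⟩, rfl⟩⟩ ((hmem _).2 ⟨⟨b, hbN⟩, hb, rfl⟩)
      (Additive.ofMul (⟨v, hv, hv2⟩ : ↥V)) (mem_fx_conjS.2 fun g hg => ?_)
    · have h2 : b * v = v * b := mul_inv_eq_iff_eq_mul.1 (congrArg Subtype.val (congrArg Additive.toMul h1))
      have hbz := mem_centralizer_iff.1 hz' b hb
      calc b * a = b * v * (v⁻¹ * a) := by group
        _ = v * (b * (v⁻¹ * a)) := by rw [h2]; group
        _ = a * b := by rw [hbz]; group
    · obtain ⟨c, hc, e⟩ := (hmem g).1 hg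
      set w : ↥V := (omegaHom R h.comm ⟨b, hbN⟩) ⟨v, hv, hv2⟩ / ⟨v, hv, hv2⟩ with hw
      have hwv : (w : G) = z * z := by rw [hw, div_eq_mul_inv]; exact he
      refine Additive.toMul.injective (Subtype.ext ?_)
      show (((g : MulAut ↥V) (((k⁻¹ : Aut1 R h.comm) : MulAut ↥V) w) : ↥V) : G) =
        ((((k⁻¹ : Aut1 R h.comm) : MulAut ↥V) w : ↥V) : G)
      rw [← e, InvMemClass.coe_inv, ← hn, ← map_inv]
      show (c : G) * (((n⁻¹ : ↥(normalizer (R : Set G))) : G) * w * ((n⁻¹ : ↥(normalizer (R : Set G))) : G)⁻¹) *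
        (c : G)⁻¹ = ((n⁻¹ : ↥(normalizer (R : Set G))) : G) * w * ((n⁻¹ : ↥(normalizer (R : Set G))) : G)⁻¹
      refine mul_inv_eq_iff_eq_mul.2 ?_
      rw [InvMemClass.coe_inv, hwv]
      have h3 := hzz (n : G) n.2 c hc
      refine comm_of_conj (g := (n : G)) ?_
      simpa [mul_assoc] using h3

/-- An element centralising a subgroup of index two of `R` generates `N_S(R)` modulo `R`. -/
theorem Ess.top_of_index_two (h : Ess S R) {u : G} (hu : u ∈ NS S R) (hu' : u ∉ R)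
    (hc : ∀ a ∈ R, ∀ b ∈ R, u * a ≠ a * u → u * b ≠ b * u → u * (a⁻¹ * b) = a⁻¹ * b * u) :
    ∀ g ∈ NS S R, g ∈ R ∨ u⁻¹ * g ∈ R := by
  classical
  haveI : Fact (Nat.Prime 2) := ⟨Nat.prime_two⟩
  set C := R ⊓ centralizer ({u} : Set G) with hC
  have hcomm : ∀ a ∈ R, u * (u * a * u⁻¹ * a⁻¹) = u * a * u⁻¹ * a⁻¹ * u := by
    intro a ha
    have hua : u * a * u⁻¹ ∈ R := (conj_mem_iff hu.2).2 ha
    by_cases hca : u * a = a * u
    · rw [show u * a * u⁻¹ * a⁻¹ = 1 by rw [hca]; group, mul_one, one_mul]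
    have hne : u * (u * a * u⁻¹) ≠ u * a * u⁻¹ * u := fun e =>
      hca (mul_inv_eq_iff_eq_mul.1 (mul_left_cancel (e.trans (by group : _ = u * a))))
    rw [h.comm _ hua _ (inv_mem ha)]
    exact hc a ha _ hua hca hne
  have hcent : ∀ x, (∀ w ∈ zpowers u, w * x = x * w) ↔ u * x = x * u := fun x =>
    ⟨fun hx => hx u (mem_zpowers u), fun hx w hw => by
      obtain ⟨i, rfl⟩ := mem_zpowers_iff.1 hw
      exact ((show Commute u x from hx).zpow_left i).eq⟩
  have hCeq : R ⊓ centralizer (zpowers u : Set G) = C :=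
    le_antisymm (fun x hx => ⟨hx.1, mem_centralizer_singleton_iff.2 (mem_centralizer_iff.1 hx.2 u (mem_zpowers u)).symm⟩)
      (fun x hx => ⟨hx.1, mem_centralizer_iff.2 ((hcent x).2 (mem_centralizer_singleton_iff.1 hx.2).symm)⟩)
  have hquad : ∀ a ∈ R, ∀ b ∈ zpowers u, b * a * b⁻¹ * a⁻¹ ∈ centralizer (zpowers u : Set G) := by
    intro a ha b hb
    refine mem_centralizer_iff.2 ((hcent _).2 ?_)
    have hb' : b ∈ NS S R := zpowers_le.2 hu hb
    have hu2 : ∀ j : ℕ, u * (u ^ j * a * (u ^ j)⁻¹ * a⁻¹) = u ^ j * a * (u ^ j)⁻¹ * a⁻¹ * u := by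
      intro j
      induction j with
      | zero => simp
      | succ j ih =>
        have hx : u ^ j * a * (u ^ j)⁻¹ ∈ R := (conj_mem_iff (pow_mem hu.2 j)).2 ha
        have h1 := hcomm _ hx
        rw [show u ^ (j + 1) * a * (u ^ (j + 1))⁻¹ * a⁻¹ = (u * (u ^ j * a * (u ^ j)⁻¹) * u⁻¹ *
          (u ^ j * a * (u ^ j)⁻¹)⁻¹) * (u ^ j * a * (u ^ j)⁻¹ * a⁻¹) by rw [pow_succ']; group]
        exact ((show Commute u _ from h1).mul_right (show Commute u _ from ih)).eq
    obtain ⟨j, rfl⟩ := (mem_powers_iff_mem_zpowers (x := u)).2 hb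
    exact hu2 j
  have hbound : Nat.card R * Nat.card ↥(R ⊓ zpowers u) ≤
      Nat.card (zpowers u) * Nat.card ↥(R ⊓ centralizer (zpowers u : Set G)) := by
    rw [hCeq]
    have hR2 : Nat.card R ≤ 2 * Nat.card C := by
      have h1 := card_inf_mul_relIndex (centralizer ({u} : Set G)) R
      rw [inf_comm] at h1
      have h2 : (centralizer ({u} : Set G)).relIndex R ≤ 2 := by
        rw [relIndex, index_eq_card]
        have hinj : Function.Injective (fun q : ↥R ⧸ (centralizer ({u} : Set G)).subgroupOf R =>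
            decide ((q.out : G) * u = u * q.out)) := by
          intro x y hxy
          rw [← x.out_eq', ← y.out_eq']
          refine QuotientGroup.eq.2 (mem_subgroupOf.2 (mem_centralizer_singleton_iff.2 ?_))
          simp only [decide_eq_decide] at hxy
          rw [coe_mul, coe_inv]
          by_cases hxc : (x.out : G) * u = u * x.out
          · have hyc := hxy.1 hxc
            exact (((show Commute u _ from hxc.symm).inv_right).mul_right (show Commute u _ from hyc.symm)).symm.eq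
          · exact (hc _ x.out.2 _ y.out.2 (fun e => hxc e.symm) (fun e => hxc (hxy.2 e.symm))).symm
        exact (Nat.card_le_card_of_injective _ hinj).trans (by simp)
      calc Nat.card R = Nat.card C * (centralizer ({u} : Set G)).relIndex R := h1.symm
        _ ≤ Nat.card C * 2 := Nat.mul_le_mul_left _ h2
        _ = _ := mul_comm _ _
    have h3 := card_inf_mul_relIndex R (zpowers u)
    have h4 : 2 ≤ R.relIndex (zpowers u) := by
      by_contra hlt
      have : R.relIndex (zpowers u) = 1 := by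
        have : R.relIndex (zpowers u) ≠ 0 := index_ne_zero_of_finite
        omega
      exact hu' (relIndex_eq_one.1 this (mem_zpowers u))
    calc Nat.card R * Nat.card ↥(R ⊓ zpowers u) ≤ 2 * Nat.card C * Nat.card ↥(R ⊓ zpowers u) :=
          Nat.mul_le_mul_right _ hR2
      _ = Nat.card ↥(R ⊓ zpowers u) * 2 * Nat.card C := by ring
      _ ≤ Nat.card ↥(R ⊓ zpowers u) * R.relIndex (zpowers u) * Nat.card C :=
          Nat.mul_le_mul_right _ (Nat.mul_le_mul_left _ h4)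
      _ = _ := by rw [h3]
  have D : Offend S R (zpowers u) :=
    ⟨h, zpowers_le.2 hu, fun hle => hu' (hle (mem_zpowers u)), hquad, hbound⟩
  have hO := D.out hA hS
  intro g hg
  obtain ⟨r, hr, b, hb, rfl⟩ := hO.top g hg
  obtain ⟨j, rfl⟩ := (mem_powers_iff_mem_zpowers (x := u)).2 hb
  have hu2 : u * u ∈ R := hO.sq_right u (mem_zpowers u)
  have hp : ∀ j : ℕ, u ^ (2 * j) ∈ R := fun j => by rw [pow_mul, pow_two]; exact pow_mem hu2 j
  rcases Nat.even_or_odd' j with ⟨i, rfl | rfl⟩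
  · exact Or.inl (mul_mem hr (hp i))
  · refine Or.inr ?_
    show u⁻¹ * (r * u ^ (2 * i + 1)) ∈ R
    rw [pow_succ', show u⁻¹ * (r * (u * u ^ (2 * i))) = u⁻¹ * r * u * u ^ (2 * i) by group]
    exact mul_mem (by simpa using (conj_mem_iff (inv_mem hu.2)).2 hr) (hp i)

/-- If `|N_S(R) : R| = 2` the commutators of the 2-elements of `N(R)` with `R` fill a four group. -/
theorem Offend.two_case (D : Offend S R B) {b₀ : G} (hb₀ : b₀ ∈ B) (hb₀' : b₀ ∉ R)
    (h2 : ∀ b ∈ B, b ∈ R ∨ b₀⁻¹ * b ∈ R) :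
    ∃ v ∈ R, v * v = 1 ∧ b₀ * v ≠ v * b₀ ∧
      (∀ u ∈ normalizer (R : Set G), TwoEl u → ∀ x ∈ R,
        u * x * u⁻¹ * x⁻¹ ∈ ({1, b₀ * v * b₀⁻¹ * v⁻¹, v, b₀ * v * b₀⁻¹} : Set G)) ∧
      ∃ u₀ ∈ normalizer (R : Set G), TwoEl u₀ ∧ (∃ w ∈ R, u₀ * w * u₀⁻¹ * w⁻¹ = v) ∧
        (∀ x ∈ R, b₀ * x = x * b₀ → u₀ * x = x * u₀ →
          ∀ u ∈ normalizer (R : Set G), TwoEl u → u * x = x * u) ∧
        ∀ x ∈ R, ∀ y ∈ R, u₀ * x ≠ x * u₀ → u₀ * y ≠ y * u₀ → u₀ * (x⁻¹ * y) = x⁻¹ * y * u₀ := by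
  classical
  haveI : Fact (Nat.Prime 2) := ⟨Nat.prime_two⟩
  haveI := finite_mulAut' ↥(AbInter.omega R D.ess.comm)
  letI := autAct (Aut1 R D.ess.comm)
  have h := D.ess
  have hO := D.out hA hS
  obtain ⟨Bb, k, Q0, hoff, hmem, hcard, hconcl, hP, hP', hQ0, hk, hT⟩ := offender hA hS D
  have hsys := aut_sys hA hS h
  set V := AbInter.omega R h.comm with hV
  set N := normalizer (R : Set G) with hN
  have hb₀N : b₀ ∈ N := (D.le hb₀).2
  set β : Aut1 R h.comm := ⟨omegaHom R h.comm ⟨b₀, hb₀N⟩, ⟨_, rfl⟩⟩ with hβ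
  obtain ⟨n, hn⟩ := (MonoidHom.mem_range).1 k.2
  set b' : G := n * b₀ * (n : G)⁻¹ with hb'
  have hb'N : b' ∈ N := mul_mem (mul_mem n.2 hb₀N) (inv_mem n.2)
  have hact : ∀ g ∈ Bb, g = 1 ∨ g = β := by
    intro g hg
    obtain ⟨b, hb, e⟩ := (hmem g).1 hg
    have hone : ∀ r : N, (r : G) ∈ R → omegaHom R h.comm r = 1 := fun r hr =>
      MulEquiv.ext fun v => Subtype.ext (mul_inv_eq_iff_eq_mul.2 (h.comm _ hr _ v.2.1))
    rcases h2 b hb with hbR | hbR
    · exact Or.inl (Subtype.ext (e ▸ hone b hbR))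
    · refine Or.inr (Subtype.ext ?_)
      have h1 := hone (⟨b₀, hb₀N⟩⁻¹ * b) hbR
      rw [map_mul, map_inv, inv_mul_eq_one] at h1
      exact e.symm.trans h1.symm
  have hβB : β ∈ Bb := (hmem β).2 ⟨⟨b₀, hb₀N⟩, hb₀, rfl⟩
  have hcardB : Nat.card Bb = 2 := by
    refine le_antisymm ?_ ((one_lt_card_iff_ne_bot Bb).2 hoff.ne_bot)
    refine (Nat.card_le_card_of_injective (fun g : Bb => decide ((g : Aut1 R h.comm) = 1)) ?_).trans (by simp)
    intro x y hxy
    simp only [decide_eq_decide] at hxy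
    rcases hact _ x.2 with e | e <;> rcases hact _ y.2 with e' | e' <;>
      refine Subtype.ext ?_
    · rw [e, e']
    · exact e.trans (hxy.1 e).symm
    · exact (hxy.2 e').trans e'.symm
    · rw [e, e']
  -- the three nontrivial 2-elements of the automiser
  have hall : ∀ g : Aut1 R h.comm, FFEmb.IsPEl 2 g → g = 1 ∨ g = β ∨ g = k * β * k⁻¹ ∨
      g = β * (k * β * k⁻¹) * β⁻¹ := by
    intro g hg
    by_cases hg1 : g = 1
    · exact Or.inl hg1
    right
    obtain ⟨x, hx⟩ := hsys.exists_at hg.zpowers (zpowers_ne_bot.2 hg1)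
    have hgx := hx g (mem_zpowers g)
    haveI := Fintype.ofFinite (Sylow 2 (Aut1 R h.comm))
    have hx2 : x ∈ ({Q0, k • Q0, β • k • Q0} : Finset (Sylow 2 (Aut1 R h.comm))) := by
      have hβ1 : β ≠ 1 := fun e => hb₀' ((h.centralizes hA hS).1 b₀ (D.le hb₀) fun v hv hv2 => by
        have h1 := congrArg Subtype.val (DFunLike.congr_fun (congrArg Subtype.val e) ⟨v, hv, hv2⟩)
        exact mul_inv_eq_iff_eq_mul.1 h1)
      have hβQ : β • Q0 = Q0 := Sylow.smul_eq_iff_mem_normalizer.2 (le_normalizer ((hQ0 β).2 hβB))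
      have hd : β • k • Q0 ≠ k • Q0 := fun e =>
        hk (hsys.fix_unique hβ1 (isPEl_of_mem hoff.pgroup hβB) hβQ e).symm
      have hd2 : β • k • Q0 ≠ Q0 := fun e => hk (smul_left_cancel β (e.trans hβQ.symm))
      set P : Finset (Sylow 2 (Aut1 R h.comm)) :=
        Finset.univ.filter fun y => ∃ g ∈ (⊤ : Subgroup (Aut1 R h.comm)), g ≠ 1 ∧ IsPEl 2 g ∧ g • y = y with hPdef
      have hPc : P.card = 3 := by
        have := hconcl.points
        rw [hcardB, Nat.card_eq_fintype_card, Fintype.card_subtype] at this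
        exact this
      have hsub : ({Q0, k • Q0, β • k • Q0} : Finset (Sylow 2 (Aut1 R h.comm))) ⊆ P := by
        have hin : ∀ a : Aut1 R h.comm, a • Q0 ∈ P := fun a => by
          refine Finset.mem_filter.2 ⟨Finset.mem_univ _, a * β * a⁻¹, mem_top _, ?_, ?_, ?_⟩
          · intro e
            exact hβ1 (by rwa [mul_inv_eq_one, mul_eq_left] at e)
          · exact (isPEl_of_mem hoff.pgroup hβB).conj a
          · rw [mul_smul, mul_smul, inv_smul_smul, hβQ]
        intro y hy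
        simp only [Finset.mem_insert, Finset.mem_singleton] at hy
        rcases hy with rfl | rfl | rfl
        · simpa using hin 1
        · exact hin k
        · rw [← mul_smul]; exact hin _
      have heq := Finset.eq_of_subset_of_card_le hsub (by
        rw [hPc, Finset.card_insert_of_notMem, Finset.card_insert_of_notMem, Finset.card_singleton]
        · simpa using hd.symm
        · simp only [Finset.mem_insert, Finset.mem_singleton, not_or]
          exact ⟨hk.symm, hd2.symm⟩)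
      rw [heq]
      exact Finset.mem_filter.2 ⟨Finset.mem_univ x, g, mem_top g, hg1, hg, hgx⟩
    -- `g` is the involution with that fixed point
    have key : ∀ a : Aut1 R h.comm, g • (a • Q0) = a • Q0 → g = a * β * a⁻¹ := by
      intro a hga
      have hgQ : (a⁻¹ * g * a) • Q0 = Q0 := by rw [mul_smul, mul_smul, hga, inv_smul_smul]
      have hp : IsPEl 2 (a⁻¹ * g * a) := by simpa using hg.conj a⁻¹
      have hle := hconcl.le_node _ le_top hp.zpowers Q0
        (fun b hb => Sylow.smul_eq_iff_mem_normalizer.2 (le_normalizer ((hQ0 b).2 hb)))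
        (fun b hb => by
          obtain ⟨i, rfl⟩ := mem_zpowers_iff.1 hb
          exact MulAction.mem_stabilizer_iff.1 (zpow_mem (show a⁻¹ * g * a ∈ MulAction.stabilizer _ Q0 from hgQ) i))
      rcases hact _ (hle (mem_zpowers _)) with e | e
      · exact absurd (by rw [show g = a * (a⁻¹ * g * a) * a⁻¹ by group, e]; group) hg1
      · rw [← e]; group
    simp only [Finset.mem_insert, Finset.mem_singleton] at hx2
    rcases hx2 with rfl | rfl | rfl
    · exact Or.inl (by simpa using key 1 (by simpa using hgx))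
    · exact Or.inr (Or.inl (key k hgx))
    · refine Or.inr (Or.inr ?_)
      rw [key (β * k) (by rw [mul_smul]; exact hgx)]
      group
  -- actions on `R`
  have hR_act : ∀ u ∈ N, TwoEl u → ∀ x ∈ R,
      u * x * u⁻¹ = x ∨ u * x * u⁻¹ = b₀ * x * b₀⁻¹ ∨ u * x * u⁻¹ = b' * x * b'⁻¹ ∨
        u * x * u⁻¹ = b₀ * b' * b₀⁻¹ * x * (b₀ * b' * b₀⁻¹)⁻¹ := by
    intro u hu htu x hx
    set g : Aut1 R h.comm := ⟨omegaHom R h.comm ⟨u, hu⟩, ⟨_, rfl⟩⟩ with hg
    have hgp : IsPEl 2 g := by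
      obtain ⟨j, hj⟩ := htu
      refine ⟨j, Subtype.ext ?_⟩
      rw [SubmonoidClass.coe_pow, hg, ← map_pow, show (⟨u, hu⟩ : N) ^ 2 ^ j = 1 from Subtype.ext hj, map_one]
      rfl
    have hkey : ∀ w : N, (g : MulAut ↥V) = omegaHom R h.comm w → u * x * u⁻¹ = w * x * (w : G)⁻¹ :=
      fun w hw => omegaHom_eq_iff hA hS h (m := ⟨u, hu⟩) hw hx
    rcases hall g hgp with e | e | e | e
    · exact Or.inl (by simpa using hkey 1 (by rw [e, map_one]; rfl))
    · exact Or.inr (Or.inl (hkey ⟨b₀, hb₀N⟩ (by rw [e])))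
    · refine Or.inr (Or.inr (Or.inl (hkey (n * ⟨b₀, hb₀N⟩ * n⁻¹) ?_)))
      rw [e, map_mul, map_mul, map_inv, hn]; rfl
    · refine Or.inr (Or.inr (Or.inr (hkey (⟨b₀, hb₀N⟩ * (n * ⟨b₀, hb₀N⟩ * n⁻¹) * ⟨b₀, hb₀N⟩⁻¹) ?_)))
      rw [e, map_mul, map_mul, map_mul, map_mul, map_inv, map_inv, hn]; rfl
  -- `b₀` and `b'` fix subgroups of index two
  have hcard2 : Nat.card R = 2 * Nat.card ↥(R ⊓ centralizer (B : Set G)) := by
    refine Nat.eq_of_mul_eq_mul_right (Nat.card_pos (α := ↥(R ⊓ B))) ?_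
    rw [hO.card_eq, ← hcard, hcardB]; ring
  have hCb : ∀ x ∈ R, b₀ * x = x * b₀ → x ∈ R ⊓ centralizer (B : Set G) := fun x hx hxc =>
    ⟨hx, hO.fix b₀ hb₀ hb₀' x hx hxc⟩
  have hidx : ∀ x ∈ R, ∀ y ∈ R, b₀ * x ≠ x * b₀ → b₀ * y ≠ y * b₀ → b₀ * (x⁻¹ * y) = x⁻¹ * y * b₀ := by
    intro x hx y hy hx' hy'
    set C := R ⊓ centralizer (B : Set G)
    have hC : (C.subgroupOf R).index = 2 := by
      have h1 := card_mul_index (C.subgroupOf R)
      rw [Nat.card_congr (subgroupOfEquivOfLe (inf_le_left : C ≤ R)).toEquiv, hcard2] at h1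
      exact Nat.eq_of_mul_eq_mul_left (Nat.card_pos (α := C)) (h1.trans (mul_comm _ _))
    have hout : ∀ z : R, b₀ * (z : G) ≠ z * b₀ → z⁻¹ ∉ C.subgroupOf R := fun z hz hz' => hz (by
      have h1 : (z : G)⁻¹ ∈ centralizer (B : Set G) := (mem_subgroupOf.1 hz').2
      exact mem_centralizer_iff.1 (inv_mem_iff.1 h1) b₀ hb₀)
    have h3 := mul_mem_iff_of_index_two hC (a := (⟨x, hx⟩ : R)⁻¹) (b := ⟨y, hy⟩)
    have h4 : (⟨y, hy⟩ : R) ∉ C.subgroupOf R := fun h' => hout _ hy' (inv_mem h')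
    have h5 : (⟨x, hx⟩ : R)⁻¹ * ⟨y, hy⟩ ∈ C.subgroupOf R := h3.2 (iff_of_false (hout _ hx') h4)
    exact mem_centralizer_iff.1 (mem_subgroupOf.1 h5).2 b₀ hb₀
  have hidx' : ∀ x ∈ R, ∀ y ∈ R, b' * x ≠ x * b' → b' * y ≠ y * b' → b' * (x⁻¹ * y) = x⁻¹ * y * b' := by
    intro x hx y hy hx' hy'
    have hni : ∀ z ∈ R, (n : G)⁻¹ * z * n ∈ R := fun z hz => by simpa using (conj_mem_iff (inv_mem n.2)).2 hz
    have hne : ∀ z : G, b' * z ≠ z * b' → b₀ * ((n : G)⁻¹ * z * n) ≠ (n : G)⁻¹ * z * n * b₀ := fun z hz e =>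
      hz (comm_of_conj (g := (n : G)⁻¹) (by simpa [hb', mul_assoc] using e))
    refine comm_of_conj (g := (n : G)⁻¹) ?_
    simpa [hb', mul_assoc] using hidx _ (hni x hx) _ (hni y hy) (hne x hx') (hne y hy')
  -- an involution moved by `b'`, and the commutator
  obtain ⟨w, hw, hw2, hwne⟩ : ∃ w ∈ R, w * w = 1 ∧ b' * w ≠ w * b' := by
    obtain ⟨w, hw, hw2, hwne⟩ := h.exists_moved hA hS (D.le hb₀) hb₀'
    refine ⟨n * w * (n : G)⁻¹, (conj_mem_iff n.2).2 hw, ?_, fun e => hwne (comm_of_conj (g := (n : G)) e)⟩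
    rw [show (n : G) * w * (n : G)⁻¹ * ((n : G) * w * (n : G)⁻¹) = n * (w * w) * (n : G)⁻¹ by group, hw2]; group
  set v := b' * w * b'⁻¹ * w⁻¹ with hv
  have hb'w : b' * w * b'⁻¹ ∈ R := (conj_mem_iff hb'N).2 hw
  have hvR : v ∈ R := mul_mem hb'w (inv_mem hw)
  have hv2 : v * v = 1 := by
    rw [hv, sq_mul h.comm hb'w (inv_mem hw),
      show b' * w * b'⁻¹ * (b' * w * b'⁻¹) = b' * (w * w) * b'⁻¹ by group,
      show w⁻¹ * w⁻¹ = (w * w)⁻¹ by group, hw2]
    group
  have hvne : b₀ * v ≠ v * b₀ := by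
    intro e
    -- a commutator of `b'` fixed by the offender is trivial
    have hk' : (k * β * k⁻¹ : Aut1 R h.comm) ∈ conjS k Bb := ⟨β, hβB, rfl⟩
    have hval : ((k * β * k⁻¹ : Aut1 R h.comm) : MulAut ↥V) = omegaHom R h.comm ⟨b', hb'N⟩ := by
      rw [show (⟨b', hb'N⟩ : N) = n * ⟨b₀, hb₀N⟩ * n⁻¹ from rfl, map_mul, map_mul, map_inv, hn]
      rfl
    have h1 := hP'.comm_inter _ hk' (Additive.ofMul (⟨w, hw, hw2⟩ : ↥V)) fun g hg => ?_
    · refine hwne ?_
      have h1' := congrArg Subtype.val (congrArg Additive.toMul h1)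
      change ((((k * β * k⁻¹ : Aut1 R h.comm) : MulAut ↥V) ⟨w, hw, hw2⟩ : ↥V) : G) = w at h1'
      rw [hval] at h1'
      exact mul_inv_eq_iff_eq_mul.1 h1'
    · obtain ⟨b, hb, eg⟩ := (hmem g).1 hg
      refine Additive.toMul.injective (Subtype.ext ?_)
      show (((g : MulAut ↥V) (((k * β * k⁻¹ : Aut1 R h.comm) : MulAut ↥V) ⟨w, hw, hw2⟩ / ⟨w, hw, hw2⟩) : ↥V) : G) =
        ((((k * β * k⁻¹ : Aut1 R h.comm) : MulAut ↥V) ⟨w, hw, hw2⟩ / ⟨w, hw, hw2⟩ : ↥V) : G)
      rw [← eg, hval, div_eq_mul_inv]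
      show (b : G) * v * (b : G)⁻¹ = v
      exact mul_inv_eq_iff_eq_mul.2 (mem_centralizer_iff.1 (hCb v hvR e).2 b hb)
  have hval : ∀ (c : G), c ∈ N → (∀ x ∈ R, ∀ y ∈ R, c * x ≠ x * c → c * y ≠ y * c → c * (x⁻¹ * y) = x⁻¹ * y * c) →
      ∀ w ∈ R, c * w ≠ w * c → ∀ x ∈ R, c * x * c⁻¹ * x⁻¹ = 1 ∨ c * x * c⁻¹ * x⁻¹ = c * w * c⁻¹ * w⁻¹ := by
    intro c hc hidx w hw hwne x hx
    by_cases hcx : c * x = x * c
    · left; rw [hcx]; group
    right
    have h1 := hidx w hw x hx hwne hcx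
    have hcw : c * w * c⁻¹ ∈ R := (conj_mem_iff hc).2 hw
    calc c * x * c⁻¹ * x⁻¹ = (c * w * c⁻¹) * (c * (w⁻¹ * x) * c⁻¹) * ((w⁻¹ * x)⁻¹ * w⁻¹) := by group
      _ = c * w * c⁻¹ * w⁻¹ := by rw [h1]; group
  refine ⟨v, hvR, hv2, hvne, fun u hu htu x hx => ?_, b', hb'N, twoEl_conj (twoEl_of_mem S.isPGroup' (D.le hb₀).1) n,
    ⟨w, hw, hv.symm⟩, fun x hx hx₀ hx' u hu htu => ?_, hidx'⟩
  · simp only [Set.mem_insert_iff, Set.mem_singleton_iff]
    rcases hR_act u hu htu x hx with e | e | e | e <;> rw [e]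
    · left; group
    · rcases hval b₀ hb₀N hidx v hvR hvne x hx with e' | e'
      · exact Or.inl e'
      · exact Or.inr (Or.inl e')
    · rcases hval b' hb'N hidx' w hw hwne x hx with e' | e'
      · exact Or.inl e'
      · exact Or.inr (Or.inr (Or.inl e'))
    · have hy : b₀⁻¹ * x * b₀ ∈ R := by simpa using (conj_mem_iff (inv_mem hb₀N)).2 hx
      have e2 : b₀ * b' * b₀⁻¹ * x * (b₀ * b' * b₀⁻¹)⁻¹ * x⁻¹ =
          b₀ * (b' * (b₀⁻¹ * x * b₀) * b'⁻¹ * (b₀⁻¹ * x * b₀)⁻¹) * b₀⁻¹ := by group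
      rw [e2]
      rcases hval b' hb'N hidx' w hw hwne _ hy with e' | e'
      · left; rw [e']; group
      · exact Or.inr (Or.inr (Or.inr (by rw [e'])))
  · have h0 : b₀ * x * b₀⁻¹ = x := mul_inv_eq_iff_eq_mul.2 hx₀
    have h1 : b' * x * b'⁻¹ = x := mul_inv_eq_iff_eq_mul.2 hx'
    have h0' : b₀⁻¹ * x * b₀ = x := by
      conv_lhs => rw [← h0]
      group
    refine mul_inv_eq_iff_eq_mul.1 ?_
    rcases hR_act u hu htu x hx with e | e | e | e <;> rw [e]
    · exact h0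
    · exact h1
    · calc b₀ * b' * b₀⁻¹ * x * (b₀ * b' * b₀⁻¹)⁻¹ = b₀ * (b' * (b₀⁻¹ * x * b₀) * b'⁻¹) * b₀⁻¹ := by group
        _ = x := by rw [h0', h1, h0]

end

end Cfsg.Agent.AbInter
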