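import Cfsg.Agent.Lib.AbInter.Pair

/-!
No nonnormal essential subgroup has index at least four over the intersection with its mate in a simple group.
-/

set_option autoImplicit false
set_option linter.unusedSectionVars false
set_option linter.style.haveILetI false

namespace Cfsg.Agent.AbInter

open Subgroup

universe u

variable {G : Type u} [Group G] [Finite G] {S : Sylow 2 G} {A A' : Subgroup G}

/-- The central elements whose commutator with `σ` is an involution or trivial. -/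
def swapM (A A' : Subgroup G) (hc : ∀ a ∈ A, ∀ b ∈ A, a * b = b * a) (σ : G) : Subgroup G where
  carrier := {z | z ∈ A ⊓ A' ∧ σ * z * σ⁻¹ ∈ A ⊓ A' ∧
    σ * z * σ⁻¹ * z⁻¹ * (σ * z * σ⁻¹ * z⁻¹) = 1}
  one_mem' := ⟨one_mem _, by simp, by simp⟩
  mul_mem' := by
    rintro a b ⟨ha, ha', ha2⟩ ⟨hb, hb', hb2⟩
    have e : σ * (a * b) * σ⁻¹ * (a * b)⁻¹ = σ * a * σ⁻¹ * a⁻¹ * (σ * b * σ⁻¹ * b⁻¹) := by
      calc σ * (a * b) * σ⁻¹ * (a * b)⁻¹ = σ * a * σ⁻¹ * ((σ * b * σ⁻¹ * b⁻¹) * a⁻¹) := by group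
        _ = _ := by rw [hc _ (mul_mem hb'.1 (inv_mem hb.1)) _ (inv_mem ha.1)]; group
    refine ⟨mul_mem ha hb, ?_, ?_⟩
    · rw [show σ * (a * b) * σ⁻¹ = σ * a * σ⁻¹ * (σ * b * σ⁻¹) by group]; exact mul_mem ha' hb'
    · rw [e, sq_mul hc (mul_mem ha'.1 (inv_mem ha.1)) (mul_mem hb'.1 (inv_mem hb.1)), ha2, hb2, one_mul]
  inv_mem' := by
    rintro a ⟨ha, ha', ha2⟩
    have e : σ * a⁻¹ * σ⁻¹ * a⁻¹⁻¹ = (σ * a * σ⁻¹ * a⁻¹)⁻¹ := by
      rw [hc _ ha'.1 _ (inv_mem ha.1)]; group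
    refine ⟨inv_mem ha, ?_, ?_⟩
    · rw [show σ * a⁻¹ * σ⁻¹ = (σ * a * σ⁻¹)⁻¹ by group]; exact inv_mem ha'
    · rw [e, ← mul_inv_rev, ha2, inv_one]

theorem mem_swapM {hc : ∀ a ∈ A, ∀ b ∈ A, a * b = b * a} {σ z : G} :
    z ∈ swapM A A' hc σ ↔ z ∈ A ⊓ A' ∧ σ * z * σ⁻¹ ∈ A ⊓ A' ∧
      σ * z * σ⁻¹ * z⁻¹ * (σ * z * σ⁻¹ * z⁻¹) = 1 := Iff.rfl

theorem card_sup_le {X Y T : Subgroup G} (hX : X ≤ T) (hY : Y ≤ T) :
    Nat.card X * Nat.card Y ≤ Nat.card T * Nat.card ↥(X ⊓ Y) := by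
  have h1 := card_inf_mul_relIndex Y X
  have h2 := card_inf_mul_relIndex Y T
  have h3 : Y.relIndex X ≤ Y.relIndex T :=
    relIndex_le_of_le_right hX (index_ne_zero_of_finite (H := Y.subgroupOf T))
  rw [inf_comm] at h1
  rw [inf_eq_left.2 hY] at h2
  rw [← h1, ← h2]
  calc Nat.card ↥(X ⊓ Y) * Y.relIndex X * Nat.card Y ≤ Nat.card ↥(X ⊓ Y) * Y.relIndex T * Nat.card Y :=
        Nat.mul_le_mul_right _ (Nat.mul_le_mul_left _ h3)
    _ = _ := by ring

variable (hA : AbInt G) (hS : ∃ x ∈ (S : Subgroup G), ∃ y ∈ (S : Subgroup G), x * y ≠ y * x)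
include hA hS

/-- An element of `S` exchanging the mates and its action. -/
structure Exch (S : Sylow 2 G) (A A' : Subgroup G) (σ : G) : Prop where
  mem : σ ∈ (S : Subgroup G)
  norm : σ ∈ normalizer ((NS S A : Subgroup G) : Set G)
  out : σ ∉ NS S A

theorem Exch.maps (h : Mate S A A') {σ : G} (hσ : Exch S A A' σ) :
    (∀ a ∈ A, σ * a * σ⁻¹ ∈ A') ∧ (∀ b ∈ A', σ * b * σ⁻¹ ∈ A) ∧ ∀ z ∈ A ⊓ A', σ * z * σ⁻¹ ∈ A ⊓ A' := by
  obtain ⟨h1, h2⟩ := h.swap hA hS hσ.mem hσ.norm hσ.out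
  have k1 : ∀ a ∈ A, σ * a * σ⁻¹ ∈ A' := fun a ha => h1 ▸ mem_map_of_mem (MulAut.conj σ).toMonoidHom ha
  have k2 : ∀ b ∈ A', σ * b * σ⁻¹ ∈ A := fun b hb => h2 ▸ mem_map_of_mem (MulAut.conj σ).toMonoidHom hb
  exact ⟨k1, k2, fun z hz => ⟨k2 z hz.2, k1 z hz.1⟩⟩

/-- The abelian subgroups of `N_S(A)` centralised by an exchanging involution are small. -/
theorem swap_bound (h : Mate S A A') {σ : G} (hσ : Exch S A A' σ) (hσ2 : σ * σ = 1) {C : Subgroup G}
    (hCT : C ≤ NS S A) (hCc : ∀ a ∈ C, ∀ b ∈ C, a * b = b * a) (hCσ : ∀ t ∈ C, σ * t = t * σ) :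
    Nat.card C ≤ Nat.card (swapM A A' h.ess.comm σ) ∧
      ((∃ t ∈ C, t ∉ A ⊓ A') → ∃ z ∈ swapM A A' h.ess.comm σ, σ * z ≠ z * σ) := by
  classical
  obtain ⟨k1, k2, k3⟩ := hσ.maps hA hS h
  set Z := A ⊓ A' with hZ
  set M := swapM A A' h.ess.comm σ with hM
  have hσi : σ⁻¹ = σ := inv_eq_of_mul_eq_one_right hσ2
  have hinv : ∀ x : G, σ * (σ * x * σ⁻¹) * σ⁻¹ = x := fun x => by
    rw [hσi, show σ * (σ * x * σ) * σ = σ * σ * x * (σ * σ) by group, hσ2, one_mul, mul_one]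
  have hcz : ∀ z ∈ Z, ∀ u ∈ NS S A, u * z = z * u := fun z hz u hu => h.central hA hS hz hu
  -- decompositions
  have hdec : ∀ t ∈ C, ∃ a ∈ A, ∃ z ∈ M, t = a * (σ * a * σ⁻¹) * z ∧
      σ * z * σ⁻¹ * z⁻¹ = σ * a * σ⁻¹ * a * (σ * a * σ⁻¹)⁻¹ * a⁻¹ := by
    intro t ht
    obtain ⟨a₀, ha₀, b₀, hb₀, rfl⟩ := h.top hA hS (hCT ht)
    set a := σ * b₀ * σ⁻¹ with ha
    have haA : a ∈ A := k2 b₀ hb₀
    have hb : σ * a * σ⁻¹ = b₀ := hinv b₀
    have hfix : σ * a₀ * σ⁻¹ * a = a₀ * b₀ := by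
      rw [ha, show σ * a₀ * σ⁻¹ * (σ * b₀ * σ⁻¹) = σ * (a₀ * b₀) * σ⁻¹ by group]
      exact mul_inv_eq_iff_eq_mul.2 (hCσ _ ht)
    have he := h.comm_mem haA (k1 a₀ ha₀)
    set e := σ * a₀ * σ⁻¹ * a * (σ * a₀ * σ⁻¹)⁻¹ * a⁻¹ with hedef
    have hz0 : a⁻¹ * a₀ ∈ Z := by
      refine ⟨A.mul_mem (A.inv_mem haA) ha₀, ?_⟩
      have : a⁻¹ * a₀ = e * (σ * a₀ * σ⁻¹) * b₀⁻¹ := by
        have h1 : e * a * (σ * a₀ * σ⁻¹) = a₀ * b₀ := by rw [hedef, ← hfix]; group
        have h2 : a * e = e * a := hcz e he a (h.le_left haA)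
        calc a⁻¹ * a₀ = a⁻¹ * (a₀ * b₀) * b₀⁻¹ := by group
          _ = a⁻¹ * (a * e) * (σ * a₀ * σ⁻¹) * b₀⁻¹ := by rw [← h1, h2]; group
          _ = _ := by group
      rw [this]
      exact mul_mem (mul_mem he.2 (k1 a₀ ha₀)) (A'.inv_mem hb₀)
    set z := a⁻¹ * a₀ with hz
    have hzb : b₀ * z = z * b₀ := hcz z hz0 b₀ (h.le_right hb₀)
    have ht' : a₀ * b₀ = a * (σ * a * σ⁻¹) * z := by rw [hb, mul_assoc a b₀, hzb, hz]; group
    have hd : σ * z * σ⁻¹ * z⁻¹ = σ * a * σ⁻¹ * a * (σ * a * σ⁻¹)⁻¹ * a⁻¹ := by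
      have h1 : σ * a * σ⁻¹ * a * (σ * z * σ⁻¹) = a * (σ * a * σ⁻¹) * z := by
        conv_lhs => enter [1, 2]; rw [← hinv a]
        rw [show σ * a * σ⁻¹ * (σ * (σ * a * σ⁻¹) * σ⁻¹) * (σ * z * σ⁻¹) = σ * (a * (σ * a * σ⁻¹) * z) * σ⁻¹ by group,
          ← ht']
        exact mul_inv_eq_iff_eq_mul.2 (hCσ _ ht)
      have he2 := h.comm_two hA hS haA (k1 a haA)
      have hzz := hcz z hz0 (σ * a * σ⁻¹ * a) (mul_mem (h.le_right (k1 a haA)) (h.le_left haA))
      set x := σ * a * σ⁻¹ with hx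
      calc σ * z * σ⁻¹ * z⁻¹ = (x * a)⁻¹ * (x * a * (σ * z * σ⁻¹)) * z⁻¹ := by group
        _ = (x * a)⁻¹ * (a * x) := by rw [h1]; group
        _ = (x * a)⁻¹ * ((x * a * x⁻¹ * a⁻¹)⁻¹ * (x * a)) := by group
        _ = _ := by
          rw [← hcz _ (inv_mem (h.comm_mem haA (k1 a haA))) (x * a) (mul_mem (h.le_right (k1 a haA)) (h.le_left haA)),
            inv_mul_cancel_left]
          exact inv_eq_of_mul_eq_one_right he2
    refine ⟨a, haA, z, mem_swapM.2 ⟨hz0, k3 z hz0, ?_⟩, ht', hd⟩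
    rw [hd]
    exact h.comm_two hA hS haA (k1 a haA)
  choose fa hfa fz hfz hft hfd using hdec
  -- well defined
  have huniq : ∀ {a a' z z' : G}, a ∈ A → a' ∈ A → z ∈ Z → z' ∈ Z →
      a * (σ * a * σ⁻¹) * z = a' * (σ * a' * σ⁻¹) * z' → σ * (z⁻¹ * z') = z⁻¹ * z' * σ := by
    intro a a' z z' ha ha' hz hz' e
    have h0 : a⁻¹ * a' ∈ Z := by
      refine ⟨A.mul_mem (A.inv_mem ha) ha', ?_⟩
      have : a⁻¹ * a' = σ * a * σ⁻¹ * z * z'⁻¹ * (σ * a' * σ⁻¹)⁻¹ := by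
        calc a⁻¹ * a' = a⁻¹ * (a' * (σ * a' * σ⁻¹) * z') * z'⁻¹ * (σ * a' * σ⁻¹)⁻¹ := by group
          _ = _ := by rw [← e]; group
      rw [this]
      exact mul_mem (mul_mem (mul_mem (k1 a ha) hz.2) (A'.inv_mem hz'.2)) (A'.inv_mem (k1 a' ha'))
    set z0 := a⁻¹ * a' with hz0
    have e' : z = z0 * (σ * z0 * σ⁻¹) * z' := by
      have h3 : a' = a * z0 := by rw [hz0]; group
      rw [h3, show σ * (a * z0) * σ⁻¹ = σ * a * σ⁻¹ * (σ * z0 * σ⁻¹) by group] at e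
      have h4 := hcz z0 h0 (σ * a * σ⁻¹) (h.le_right (k1 a ha))
      calc z = (a * (σ * a * σ⁻¹))⁻¹ * (a * (σ * a * σ⁻¹) * z) := by group
        _ = (a * (σ * a * σ⁻¹))⁻¹ * (a * (z0 * (σ * a * σ⁻¹)) * (σ * z0 * σ⁻¹) * z') := by rw [e]; group
        _ = _ := by rw [← h4]; group
    have h5 : σ * (z0 * (σ * z0 * σ⁻¹)) * σ⁻¹ = z0 * (σ * z0 * σ⁻¹) := by
      rw [show σ * (z0 * (σ * z0 * σ⁻¹)) * σ⁻¹ = σ * z0 * σ⁻¹ * (σ * (σ * z0 * σ⁻¹) * σ⁻¹) by group, hinv]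
      exact hcz z0 h0 _ (h.le_left (k3 z0 h0).1)
    have h6 : z⁻¹ * z' = (z0 * (σ * z0 * σ⁻¹))⁻¹ := by
      have h7 := hcz z' hz' _ (h.le_left (mul_mem h0.1 (k3 z0 h0).1))
      rw [e', h7]; group
    rw [h6]
    exact (show Commute σ _ from mul_inv_eq_iff_eq_mul.1 h5).inv_right.eq
  letI : CommGroup M := { M.toGroup with mul_comm := fun a b => Subtype.ext (h.ess.comm _ a.2.1.1 _ b.2.1.1) }
  set Zσ := (centralizer ({σ} : Set G)).subgroupOf M with hZσ
  have hmk : ∀ {z z' : G} (hz : z ∈ M) (hz' : z' ∈ M), σ * (z⁻¹ * z') = z⁻¹ * z' * σ →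
      (QuotientGroup.mk ⟨z, hz⟩ : M ⧸ Zσ) = QuotientGroup.mk ⟨z', hz'⟩ := fun hz hz' e =>
    QuotientGroup.eq.2 (mem_subgroupOf.2 (mem_centralizer_singleton_iff.2 (by simpa using e.symm)))
  let f : C →* M ⧸ Zσ := MonoidHom.mk' (fun t => QuotientGroup.mk ⟨fz t t.2, hfz t t.2⟩) fun t t' => by
    rw [← QuotientGroup.mk_mul]
    set a := fa t t.2
    set a' := fa t' t'.2
    set z := fz t t.2
    set z' := fz t' t'.2
    have ha : a ∈ A := hfa t t.2
    have ha' : a' ∈ A := hfa t' t'.2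
    have hzZ : z ∈ Z := (hfz t t.2).1
    have hz'Z : z' ∈ Z := (hfz t' t'.2).1
    set x := σ * a * σ⁻¹ with hx
    set x' := σ * a' * σ⁻¹ with hx'
    set e := x * a' * x⁻¹ * a'⁻¹ with he
    set e' := x' * a * x'⁻¹ * a⁻¹ with he'
    have heZ : e ∈ Z := h.comm_mem ha' (k1 a ha)
    have he'Z : e' ∈ Z := h.comm_mem ha (k1 a' ha')
    have hT : ∀ y ∈ ({a, a', x, x'} : Set G), y ∈ NS S A := by
      rintro y (rfl | rfl | rfl | rfl)
      exacts [h.le_left ha, h.le_left ha', h.le_right (k1 a ha), h.le_right (k1 a' ha')]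
    have e1 : a * x * z * (a' * x' * z') = e * (a * a' * (x * x') * (z * z')) := by
      have h1 : a' * x' * z = z * (a' * x') := hcz z hzZ _ (mul_mem (hT a' (by simp)) (hT x' (by simp)))
      have h2 : x * a' = e * a' * x := by rw [he]; group
      have h3 : a * e = e * a := hcz e heZ a (hT a (by simp))
      calc a * x * z * (a' * x' * z') = a * x * (z * (a' * x')) * z' := by group
        _ = a * (x * a') * x' * (z * z') := by rw [← h1]; group
        _ = a * e * a' * x * x' * (z * z') := by rw [h2]; group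
        _ = _ := by rw [h3]; group
    have e2 : a' * x' * z' * (a * x * z) = e' * (a * a' * (x * x') * (z * z')) := by
      have h1 : a * x * z' = z' * (a * x) := hcz z' hz'Z _ (mul_mem (hT a (by simp)) (hT x (by simp)))
      have h2 : x' * a = e' * a * x' := by rw [he']; group
      have h3 : a' * e' = e' * a' := hcz e' he'Z a' (hT a' (by simp))
      calc a' * x' * z' * (a * x * z) = a' * x' * (z' * (a * x)) * z := by group
        _ = a' * (x' * a) * x * (z' * z) := by rw [← h1]; group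
        _ = a' * e' * a * x' * x * (z' * z) := by rw [h2]; group
        _ = e' * (a' * a) * (x' * x) * (z' * z) := by rw [h3]; group
        _ = _ := by
          rw [h.ess.comm a' ha' a ha, h.ess'.comm x' (k1 a' ha') x (k1 a ha), h.ess.comm z' hz'Z.1 z hzZ.1]; group
    have hee : e = e' := by
      have h1 := hCc _ t.2 _ t'.2
      rw [hft t t.2, hft t' t'.2] at h1
      rw [e1, e2] at h1
      exact mul_right_cancel h1
    have hefix : σ * e * σ⁻¹ = e := by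
      have h1 : σ * e * σ⁻¹ = a * x' * a⁻¹ * x'⁻¹ := by
        rw [he, show σ * (x * a' * x⁻¹ * a'⁻¹) * σ⁻¹ = σ * x * σ⁻¹ * x' * (σ * x * σ⁻¹)⁻¹ * x'⁻¹ by rw [hx']; group,
          hx, hinv]
      have he'2 : e' * e' = 1 := h.comm_two hA hS ha (k1 a' ha')
      rw [h1, hee, ← inv_eq_of_mul_eq_one_right he'2, he']
      group
    have hezz : z * z' * e ∈ M := mul_mem (mul_mem (hfz t t.2) (hfz t' t'.2))
      (mem_swapM.2 ⟨heZ, hefix.symm ▸ heZ, by rw [hefix]; group⟩)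
    refine (hmk _ hezz ?_).trans (hmk hezz (mul_mem (hfz t t.2) (hfz t' t'.2)) ?_)
    · refine huniq (hfa _ (mul_mem t.2 t'.2)) (mul_mem ha ha') (hfz _ (mul_mem t.2 t'.2)).1
        (mul_mem (mul_mem hzZ hz'Z) heZ) ?_
      show fa _ (mul_mem t.2 t'.2) * (σ * fa _ (mul_mem t.2 t'.2) * σ⁻¹) * fz _ (mul_mem t.2 t'.2) = _
      rw [← hft _ (mul_mem t.2 t'.2), hft t t.2, hft t' t'.2, e1,
        ← hcz e heZ (a * a' * (x * x') * (z * z')) (mul_mem (mul_mem (mul_mem (hT a (by simp)) (hT a' (by simp)))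
          (mul_mem (hT x (by simp)) (hT x' (by simp)))) (h.le_left (mul_mem hzZ.1 hz'Z.1)))]
      simp only [hx, hx']
      group
    · rw [show (z * z' * e)⁻¹ * (z * z') = e⁻¹ by group]
      exact (show Commute σ e from mul_inv_eq_iff_eq_mul.1 hefix).inv_right.eq
  have hker : ∀ t : C, f t = 1 → (t : G) ∈ Z ⊓ centralizer ({σ} : Set G) := by
    intro t ht
    have h1 : σ * fz t t.2 = fz t t.2 * σ :=
      (mem_centralizer_singleton_iff.1 (mem_subgroupOf.1 ((QuotientGroup.eq_one_iff _).1 ht))).symm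
    have h2 := hfd t t.2
    rw [show σ * fz t t.2 * σ⁻¹ * (fz t t.2)⁻¹ = 1 by rw [h1]; group] at h2
    have haZ : fa t t.2 ∈ A' := by
      by_contra hn
      refine hn (h.mem_of_comm hA hS (hfa t t.2) (k1 _ (hfa t t.2)) (fun hx => hn ?_) ?_)
      · have h3 := k1 _ hx
        rwa [hinv] at h3
      · exact mul_inv_eq_iff_eq_mul.1 (mul_inv_eq_one.1 h2.symm)
    refine ⟨?_, mem_centralizer_singleton_iff.2 (hCσ _ t.2).symm⟩
    rw [hft t t.2]
    exact mul_mem (mul_mem ⟨hfa t t.2, haZ⟩ (k3 _ ⟨hfa t t.2, haZ⟩)) (hfz t t.2).1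
  refine ⟨?_, ?_⟩
  · have h1 := card_mul_index f.ker
    rw [index_ker] at h1
    have h2 : Nat.card f.ker ≤ Nat.card Zσ := by
      refine Nat.card_le_card_of_injective (fun t => ⟨⟨((t : C) : G), mem_swapM.2 ⟨(hker _ t.2).1, k3 _ (hker _ t.2).1, ?_⟩⟩,
        mem_subgroupOf.2 (hker _ t.2).2⟩) fun a b e => Subtype.ext (Subtype.ext ?_)
      · rw [show σ * ((t : C) : G) * σ⁻¹ = ((t : C) : G) from mul_inv_eq_iff_eq_mul.2 (hCσ _ (t : C).2)]
        group
      · exact congrArg (fun z : Zσ => ((z : M) : G)) e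
    rw [← h1, ← card_mul_index Zσ]
    exact Nat.mul_le_mul h2 ((Nat.card_le_card_of_injective _ Subtype.val_injective).trans_eq (index_eq_card Zσ).symm)
  · rintro ⟨t, ht, htZ⟩
    exact ⟨fz t ht, hfz t ht, fun e => htZ (hker ⟨t, ht⟩
      ((QuotientGroup.eq_one_iff _).2 (mem_subgroupOf.2 (mem_centralizer_singleton_iff.2 e.symm)))).1⟩

/-- In a simple group a nonnormal essential subgroup has index two over the intersection with its mate. -/
theorem small_of_simple [IsSimpleGroup G] (hG : ¬ IsMulCommutative G) (h : Mate S A A')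
    (hnn : ¬ (S : Subgroup G) ≤ NS S A) : Nat.card A ≤ 2 * Nat.card ↥(A ⊓ A') := by
  classical
  haveI : Fact (Nat.Prime 2) := ⟨Nat.prime_two⟩
  by_contra hbig
  set Z := A ⊓ A' with hZ
  set T := NS S A with hT
  set T₂ := (S : Subgroup G) ⊓ normalizer (T : Set G) with hT₂
  have hTT₂ : T ≤ T₂ := le_inf inf_le_left le_normalizer
  have hexch : ∀ x ∈ T₂, x ∉ T → Exch S A A' x := fun x hx hx' => ⟨hx.1, hx.2, hx'⟩
  -- index two
  have hidx : ∀ x ∈ T₂, ∀ y ∈ T₂, x ∉ T → y ∉ T → x⁻¹ * y ∈ T := by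
    intro x hx y hy hx' hy'
    obtain ⟨h1, -⟩ := h.swap hA hS hx.1 hx.2 hx'
    obtain ⟨h2, -⟩ := h.swap hA hS hy.1 hy.2 hy'
    refine ⟨(S : Subgroup G).mul_mem ((S : Subgroup G).inv_mem hx.1) hy.1, mem_normalizer_fintype fun a ha => ?_⟩
    have h3 : y * a * y⁻¹ ∈ A.map (MulAut.conj x).toMonoidHom :=
      h1.symm ▸ h2 ▸ mem_map_of_mem (MulAut.conj y).toMonoidHom ha
    rw [conjMap_mem] at h3
    rwa [show x⁻¹ * (y * a * y⁻¹) * x = x⁻¹ * y * a * (x⁻¹ * y)⁻¹ by group] at h3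
  -- `S` normalises `T`
  have hST : (S : Subgroup G) ≤ T₂ := by
    by_contra hne
    obtain ⟨r, hr, hr', hrN⟩ := exists_normalizing S.isPGroup' (inf_le_left : T₂ ≤ (S : Subgroup G)) hne
    have hrS : r ∈ normalizer ((S : Subgroup G) : Set G) := le_normalizer hr
    obtain ⟨X, X', hXY, hXT, hQ⟩ : ∃ X X' : Subgroup G, Mate S X X' ∧ X ≤ T ∧
        ¬ X.map (MulAut.conj r).toMonoidHom ≤ T ∧ Nat.card X = Nat.card A := by
      by_cases h1 : A.map (MulAut.conj r).toMonoidHom ≤ T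
      · refine ⟨A', A, h.symm, h.le_right, fun h2 => hr' ⟨hr, mem_normalizer_fintype fun t ht => ?_⟩,
          (h.card_eq hA hS).symm⟩
        obtain ⟨a, ha, b, hb, rfl⟩ := h.top hA hS ht
        rw [show r * (a * b) * r⁻¹ = r * a * r⁻¹ * (r * b * r⁻¹) by group]
        exact mul_mem (h1 (mem_map_of_mem (MulAut.conj r).toMonoidHom ha))
          (h2 (mem_map_of_mem (MulAut.conj r).toMonoidHom hb))
      · exact ⟨A, A', h, h.le_left, h1, rfl⟩
    obtain ⟨hQT, hQcard⟩ := hQ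
    set Q := X.map (MulAut.conj r).toMonoidHom with hQdef
    have hQE : Ess S Q := hXY.ess.conj hrS
    have hQ₂ : Q ≤ T₂ := by
      rintro _ ⟨x, hx, rfl⟩
      exact (conj_mem_iff hrN).2 (hTT₂ (hXT hx))
    obtain ⟨v, hv, hv2, hv'⟩ := hXY.exists_inv hA hS
    set σ := r * v * r⁻¹ with hσ
    have hσQ : σ ∈ Q := mem_map_of_mem (MulAut.conj r).toMonoidHom hv
    have hσ2 : σ * σ = 1 := by rw [hσ, show r * v * r⁻¹ * (r * v * r⁻¹) = r * (v * v) * r⁻¹ by group, hv2]; group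
    have hσc : ∀ g ∈ (S : Subgroup G), g * σ = σ * g → g ∈ Q := by
      intro g hg hgσ
      refine conjMap_mem.2 (hXY.cS_le hA hS hv hv' ((conj_mem_iff hrS).1 ?_) (comm_of_conj (g := r) ?_))
      · rw [show r * (r⁻¹ * g * r) * r⁻¹ = g by group]; exact hg
      · rw [show r * (r⁻¹ * g * r) * r⁻¹ = g by group]; exact hgσ
    have hσT : σ ∉ T := by
      intro hσT
      have key : ∀ {Y Y' : Subgroup G}, Mate S Y Y' → Y ≤ T → σ ∈ Y → σ ∉ Y' → False := fun hY hYT hσY hσY' =>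
        hQT (le_trans (fun g hg => hY.cS_le hA hS hσY hσY' (hQE.le hg) (hQE.comm g hg σ hσQ)) hYT)
      rcases h.inv_mem_or hA hS hσT hσ2 with h1 | h1
      · by_cases h2 : σ ∈ A'
        · exact hQT fun g hg => hQE.comm g hg σ hσQ |> fun _ => by
            obtain ⟨u, hu, x, hx, hne⟩ := h.ess.toSelfCent.exists_pair hA hS
            have hxT : x ∈ T := h.le_left hx
            exact absurd (hQE.comm u (hσc u hu.1 (h.central hA hS ⟨h1, h2⟩ hu)) x
              (hσc x hxT.1 (h.central hA hS ⟨h1, h2⟩ hxT))) hne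
        · exact key h h.le_left h1 h2
      · by_cases h2 : σ ∈ A
        · exact key h.symm h.le_right h1 (fun _ => by
            obtain ⟨u, hu, x, hx, hne⟩ := h.ess.toSelfCent.exists_pair hA hS
            have hxT : x ∈ T := h.le_left hx
            exact absurd (hQE.comm u (hσc u hu.1 (h.central hA hS ⟨h2, h1⟩ hu)) x
              (hσc x hxT.1 (h.central hA hS ⟨h2, h1⟩ hxT))) hne)
        · exact key h.symm h.le_right h1 h2
    have hσ₂ := hQ₂ hσQ
    have hC := (swap_bound hA hS h (hexch σ hσ₂ hσT) hσ2 (C := Q ⊓ T) inf_le_right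
      (fun a ha b hb => hQE.comm a ha.1 b hb.1) (fun t ht => hQE.comm σ hσQ t ht.1)).1
    have hM : Nat.card (swapM A A' h.ess.comm σ) ≤ Nat.card Z :=
      Nat.card_mono (Set.toFinite _) fun z hz => hz.1
    have hQ2 : Nat.card Q ≤ 2 * Nat.card ↥(Q ⊓ T) := by
      have h1 := card_inf_mul_relIndex T Q
      rw [inf_comm] at h1
      have h2 : T.relIndex Q ≤ 2 := by
        rw [relIndex, index_eq_card]
        have hinj : Function.Injective (fun q : ↥Q ⧸ T.subgroupOf Q => decide ((q.out : G) ∈ T)) := by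
          intro x y hxy
          rw [← x.out_eq', ← y.out_eq']
          refine QuotientGroup.eq.2 (mem_subgroupOf.2 ?_)
          simp only [decide_eq_decide] at hxy
          rw [coe_mul, coe_inv]
          by_cases hxc : (x.out : G) ∈ T
          · exact mul_mem (inv_mem hxc) (hxy.1 hxc)
          · exact hidx _ (hQ₂ x.out.2) _ (hQ₂ y.out.2) hxc fun e => hxc (hxy.2 e)
        exact (Nat.card_le_card_of_injective _ hinj).trans (by simp)
      rw [← h1, mul_comm]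
      exact Nat.mul_le_mul_right _ h2
    have hQA : Nat.card Q = Nat.card A := (card_map_of_injective (MulAut.conj r).injective).trans hQcard
    omega
  -- the essential subgroups are `A` and `A'`
  have hess : ∀ R : Subgroup G, Ess S R → R ≤ T := by
    intro R hR
    by_contra hRT
    obtain ⟨r₀, hr₀, hr₀T⟩ := SetLike.not_le_iff_exists.1 hRT
    have hsplit : ∀ u ∈ NS S R, u ∉ R → ∃ u' ∈ T, u' ∈ NS S R ∧ u' ∉ R := by
      intro u hu hu'
      by_cases huT : u ∈ T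
      · exact ⟨u, huT, hu, hu'⟩
      · exact ⟨r₀⁻¹ * u, hidx r₀ (hST (hR.le hr₀)) u (hST hu.1) hr₀T huT,
          mul_mem (inv_mem ⟨hR.le hr₀, le_normalizer hr₀⟩) hu, fun e => hu' (by simpa using mul_mem hr₀ e)⟩
    obtain ⟨u, hu, hu'⟩ := hR.toSelfCent.exists_NS_notMem hA hS
    obtain ⟨u', hu'T, hu'N, hu'R⟩ := hsplit u hu hu'
    obtain ⟨σ, hσR, hσ2, hσne⟩ := hR.exists_moved hA hS hu'N hu'R
    obtain ⟨σ, hσR, hσ2, hσT⟩ : ∃ σ ∈ R, σ * σ = 1 ∧ σ ∉ T := by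
      refine ⟨σ, hσR, hσ2, fun hσT => ?_⟩
      have key : ∀ {Y Y' : Subgroup G}, Mate S Y Y' → Y ≤ T → σ ∈ Y → σ ∉ Y' → False := fun hY hYT hσY hσY' =>
        hRT (le_trans (fun g hg => hY.cS_le hA hS hσY hσY' (hR.le hg) (hR.comm g hg σ hσR)) hYT)
      rcases h.inv_mem_or hA hS hσT hσ2 with h1 | h1
      · exact key h h.le_left h1 fun h2 => hσne (h.central hA hS ⟨h1, h2⟩ hu'T)
      · exact key h.symm h.le_right h1 fun h2 => hσne (h.central hA hS ⟨h2, h1⟩ hu'T)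
    have hσS := hR.le hσR
    have hσE := hexch σ (hST hσS) hσT
    obtain ⟨k1, k2, k3⟩ := hσE.maps hA hS h
    have hσi : σ⁻¹ = σ := inv_eq_of_mul_eq_one_right hσ2
    set M := swapM A A' h.ess.comm σ with hM
    obtain ⟨hbound, hout⟩ := swap_bound hA hS h hσE hσ2 (C := R ⊓ T) inf_le_right
      (fun a ha b hb => hR.comm a ha.1 b hb.1) (fun t ht => hR.comm σ hσR t ht.1)
    have hRdec : ∀ r ∈ R, r ∈ T ∨ σ * r ∈ R ⊓ T := by
      intro r hr
      by_cases hrT : r ∈ T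
      · exact Or.inl hrT
      · refine Or.inr ⟨mul_mem hσR hr, ?_⟩
        have := hidx σ (hST hσS) r (hST (hR.le hr)) hσT hrT
        rwa [hσi] at this
    have hfixR : ∀ z ∈ Z, σ * z = z * σ → z ∈ R := by
      intro z hz hzσ
      refine hR.self z (h.le_left hz.1).1 fun r hr => ?_
      rcases hRdec r hr with hrT | hrT
      · exact (h.central hA hS hz hrT).symm
      · have h1 := h.central hA hS hz hrT.2
        calc z * r = z * σ * (σ * r) := by rw [mul_assoc z, ← mul_assoc σ, hσ2, one_mul]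
          _ = σ * (z * (σ * r)) := by rw [← hzσ, mul_assoc]
          _ = r * z := by rw [← h1, ← mul_assoc, ← mul_assoc, hσ2, one_mul]
    -- generators of `N_T(R)`
    have hnorm_of : ∀ t ∈ T, t * σ * t⁻¹ ∈ R → (∀ r ∈ R ⊓ T, t * r * t⁻¹ ∈ R) → t ∈ normalizer (R : Set G) := by
      intro t ht htσ htr
      refine mem_normalizer_fintype fun r hr => ?_
      rcases hRdec r hr with hrT | hrT
      · exact htr r ⟨hr, hrT⟩
      · rw [show t * r * t⁻¹ = (t * σ * t⁻¹)⁻¹ * (t * (σ * r) * t⁻¹) by group]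
        exact mul_mem (inv_mem htσ) (htr _ hrT)
    have hMN : ∀ z ∈ M, z ∈ normalizer (R : Set G) := by
      intro z hz
      obtain ⟨hzZ, hzZ', hz2⟩ := mem_swapM.1 hz
      refine hnorm_of z (h.le_left hzZ.1) ?_ fun r hr => ?_
      · set e := σ * z * σ⁻¹ * z⁻¹ with he
        have heZ : e ∈ Z := mul_mem hzZ' (inv_mem hzZ)
        have hcomm : σ * z * σ⁻¹ * z⁻¹ = z⁻¹ * (σ * z * σ⁻¹) := h.ess.comm _ hzZ'.1 _ (inv_mem hzZ.1)
        have heσ : σ * e * σ⁻¹ = e := by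
          have h1 : σ * e * σ⁻¹ = e⁻¹ := by
            rw [he, show σ * (σ * z * σ⁻¹ * z⁻¹) * σ⁻¹ = σ * σ * z * (σ * σ)⁻¹ * (σ * z * σ⁻¹)⁻¹ by group, hσ2]
            group
          rw [h1]; exact inv_eq_of_mul_eq_one_right hz2
        have he1 := mul_inv_eq_iff_eq_mul.1 heσ
        have hze : z * σ * z⁻¹ = σ * e⁻¹ := by
          rw [he, hσi]
          calc z * σ * z⁻¹ = (σ * σ) * (z * σ * z⁻¹) := by rw [hσ2, one_mul]
            _ = σ * (σ * z * σ * z⁻¹) := by group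
            _ = σ * (σ * z * σ * z⁻¹)⁻¹ := by
              have := inv_eq_of_mul_eq_one_right hz2
              rw [he, hσi] at this
              rw [this]
        rw [hze]
        exact mul_mem hσR (inv_mem (hfixR e heZ he1))
      · rw [← h.central hA hS hzZ hr.2, mul_inv_cancel_right]; exact hr.1
    have hRTform : ∀ t ∈ A, ∀ r ∈ R ⊓ T,
        t * (σ * t * σ⁻¹) * r * (t * (σ * t * σ⁻¹))⁻¹ * r⁻¹ ∈ Z ∧
        σ * (t * (σ * t * σ⁻¹) * r * (t * (σ * t * σ⁻¹))⁻¹ * r⁻¹) =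
          t * (σ * t * σ⁻¹) * r * (t * (σ * t * σ⁻¹))⁻¹ * r⁻¹ * σ := by
      intro a ha r hr
      set x := σ * a * σ⁻¹ with hx
      have hxA : x ∈ A' := k1 a ha
      have hσx : σ * x * σ⁻¹ = a := by
        rw [hx, hσi, show σ * (σ * a * σ) * σ = σ * σ * a * (σ * σ) by group, hσ2, one_mul, mul_one]
      obtain ⟨c, hc, d, hd, hr'⟩ := h.top hA hS hr.2
      have hrσ : σ * r * σ⁻¹ = r := mul_inv_eq_iff_eq_mul.2 (hR.comm σ hσR r hr.1)
      have haN : a ∈ T := h.le_left ha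
      have hxN : x ∈ T := h.le_right hxA
      have h1 : x * r * x⁻¹ * r⁻¹ ∈ Z := by
        have e1 := h.comm_mem hc hxA
        rw [hr', show x * (c * d) * x⁻¹ * (c * d)⁻¹ =
          (x * c * x⁻¹ * c⁻¹) * (c * (x * d * x⁻¹ * d⁻¹) * c⁻¹) by group,
          show x * d * x⁻¹ * d⁻¹ = 1 by rw [h.ess'.comm x hxA d hd]; group]
        simpa only [mul_one, one_mul, mul_inv_cancel] using e1
      have h2 : σ * (x * r * x⁻¹ * r⁻¹) * σ⁻¹ = a * r * a⁻¹ * r⁻¹ := by
        calc σ * (x * r * x⁻¹ * r⁻¹) * σ⁻¹ = σ * x * σ⁻¹ * (σ * r * σ⁻¹) * (σ * x * σ⁻¹)⁻¹ * (σ * r * σ⁻¹)⁻¹ := by group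
          _ = _ := by rw [hσx, hrσ]
      set f := x * r * x⁻¹ * r⁻¹ with hf
      have hf' : a * r * a⁻¹ * r⁻¹ ∈ Z := h2 ▸ k3 f h1
      have e : a * x * r * (a * x)⁻¹ * r⁻¹ = f * (σ * f * σ⁻¹) := by
        have h3 := h.central hA hS h1 haN
        calc a * x * r * (a * x)⁻¹ * r⁻¹ = a * f * (r * a⁻¹ * r⁻¹) := by rw [hf]; group
          _ = _ := by rw [h3, h2]; group
      rw [e]
      refine ⟨mul_mem h1 (k3 f h1), ?_⟩
      refine mul_inv_eq_iff_eq_mul.1 ?_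
      rw [show σ * (f * (σ * f * σ⁻¹)) * σ⁻¹ = σ * f * σ⁻¹ * (σ * (σ * f * σ⁻¹) * σ⁻¹) by group,
        show σ * (σ * f * σ⁻¹) * σ⁻¹ = f by
          rw [hσi, show σ * (σ * f * σ) * σ = σ * σ * f * (σ * σ) by group, hσ2, one_mul, mul_one]]
      exact h.ess.comm _ (k3 f h1).1 _ h1.1
    have htN : ∀ a ∈ A, a * (σ * a * σ⁻¹) ∈ normalizer (R : Set G) := by
      intro a ha
      set x := σ * a * σ⁻¹ with hx
      have hxA : x ∈ A' := k1 a ha
      have hσx : σ * x * σ⁻¹ = a := by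
        rw [hx, hσi, show σ * (σ * a * σ) * σ = σ * σ * a * (σ * σ) by group, hσ2, one_mul, mul_one]
      refine hnorm_of _ (mul_mem (h.le_left ha) (h.le_right hxA)) ?_ fun r hr => ?_
      · -- the commutator with `σ`
        set e := x * a * x⁻¹ * a⁻¹ with he
        have heZ : e ∈ Z := h.comm_mem ha hxA
        have he2 : e * e = 1 := h.comm_two hA hS ha hxA
        have heσ : σ * e * σ⁻¹ = e := by
          have : σ * e * σ⁻¹ = e⁻¹ := by
            calc σ * e * σ⁻¹ = (σ * x * σ⁻¹) * x * (σ * x * σ⁻¹)⁻¹ * x⁻¹ := by rw [he, hx]; group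
              _ = _ := by rw [hσx, he]; group
          rw [this]; exact inv_eq_of_mul_eq_one_right he2
        have h1 : a * x * σ * (a * x)⁻¹ = σ * e := by
          calc a * x * σ * (a * x)⁻¹ = σ * (σ * (a * x) * σ⁻¹ * (a * x)⁻¹) := by
                rw [hσi, show σ * (σ * (a * x) * σ * (a * x)⁻¹) = σ * σ * (a * x * σ * (a * x)⁻¹) by group, hσ2,
                  one_mul]
            _ = σ * (x * (σ * x * σ⁻¹) * (a * x)⁻¹) := by rw [hx]; group
            _ = _ := by rw [hσx, he]; group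
        rw [h1]
        exact mul_mem hσR (hfixR e heZ (mul_inv_eq_iff_eq_mul.1 heσ))
      · obtain ⟨h1, h2⟩ := hRTform a ha r hr
        rw [show a * x * r * (a * x)⁻¹ = a * x * r * (a * x)⁻¹ * r⁻¹ * r by group]
        exact mul_mem (hfixR _ h1 h2) hr.1
    -- `N_S(R)` is `R` and one coset
    obtain ⟨w, hwT, hwN, hwR, hw2⟩ : ∃ w, w ∈ T ∧ w ∈ NS S R ∧ w ∉ R ∧
        ∀ a ∈ R, ∀ b ∈ R, w * a ≠ a * w → w * b ≠ b * w → w * (a⁻¹ * b) = a⁻¹ * b * w := by
      have hgen : ∀ w, w ∈ T → (∀ r ∈ R ⊓ T, w * r = r * w) →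
          ∀ a ∈ R, ∀ b ∈ R, w * a ≠ a * w → w * b ≠ b * w → w * (a⁻¹ * b) = a⁻¹ * b * w := by
        intro w _ hw a ha b hb ha' hb'
        have h1 := (hRdec a ha).resolve_left fun e => ha' (hw a ⟨ha, e⟩)
        have h2 := (hRdec b hb).resolve_left fun e => hb' (hw b ⟨hb, e⟩)
        refine hw _ ⟨R.mul_mem (R.inv_mem ha) hb, ?_⟩
        rw [show a⁻¹ * b = (σ * a)⁻¹ * (σ * b) by group]
        exact T.mul_mem (T.inv_mem h1.2) h2.2
      by_cases hall : ∀ t ∈ R ⊓ T, t ∈ Z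
      · obtain ⟨v, hv, hv2, hv'⟩ := h.exists_inv hA hS
        have hwT : v * (σ * v * σ⁻¹) ∈ T := mul_mem (h.le_left hv) (h.le_right (k1 v hv))
        refine ⟨_, hwT, ⟨hwT.1, htN v hv⟩, fun hw => ?_,
          hgen _ hwT fun r hr => h.central hA hS (hall r hr) hwT⟩
        have h1 := (hall _ ⟨hw, hwT⟩).2
        exact hv' (by simpa only [mul_inv_cancel_right] using A'.mul_mem h1 (A'.inv_mem (k1 v hv)))
      · push Not at hall
        obtain ⟨z, hz, hzσ⟩ := hout hall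
        exact ⟨z, h.le_left hz.1.1, ⟨(h.le_left hz.1.1).1, hMN z hz⟩, fun hzR => hzσ (hR.comm σ hσR z hzR),
          hgen z (h.le_left hz.1.1) fun r hr => (h.central hA hS hz.1 hr.2).symm⟩
    have htop := hR.top_of_index_two hA hS hwN hwR hw2
    set X := T ⊓ normalizer (R : Set G) with hX
    have hX2 : Nat.card X ≤ 2 * Nat.card ↥(R ⊓ T) := by
      have h1 := card_inf_mul_relIndex R X
      rw [show R ⊓ X = R ⊓ T from le_antisymm (fun g hg => ⟨hg.1, hg.2.1⟩)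
        (fun g hg => ⟨hg.1, hg.2, le_normalizer hg.1⟩)] at h1
      have h2 : R.relIndex X ≤ 2 := by
        rw [relIndex, index_eq_card]
        have hinj : Function.Injective (fun q : ↥X ⧸ R.subgroupOf X => decide ((q.out : G) ∈ R)) := by
          intro x y hxy
          rw [← x.out_eq', ← y.out_eq']
          refine QuotientGroup.eq.2 (mem_subgroupOf.2 ?_)
          simp only [decide_eq_decide] at hxy
          rw [coe_mul, coe_inv]
          by_cases hxc : (x.out : G) ∈ R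
          · exact mul_mem (inv_mem hxc) (hxy.1 hxc)
          · have h3 := (htop _ ⟨x.out.2.1.1, x.out.2.2⟩).resolve_left hxc
            have h4 := (htop _ ⟨y.out.2.1.1, y.out.2.2⟩).resolve_left fun e => hxc (hxy.2 e)
            rw [show (x.out : G)⁻¹ * y.out = (w⁻¹ * x.out)⁻¹ * (w⁻¹ * y.out) by group]
            exact mul_mem (inv_mem h3) h4
        exact (Nat.card_le_card_of_injective _ hinj).trans (by simp)
      rw [← h1, mul_comm]
      exact Nat.mul_le_mul_right _ h2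
    have hXT : Nat.card T * Nat.card ↥(X ⊓ A') ≤ Nat.card X * Nat.card A' := by
      have hsup : ∀ t ∈ T, ∃ x ∈ X, ∃ b ∈ A', t = x * b := by
        intro t ht
        obtain ⟨a, ha, b, hb, rfl⟩ := h.top hA hS ht
        exact ⟨a * (σ * a * σ⁻¹), ⟨mul_mem (h.le_left ha) (h.le_right (k1 a ha)), htN a ha⟩,
          (σ * a * σ⁻¹)⁻¹ * b, mul_mem (inv_mem (k1 a ha)) hb, by group⟩
      have h1 := card_inf_mul_relIndex A' X
      have h2 := card_inf_mul_relIndex A' T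
      rw [inf_eq_left.2 h.le_right] at h2
      have h3 : A'.relIndex T ≤ A'.relIndex X := by
        rw [relIndex, relIndex, index_eq_card, index_eq_card]
        refine Nat.card_le_card_of_surjective
          (Quotient.map' (inclusion (inf_le_left : X ≤ T)) fun x y hxy => by
            rw [QuotientGroup.leftRel_apply] at hxy ⊢; exact hxy) fun q => ?_
        obtain ⟨⟨t, ht⟩, rfl⟩ := QuotientGroup.mk_surjective q
        obtain ⟨x, hx, b, hb, rfl⟩ := hsup t ht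
        refine ⟨QuotientGroup.mk ⟨x, hx⟩, QuotientGroup.eq.2 (mem_subgroupOf.2 ?_)⟩
        simpa using hb
      rw [inf_comm] at h1
      rw [← h1, ← h2]
      calc Nat.card A' * A'.relIndex T * Nat.card ↥(X ⊓ A') ≤ Nat.card A' * A'.relIndex X * Nat.card ↥(X ⊓ A') :=
            Nat.mul_le_mul_right _ (Nat.mul_le_mul_left _ h3)
        _ = _ := by ring
    have hMX : Nat.card M ≤ Nat.card ↥(X ⊓ A') :=
      Nat.card_mono (Set.toFinite _) fun z hz => ⟨⟨h.le_left hz.1.1, hMN z hz⟩, hz.1.2⟩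
    have hTA : Nat.card A * Nat.card A' ≤ Nat.card T * Nat.card Z := card_sup_le h.le_left h.le_right
    have hMpos : 0 < Nat.card M := Nat.card_pos
    have hA'pos : 0 < Nat.card A' := Nat.card_pos
    have key : Nat.card A * Nat.card A' * Nat.card M ≤ 2 * Nat.card Z * (Nat.card A' * Nat.card M) := by
      calc Nat.card A * Nat.card A' * Nat.card M ≤ Nat.card T * Nat.card Z * Nat.card ↥(X ⊓ A') :=
            Nat.mul_le_mul hTA hMX
        _ = Nat.card Z * (Nat.card T * Nat.card ↥(X ⊓ A')) := by ring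
        _ ≤ Nat.card Z * (Nat.card X * Nat.card A') := Nat.mul_le_mul_left _ hXT
        _ ≤ Nat.card Z * (2 * Nat.card M * Nat.card A') :=
            Nat.mul_le_mul_left _ (Nat.mul_le_mul_right _ (hX2.trans (Nat.mul_le_mul_left _ hbound)))
        _ = _ := by ring
    rw [mul_assoc] at key
    exact hbig (Nat.le_of_mul_le_mul_right key (Nat.mul_pos hA'pos hMpos))
  -- transfer
  obtain ⟨s, hs, hsT⟩ := SetLike.not_le_iff_exists.1 hnn
  let φ : ↥(S : Subgroup G) →* Multiplicative (ZMod 2) :=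
    MonoidHom.mk' (fun x => if (x : G) ∈ T then 1 else Multiplicative.ofAdd 1) fun x y => by
      rw [coe_mul]
      by_cases hx : (x : G) ∈ T <;> by_cases hy : (y : G) ∈ T
      · simp [hx, hy, mul_mem hx hy]
      · rw [if_pos hx, if_neg hy, if_neg fun e => hy (by simpa using mul_mem (inv_mem hx) e), one_mul]
      · rw [if_neg hx, if_pos hy, if_neg fun e => hx (by simpa using mul_mem e (inv_mem hy)), mul_one]
      · have h1 := hidx (x : G)⁻¹ (hST (inv_mem x.2)) (y : G) (hST y.2) (fun e => hx (by simpa using inv_mem e)) hy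
        rw [inv_inv] at h1
        rw [if_neg hx, if_neg hy, if_pos h1]
        decide +revert
  have hNT : ∀ n ∈ normalizer ((S : Subgroup G) : Set G), ∀ x ∈ T, n * x * n⁻¹ ∈ T := by
    intro n hn x hx
    obtain ⟨a, ha, b, hb, rfl⟩ := h.top hA hS hx
    rw [show n * (a * b) * n⁻¹ = n * a * n⁻¹ * (n * b * n⁻¹) by group]
    exact mul_mem (hess _ (h.ess.conj hn) (mem_map_of_mem (MulAut.conj n).toMonoidHom ha))
      (hess _ (h.ess'.conj hn) (mem_map_of_mem (MulAut.conj n).toMonoidHom hb))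
  have hφ := hom_eq_one hA hS hG (IsPGroup.of_card (p := 2) (n := 1) (by simp)) φ (fun n hn x y e => ?_)
    (fun R hR u hu _ x y hx e => ?_) ⟨s, hs⟩
  · rw [show φ ⟨s, hs⟩ = _ from if_neg hsT] at hφ
    exact absurd hφ (fun e => by simpa using congrArg Multiplicative.toAdd e)
  · have hiff : (y : G) ∈ T ↔ (x : G) ∈ T := by
      rw [e]
      refine ⟨fun h1 => ?_, hNT n hn _⟩
      have := hNT n⁻¹ (inv_mem hn) _ h1
      rwa [show n⁻¹ * (n * (x : G) * n⁻¹) * n⁻¹⁻¹ = x by group] at this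
    show (if (y : G) ∈ T then (1 : Multiplicative (ZMod 2)) else _) = if (x : G) ∈ T then 1 else _
    simp only [hiff]
  · have h1 : (y : G) ∈ T := hess R hR (e ▸ (conj_mem_iff hu).2 hx)
    show (if (y : G) ∈ T then (1 : Multiplicative (ZMod 2)) else _) = if (x : G) ∈ T then 1 else _
    rw [if_pos h1, if_pos (hess R hR hx)]

end Cfsg.Agent.AbInter
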