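import Cfsg.Agent.Lib.AbInter.Small
import Cfsg.Agent.Lib.GoldStruct.Kind
import Cfsg.Agent.Lib.SEMain.Proof

/-!
Simple groups with abelian intersections of Sylow 2-subgroups: the Sylow 2-subgroup is dihedral or of class at
most two, from Goldschmidt's theorem on strongly closed abelian 2-subgroups.
-/

set_option autoImplicit false
set_option linter.unusedSectionVars false
set_option linter.style.haveILetI false

namespace Cfsg.Agent.AbInter

open Subgroup
open scoped commutatorElement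

universe u

variable {G : Type u} [Group G] [Finite G] {S : Sylow 2 G} {A A' R : Subgroup G} {v y d W : G} {i : ℕ}

theorem class_two_of_squares (h : ∀ x ∈ (S : Subgroup G), ∀ g ∈ (S : Subgroup G), x * x * g = g * (x * x)) :
    commutator ↥(S : Subgroup G) ≤ center ↥(S : Subgroup G) := by
  rw [commutator_def, Subgroup.commutator_le]
  intro a _ b _
  have key : ∀ x : (S : Subgroup G), x * x ∈ center ↥(S : Subgroup G) := fun x =>
    mem_center_iff.2 fun g => Subtype.ext (h x x.2 g g.2).symm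
  rw [commutatorElement_def, show a * b * a⁻¹ * b⁻¹ =
    a * b * (a * b) * (b⁻¹ * a⁻¹ * b * (b⁻¹ * a⁻¹ * b)) * (b⁻¹ * b⁻¹) by group]
  exact mul_mem (mul_mem (key _) (key _)) (key _)

/-- The nonabelian case of Goldschmidt's theorem. -/
theorem class_of_closed [IsSimpleGroup G] (h1 : GoldGroups.ClosedAbelianSimple.{u})
    (hS : ∃ x ∈ (S : Subgroup G), ∃ y ∈ (S : Subgroup G), x * y ≠ y * x) {K : Subgroup G} (hK : K ≠ ⊥)
    (hKc : IsMulCommutative K) (hcl : Cfsg.IsStronglyClosed K (S : Subgroup G)) :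
    commutator ↥(S : Subgroup G) ≤ center ↥(S : Subgroup G) := by
  rcases h1 G S K hK hKc hcl with hab | ⟨H, hH⟩
  · obtain ⟨x, hx, y, hy, hne⟩ := hS
    exact absurd (congrArg Subtype.val (mul_comm' (⟨x, hx⟩ : (S : Subgroup G)) ⟨y, hy⟩)) hne
  · have hbend : ∀ hB : GoldStruct.Bend.{u, 0} (S : Subgroup G),
        commutator ↥(S : Subgroup G) ≤ center ↥(S : Subgroup G) := fun hB =>
      class_two_of_squares fun x hx g hg => hB.central (x * x) (mul_mem hx hx) (hB.sq x hx) g hg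
    rcases SEMain.bender_of_simple SEMain.stmt hH with ⟨F, _, _, ⟨n, -, hF⟩, ⟨e⟩⟩ | h | ⟨F, _, _, n, hn, hF, ⟨e⟩⟩
    · haveI : CharP F 2 := charP_of_card_eq_prime_pow hF
      have hsq : ∀ x ∈ (S : Subgroup G), x * x = 1 := fun x hx => by
        obtain ⟨k, hk⟩ := S.2 ⟨x, hx⟩
        have hk' : x ^ 2 ^ k = 1 := congrArg Subtype.val hk
        refine e.injective ?_
        rw [map_mul, map_one]
        exact UType.psl_two_sq (e x) (k := k) (by rw [← map_pow, hk', map_one])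
      obtain ⟨x, hx, y, hy, hne⟩ := hS
      have hi : ∀ t ∈ (S : Subgroup G), t⁻¹ = t := fun t ht => inv_eq_of_mul_eq_one_right (hsq t ht)
      exact absurd (by rw [← hi _ (mul_mem hx hy), mul_inv_rev, hi x hx, hi y hy]) hne
    · exact hbend (GoldStruct.bend_sz h S)
    · exact hbend (GoldStruct.bend_psu hn hF e S)

/-- The central elements of square one fixed by the 2-elements normalising the essential subgroups. -/
def fixK (S : Sylow 2 G) : Subgroup G where
  carrier := {k | k ∈ (S : Subgroup G) ∧ k * k = 1 ∧ (∀ g ∈ (S : Subgroup G), g * k = k * g) ∧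
    ∀ X : Subgroup G, Ess S X → ∀ u ∈ normalizer (X : Set G), TwoEl u → u * k = k * u}
  one_mem' := ⟨one_mem _, one_mul 1, fun g _ => by rw [mul_one, one_mul], fun X _ u _ _ => by rw [mul_one, one_mul]⟩
  mul_mem' := by
    rintro a b ⟨ha, ha2, hac, haf⟩ ⟨hb, hb2, hbc, hbf⟩
    refine ⟨mul_mem ha hb, ?_, fun g hg => ((show Commute g a from hac g hg).mul_right (hbc g hg)).eq,
      fun X hX u hu ht => ((show Commute u a from haf X hX u hu ht).mul_right (hbf X hX u hu ht)).eq⟩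
    calc a * b * (a * b) = a * (b * a) * b := by group
      _ = a * a * (b * b) := by rw [hac b hb]; group
      _ = 1 := by rw [ha2, hb2, one_mul]
  inv_mem' := by
    rintro a ⟨ha, ha2, hac, haf⟩
    rw [inv_eq_of_mul_eq_one_right ha2]
    exact ⟨ha, ha2, hac, haf⟩

variable (hA : AbInt G) (hS : ∃ x ∈ (S : Subgroup G), ∃ y ∈ (S : Subgroup G), x * y ≠ y * x)
include hA hS

theorem closed_of_invariant {K : Subgroup G} (hle : K ≤ (S : Subgroup G))
    (hN : ∀ n ∈ normalizer ((S : Subgroup G) : Set G), ∀ x ∈ K, n * x * n⁻¹ ∈ K)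
    (hR : ∀ X : Subgroup G, Ess S X → ∀ u ∈ normalizer (X : Set G), TwoEl u → ∀ x ∈ X, x ∈ K → u * x * u⁻¹ ∈ K) :
    Cfsg.IsStronglyClosed K (S : Subgroup G) := by
  have hR' : ∀ X : Subgroup G, Ess S X → ∀ u ∈ normalizer (X : Set G), TwoEl u → ∀ x ∈ X,
      (u * x * u⁻¹ ∈ K) = (x ∈ K) := by
    intro X hX u hu htu x hx
    refine propext ⟨fun h => ?_, hR X hX u hu htu x hx⟩
    have ht : TwoEl u⁻¹ := by
      obtain ⟨k, hk⟩ := htu
      exact ⟨k, by rw [inv_pow, hk, inv_one]⟩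
    have := hR X hX u⁻¹ (inv_mem hu) ht _ ((conj_mem_iff hu).2 hx) h
    rwa [show u⁻¹ * (u * x * u⁻¹) * u⁻¹⁻¹ = x by group] at this
  refine ⟨hle, fun x hx g hg => ?_⟩
  have := control hA hS (fun z => z ∈ K) (fun n hn z _ => propext ⟨fun h => ?_, hN n hn z⟩) hR' (hle hx) hg
  · exact this ▸ hx
  · have := hN n⁻¹ (inv_mem hn) _ h
    rwa [show n⁻¹ * (n * z * n⁻¹) * n⁻¹⁻¹ = z by group] at this

theorem fixK_closed : Cfsg.IsStronglyClosed (fixK S) (S : Subgroup G) := by
  refine closed_of_invariant hA hS (fun k hk => hk.1) (fun n hn x hx => ?_) fun X hX u hu htu x _ hxK => ?_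
  · obtain ⟨h1, h2, h3, h4⟩ := hx
    refine ⟨(conj_mem_iff hn).2 h1, ?_, fun g hg => ?_, fun X hX u hu htu => ?_⟩
    · rw [show n * x * n⁻¹ * (n * x * n⁻¹) = n * (x * x) * n⁻¹ by group, h2]; group
    · have h5 : n⁻¹ * g * n ∈ (S : Subgroup G) := by simpa using (conj_mem_iff (inv_mem hn)).2 hg
      have := conj_comm (h3 _ h5) n
      rwa [show n * (n⁻¹ * g * n) * n⁻¹ = g by group] at this
    · have hu' : n⁻¹ * u * n ∈ normalizer ((X.map (MulAut.conj n⁻¹).toMonoidHom : Subgroup G) : Set G) := by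
        simpa using mem_normalizer_conj (g := n⁻¹) hu
      have := conj_comm (h4 _ (hX.conj (inv_mem hn)) _ hu' (by simpa using twoEl_conj htu n⁻¹)) n
      rwa [show n * (n⁻¹ * u * n) * n⁻¹ = u by group] at this
  · obtain ⟨h1, h2, h3, h4⟩ := hxK
    rw [h4 X hX u hu htu, mul_inv_cancel_right]
    exact ⟨h1, h2, h3, h4⟩

/-- Class two when every essential subgroup is normal in `S`. -/
theorem class_of_normal [IsSimpleGroup G] (h1 : GoldGroups.ClosedAbelianSimple.{u})
    (hall : ∀ X : Subgroup G, Ess S X → (S : Subgroup G) ≤ NS S X) :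
    commutator ↥(S : Subgroup G) ≤ center ↥(S : Subgroup G) := by
  haveI : Fact (Nat.Prime 2) := ⟨Nat.prime_two⟩
  by_cases hne : ∃ X : Subgroup G, Ess S X
  swap
  · push Not at hne
    haveI : Nontrivial (S : Subgroup G) := by
      obtain ⟨x, hx, y, hy, h⟩ := hS
      exact ⟨⟨⟨x, hx⟩, ⟨y, hy⟩, fun e => h (by rw [show x = y from congrArg Subtype.val e])⟩⟩
    haveI := S.isPGroup'.center_nontrivial
    obtain ⟨⟨z, hz⟩, hz1⟩ := exists_ne (1 : center ↥(S : Subgroup G))
    have hdvd : 2 ∣ Nat.card (center ↥(S : Subgroup G)) := by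
      obtain ⟨k, hk⟩ := (S.isPGroup'.to_subgroup (center ↥(S : Subgroup G))).exists_card_eq
      rw [hk]
      refine dvd_pow_self 2 fun h0 => ?_
      rw [h0, pow_zero] at hk
      exact (Finite.one_lt_card (α := center ↥(S : Subgroup G))).ne' hk
    obtain ⟨t, ht⟩ := exists_prime_orderOf_dvd_card' 2 hdvd
    refine class_of_closed h1 hS (K := fixK S) (fun e => ?_) ⟨⟨fun a b => Subtype.ext (b.2.2.2.1 a a.2.1)⟩⟩
      (fixK_closed hA hS)
    have h2 : t * t = 1 := by rw [← pow_two]; exact orderOf_dvd_iff_pow_eq_one.1 ht.dvd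
    have hmem : ((t : (S : Subgroup G)) : G) ∈ fixK S :=
      ⟨(t : (S : Subgroup G)).2, congrArg (fun s : center ↥(S : Subgroup G) => ((s : (S : Subgroup G)) : G)) h2,
        fun g hg => congrArg Subtype.val (mem_center_iff.1 t.2 ⟨g, hg⟩), fun X hX => absurd hX (hne X)⟩
    rw [e, mem_bot] at hmem
    have : orderOf t = 1 := orderOf_eq_one_iff.2 (Subtype.ext (Subtype.ext hmem))
    omega
  obtain ⟨X, hX⟩ := hne
  by_cases hone : ∀ Y : Subgroup G, Ess S Y → Y = X
  · refine class_of_closed h1 hS (K := X) (fun e => ?_) ⟨⟨fun a b => Subtype.ext (hX.comm a a.2 b b.2)⟩⟩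
      (closed_of_invariant hA hS hX.le (fun n hn x hx => ?_) fun Y hY u hu _ x hxY _ => ?_)
    · obtain ⟨u, -, x, hx, h⟩ := hX.toSelfCent.exists_pair hA hS
      rw [e, mem_bot] at hx
      exact h (by rw [hx, mul_one, one_mul])
    · have := mem_map_of_mem (MulAut.conj n).toMonoidHom hx
      rwa [hone _ (hX.conj hn)] at this
    · obtain rfl := hone Y hY
      exact (conj_mem_iff hu).2 hxY
  push Not at hone
  obtain ⟨Y, hY, hYX⟩ := hone
  have h : Mate S X Y := ⟨hX, hY, hYX.symm, fun b hb => (hall X hX (hY.le hb)).2, fun a ha => (hall Y hY (hX.le ha)).2⟩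
  rw [_root_.commutator_def, Subgroup.commutator_le]
  intro p _ q _
  refine mem_center_iff.2 fun g => Subtype.ext ?_
  obtain ⟨a, ha, b, hb, hp⟩ := h.top hA hS (hall X hX p.2)
  obtain ⟨a', ha', b', hb', hq⟩ := h.top hA hS (hall X hX q.2)
  set e := b * a' * b⁻¹ * a'⁻¹ with he
  set e' := b' * a * b'⁻¹ * a⁻¹ with he'
  have heZ : e ∈ X ⊓ Y := h.comm_mem ha' hb
  have he'Z : e' ∈ X ⊓ Y := h.comm_mem ha hb'
  have h1 : a * b * (a' * b') = e * (a * a' * (b * b')) := by
    have h2 : b * a' = e * a' * b := by rw [he]; group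
    have h3 : a * e = e * a := h.ess.comm a ha e heZ.1
    calc a * b * (a' * b') = a * (b * a') * b' := by group
      _ = a * e * a' * b * b' := by rw [h2]; group
      _ = _ := by rw [h3]; group
  have h1' : a' * b' * (a * b) = e' * (a * a' * (b * b')) := by
    have h2 : b' * a = e' * a * b' := by rw [he']; group
    have h3 : a' * e' = e' * a' := h.ess.comm a' ha' e' he'Z.1
    calc a' * b' * (a * b) = a' * (b' * a) * b := by group
      _ = a' * e' * a * b' * b := by rw [h2]; group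
      _ = e' * (a' * a) * (b' * b) := by rw [h3]; group
      _ = _ := by rw [h.ess.comm a' ha' a ha, h.ess'.comm b' hb' b hb]; group
  have hc : ((⁅p, q⁆ : ↥(S : Subgroup G)) : G) = e * e'⁻¹ := by
    rw [commutatorElement_def]
    show (p : G) * q * (p : G)⁻¹ * (q : G)⁻¹ = _
    rw [hp, hq]
    calc a * b * (a' * b') * (a * b)⁻¹ * (a' * b')⁻¹ = a * b * (a' * b') * (a' * b' * (a * b))⁻¹ := by group
      _ = _ := by rw [h1, h1']; group
  show (g : G) * ((⁅p, q⁆ : ↥(S : Subgroup G)) : G) = ((⁅p, q⁆ : ↥(S : Subgroup G)) : G) * g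
  rw [hc]
  exact h.central hA hS (mul_mem heZ (inv_mem he'Z)) (hall X hX g.2)

omit hA hS

/-! ### The small case -/

/-- The dihedral subgroup `⟨W, v⟩`. -/
def dih (W v : G) : Subgroup G := zpowers v ⊔ zpowers W

theorem Pair.conj_v (hp : Pair S A A' R v y d W i) (k : ℤ) : v * W ^ k * v⁻¹ = W ^ (-k) := by
  rw [← conj_zpow, hp.inv, inv_zpow']

theorem Pair.mem_dih (hp : Pair S A A' R v y d W i) {x : G} :
    x ∈ dih W v ↔ ∃ k : ℤ, x = W ^ k ∨ x = W ^ k * v := by
  have hW : ∀ k : ℤ, W ^ k ∈ dih W v := fun k => mem_sup_right (zpow_mem (mem_zpowers W) k)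
  refine ⟨fun hx => ?_, ?_⟩
  · have hle : zpowers v ≤ normalizer (zpowers W : Set G) := zpowers_le.2 (mem_normalizer_fintype fun b hb => by
      obtain ⟨k, rfl⟩ := mem_zpowers_iff.1 hb
      rw [hp.conj_v]
      exact zpow_mem (mem_zpowers W) _)
    obtain ⟨-, b, hb, a, ha, rfl⟩ := mem_sup_of_normalizes hle hx
    obtain ⟨k, rfl⟩ := mem_zpowers_iff.1 hb
    obtain ⟨j, rfl⟩ := mem_zpowers_iff.1 ha
    refine ⟨k, ?_⟩
    rcases Int.even_or_odd j with ⟨r, rfl⟩ | ⟨r, rfl⟩
    · left; rw [zpow_add, ← (Commute.refl v).mul_zpow, hp.st.v_sq, one_zpow, mul_one]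
    · right; rw [zpow_add_one, two_mul, zpow_add, ← (Commute.refl v).mul_zpow, hp.st.v_sq, one_zpow, one_mul]
  · rintro ⟨k, rfl | rfl⟩
    · exact hW k
    · exact mul_mem (hW k) (mem_sup_left (mem_zpowers v))

theorem Pair.norm_W (hp : Pair S A A' R v y d W i) :
    (S : Subgroup G) ≤ normalizer (zpowers W : Set G) := by
  intro g hg
  obtain ⟨k, z, hz, e⟩ := hp.cover g hg
  have hzN : z ∈ normalizer (zpowers W : Set G) := mem_normalizer_fintype fun b hb => by
    obtain ⟨m, rfl⟩ := mem_zpowers_iff.1 hb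
    obtain ⟨u, -, hu⟩ := hp.act z hz
    rw [← conj_zpow, hu]
    exact zpow_mem (zpow_mem (mem_zpowers W) _) _
  have hvN : v ∈ normalizer (zpowers W : Set G) := mem_normalizer_fintype fun b hb => by
    obtain ⟨m, rfl⟩ := mem_zpowers_iff.1 hb
    rw [hp.conj_v]
    exact zpow_mem (mem_zpowers W) _
  have hWN : W ∈ normalizer (zpowers W : Set G) := le_normalizer (mem_zpowers W)
  rcases e with rfl | rfl
  · exact mul_mem (zpow_mem hWN k) hzN
  · exact mul_mem (mul_mem (zpow_mem hWN k) hvN) hzN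

theorem Pair.dih_le (hp : Pair S A A' R v y d W i) : dih W v ≤ (S : Subgroup G) :=
  sup_le (zpowers_le.2 hp.st.vS) (zpowers_le.2 hp.W_mem)

theorem Pair.dih_normal (hp : Pair S A A' R v y d W i) {g x : G} (hg : g ∈ (S : Subgroup G)) (hx : x ∈ dih W v) :
    g * x * g⁻¹ ∈ dih W v := by
  have hW : ∀ k : ℤ, g * W ^ k * g⁻¹ ∈ dih W v := fun k =>
    mem_sup_right ((conj_mem_iff (hp.norm_W hg)).2 (zpow_mem (mem_zpowers W) k))
  have hv : g * v * g⁻¹ ∈ dih W v := by
    obtain ⟨k, z, hz, e⟩ := hp.cover g hg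
    have hzv : z * v * z⁻¹ = v := by rw [hp.st.comm_z hz, mul_inv_cancel_right]
    refine hp.mem_dih.2 ⟨k + k, Or.inr ?_⟩
    have h2 : v * W ^ (-k) = W ^ k * v := by
      have := hp.conj_v (-k)
      rw [neg_neg] at this
      exact mul_inv_eq_iff_eq_mul.1 this
    rcases e with rfl | rfl
    · rw [show W ^ k * z * v * (W ^ k * z)⁻¹ = W ^ k * ((z * v * z⁻¹) * W ^ (-k)) by group, hzv, h2, zpow_add,
        mul_assoc]
    · rw [show W ^ k * v * z * v * (W ^ k * v * z)⁻¹ = W ^ k * (v * (z * v * z⁻¹) * v⁻¹ * W ^ (-k)) by group, hzv,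
        mul_inv_cancel_right, h2, zpow_add, mul_assoc]
  rcases hp.mem_dih.1 hx with ⟨k, rfl | rfl⟩
  · exact hW k
  · rw [show g * (W ^ k * v) * g⁻¹ = g * W ^ k * g⁻¹ * (g * v * g⁻¹) by group]
    exact mul_mem (hW k) hv

theorem Pair.d_mem (hp : Pair S A A' R v y d W i) : d ∈ dih W v :=
  hp.mem_dih.2 ⟨((2 ^ i : ℕ) : ℤ), Or.inl (by rw [zpow_natCast, hp.pow])⟩

theorem Pair.y_dih (hp : Pair S A A' R v y d W i) : y ∈ dih W v :=
  hp.mem_dih.2 ⟨1, Or.inr (by rw [zpow_one, hp.y_eq])⟩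

theorem Pair.v_dih (hp : Pair S A A' R v y d W i) : v ∈ dih W v :=
  hp.mem_dih.2 ⟨0, Or.inr (by rw [zpow_zero, one_mul])⟩

/-- The commutators of the 2-elements normalising an essential subgroup are in the dihedral subgroup. -/
theorem Pair.comm_dih (hp : Pair S A A' R v y d W i) {X : Subgroup G} (hX : Ess S X) {u x : G}
    (hu : u ∈ normalizer (X : Set G)) (htu : TwoEl u) (hx : x ∈ X) : u * x * u⁻¹ * x⁻¹ ∈ dih W v := by
  obtain ⟨g, hg, e⟩ := hp.ess_conj X hX
  have key : ∀ {B : Subgroup G} {t : G}, Com S B t d → t ∈ dih W v → X = B.map (MulAut.conj g).toMonoidHom →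
      u * x * u⁻¹ * x⁻¹ ∈ dih W v := by
    intro B t hB ht hXB
    rw [hXB] at hu hx
    have h1 := hB.comm (g⁻¹ * u * g) (mem_normalizer_of_conj hu) (by simpa using twoEl_conj htu g⁻¹)
      (g⁻¹ * x * g) (conjMap_mem.1 hx)
    have h2 : g⁻¹ * u * g * (g⁻¹ * x * g) * (g⁻¹ * u * g)⁻¹ * (g⁻¹ * x * g)⁻¹ ∈ dih W v := by
      simp only [Set.mem_insert_iff, Set.mem_singleton_iff] at h1
      rcases h1 with h | h | h | h <;> rw [h]
      exacts [one_mem _, hp.d_mem, ht, mul_mem hp.d_mem ht]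
    have h3 := hp.dih_normal hg h2
    rwa [show g * (g⁻¹ * u * g * (g⁻¹ * x * g) * (g⁻¹ * u * g)⁻¹ * (g⁻¹ * x * g)⁻¹) * g⁻¹ = u * x * u⁻¹ * x⁻¹ by
      group] at h3
  rcases e with e | e
  · exact key hp.comA hp.v_dih e
  · exact key hp.comR hp.y_dih e

theorem Pair.N_dih (hp : Pair S A A' R v y d W i) {m : G} (hm : m ∈ normalizer ((S : Subgroup G) : Set G)) :
    (∀ x ∈ dih W v, m * x * m⁻¹ ∈ dih W v) ∧ m ∈ normalizer (zpowers W : Set G) := by
  have key : ∀ {B : Subgroup G} {t : G}, Ess S B → Com S B t d → m * t * m⁻¹ ∈ dih W v := by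
    intro B t hB hC
    obtain ⟨u₀, hu₀, hu₀2, ⟨x, hx, ht⟩, -⟩ := hC.exists_u
    have := hp.comm_dih (hB.conj hm) (mem_normalizer_conj (g := m) hu₀) (twoEl_conj hu₀2 m)
      (mem_map_of_mem (MulAut.conj m).toMonoidHom hx)
    rw [← ht]
    convert this using 1
    show m * (u₀ * x * u₀⁻¹ * x⁻¹) * m⁻¹ = m * u₀ * m⁻¹ * (m * x * m⁻¹) * (m * u₀ * m⁻¹)⁻¹ * (m * x * m⁻¹)⁻¹
    group
  have hv : m * v * m⁻¹ ∈ dih W v := key hp.st.mate.ess hp.comA
  have hy : m * y * m⁻¹ ∈ dih W v := key hp.ess hp.comR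
  have hW : m * W * m⁻¹ ∈ dih W v := by
    have h1 := mul_mem hy (inv_mem hv)
    rwa [hp.y_eq, show m * (W * v) * m⁻¹ * (m * v * m⁻¹)⁻¹ = m * W * m⁻¹ by group] at h1
  have hW' : m * W * m⁻¹ ∈ zpowers W := by
    obtain ⟨k, e | e⟩ := hp.mem_dih.1 hW
    · exact e ▸ zpow_mem (mem_zpowers W) k
    exfalso
    have h2 : W ^ k * v * (W ^ k * v) = 1 := by
      calc W ^ k * v * (W ^ k * v) = W ^ k * (v * W ^ k * v⁻¹) * (v * v) := by group
        _ = 1 := by rw [hp.conj_v, hp.st.v_sq, mul_one, ← zpow_add, add_neg_cancel, zpow_zero]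
    rw [← e, show m * W * m⁻¹ * (m * W * m⁻¹) = m * (W * W) * m⁻¹ by group] at h2
    have h3 : W ^ 2 = 1 := by
      rw [pow_two]
      exact (conj_eq_one_iff (a := m)).1 h2
    have h4 := Nat.le_of_dvd two_pos (orderOf_dvd_of_pow_eq_one h3)
    rw [hp.ord] at h4
    have h5 : 2 ^ 3 ≤ 2 ^ (i + 1) := Nat.pow_le_pow_right two_pos (by have := hp.two_le; omega)
    omega
  have hN : m ∈ normalizer (zpowers W : Set G) := mem_normalizer_fintype fun b hb => by
    obtain ⟨k, rfl⟩ := mem_zpowers_iff.1 hb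
    rw [← conj_zpow]
    exact zpow_mem hW' k
  refine ⟨fun x hx => ?_, hN⟩
  rcases hp.mem_dih.1 hx with ⟨k, rfl | rfl⟩
  · exact mem_sup_right ((conj_mem_iff hN).2 (zpow_mem (mem_zpowers W) k))
  · rw [show m * (W ^ k * v) * m⁻¹ = m * W ^ k * m⁻¹ * (m * v * m⁻¹) by group]
    exact mul_mem (mem_sup_right ((conj_mem_iff hN).2 (zpow_mem (mem_zpowers W) k))) hv

include hA hS

/-- `A ⊓ A'` is central in `S`. -/
theorem Pair.central [IsSimpleGroup G] (hG : ¬ IsMulCommutative G) (hp : Pair S A A' R v y d W i) {z g : G}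
    (hz : z ∈ A ⊓ A') (hg : g ∈ (S : Subgroup G)) : Commute g z := by
  haveI : Fact (Nat.Prime 2) := ⟨Nat.prime_two⟩
  set C := zpowers W with hC
  set n := Nat.card ↥C with hn
  let act : ↥(S : Subgroup G) →* MulAut ↥C := C.normalizerMonoidHom.comp (inclusion hp.norm_W)
  let θ : ↥(S : Subgroup G) →* (ZMod n)ˣ := (IsCyclic.mulAutMulEquiv (G := ↥C)).toMonoidHom.comp act
  have hact : ∀ (x : (S : Subgroup G)) (c : C), ((act x c : C) : G) = x * c * (x : G)⁻¹ := fun x c => rfl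
  have hθW : ∀ x : (S : Subgroup G), (x : G) ∈ C → θ x = 1 := by
    intro x hx
    have h1 : act x = 1 := MulEquiv.ext fun c => Subtype.ext (by
      obtain ⟨k, hk⟩ := mem_zpowers_iff.1 hx
      obtain ⟨l, hl⟩ := mem_zpowers_iff.1 c.2
      rw [hact, ← hk, ← hl, ((Commute.refl W).zpow_zpow k l).eq, mul_inv_cancel_right]
      exact hl)
    show (IsCyclic.mulAutMulEquiv (G := ↥C)) (act x) = 1
    rw [h1, map_one]
  set v' : (S : Subgroup G) := ⟨v, hp.st.vS⟩
  let q := QuotientGroup.mk' (zpowers (θ v'))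
  let φ : ↥(S : Subgroup G) →* (ZMod n)ˣ ⧸ zpowers (θ v') := q.comp θ
  have hn2 : n = 2 ^ (i + 1) := by rw [hn, hC, Nat.card_zpowers, hp.ord]
  have hP : IsPGroup 2 ((ZMod n)ˣ ⧸ zpowers (θ v')) := by
    refine IsPGroup.to_quotient (IsPGroup.of_card (p := 2) (n := i) ?_) _
    haveI : NeZero n := ⟨by rw [hn2]; positivity⟩
    rw [Nat.card_eq_fintype_card, ZMod.card_units_eq_totient, hn2,
      Nat.totient_prime_pow Nat.prime_two (Nat.succ_pos i)]
    simp
  haveI : Finite (ZMod n)ˣ := by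
    haveI : NeZero n := ⟨by rw [hn2]; positivity⟩
    infer_instance
  have hD : ∀ x : (S : Subgroup G), (x : G) ∈ dih W v → φ x = 1 := by
    intro x hx
    refine (QuotientGroup.eq_one_iff _).2 ?_
    obtain ⟨k, e | e⟩ := hp.mem_dih.1 hx
    · rw [hθW x (e ▸ zpow_mem (mem_zpowers W) k)]
      exact one_mem _
    · have hxe : x = ⟨W ^ k, zpow_mem hp.W_mem k⟩ * v' := Subtype.ext e
      rw [hxe, map_mul, hθW ⟨W ^ k, zpow_mem hp.W_mem k⟩ (zpow_mem (mem_zpowers W) k), one_mul]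
      exact mem_zpowers _
  have hφN : ∀ m ∈ normalizer ((S : Subgroup G) : Set G), ∀ x y : (S : Subgroup G), (y : G) = m * x * m⁻¹ →
      φ y = φ x := by
    intro m hm x y e
    -- invariance under `N(S)`
    have hmN := (hp.N_dih hm).2
    let mm : normalizer (C : Set G) := ⟨m, hmN⟩
    have h1 : inclusion hp.norm_W y = mm * inclusion hp.norm_W x * mm⁻¹ := Subtype.ext e
    let ψ : ↥(normalizer (C : Set G)) →* (ZMod n)ˣ :=
      (IsCyclic.mulAutMulEquiv (G := ↥C)).toMonoidHom.comp C.normalizerMonoidHom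
    show q (ψ (inclusion hp.norm_W y)) = q (ψ (inclusion hp.norm_W x))
    refine congrArg q ?_
    rw [h1, map_mul, map_mul, map_inv]
    exact mul_inv_cancel_comm _ _
  have hφR : ∀ X : Subgroup G, Ess S X → ∀ u ∈ normalizer (X : Set G), TwoEl u →
      ∀ x y : (S : Subgroup G), (x : G) ∈ X → (y : G) = u * x * u⁻¹ → φ y = φ x := by
    intro X hX u hu htu x y hx e
    have hy' : u * x * u⁻¹ * (x : G)⁻¹ ∈ dih W v := hp.comm_dih hX hu htu hx
    have hys : y = ⟨_, hp.dih_le hy'⟩ * x := Subtype.ext (by rw [coe_mul, e]; group)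
    rw [hys, map_mul, hD _ hy', ← map_one φ, ← map_mul, one_mul]
  have hφ : ∀ x, φ x = 1 := fun x =>
    hom_eq_one (Q := (ZMod n)ˣ ⧸ zpowers (θ v')) hA hS hG hP φ hφN hφR x
  -- conclusion
  obtain ⟨u, hu, hzu⟩ := hp.act z hz
  have hzW : z * W = W * z := by
    have h1 := hφ ⟨z, hp.st.mate.ess.le hz.1⟩
    have h2 : θ ⟨z, hp.st.mate.ess.le hz.1⟩ ∈ zpowers (θ v') := (QuotientGroup.eq_one_iff _).1 h1
    obtain ⟨j, hj⟩ := mem_zpowers_iff.1 h2
    rw [← map_zpow] at hj
    have h3 : act (v' ^ j) = act ⟨z, hp.st.mate.ess.le hz.1⟩ := (IsCyclic.mulAutMulEquiv (G := ↥C)).injective hj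
    have h4 := congrArg Subtype.val (DFunLike.congr_fun h3 ⟨W, mem_zpowers W⟩)
    rw [hact, hact] at h4
    rcases Int.even_or_odd j with ⟨r, rfl⟩ | ⟨r, rfl⟩
    · have hv2 : v' ^ (r + r) = 1 := by
        rw [zpow_add, ← (Commute.refl v').mul_zpow, show v' * v' = 1 from Subtype.ext hp.st.v_sq, one_zpow]
      rw [hv2] at h4
      simp only [OneMemClass.coe_one, one_mul, inv_one, mul_one] at h4
      exact mul_inv_eq_iff_eq_mul.1 h4.symm
    · exfalso
      have hv2 : v' ^ (2 * r + 1) = v' := by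
        rw [zpow_add_one, two_mul, zpow_add, ← (Commute.refl v').mul_zpow,
          show v' * v' = 1 from Subtype.ext hp.st.v_sq, one_zpow, one_mul]
      rw [hv2] at h4
      change v * W * v⁻¹ = z * W * z⁻¹ at h4
      rw [hp.inv, hzu, ← zpow_neg_one] at h4
      have h5 : W ^ (u - -1) = 1 := by rw [zpow_sub, h4, mul_inv_cancel]
      rw [← orderOf_dvd_iff_zpow_eq_one, hp.ord] at h5
      have h6 : (4 : ℤ) ∣ u - -1 := by
        refine dvd_trans ?_ h5
        rw [show (4 : ℤ) = ((2 ^ 2 : ℕ) : ℤ) by norm_num]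
        exact Int.natCast_dvd_natCast.2 (pow_dvd_pow 2 (by have := hp.two_le; omega))
      omega
  obtain ⟨k, z₀, hz₀, e⟩ := hp.cover g hg
  have hzz : Commute z z₀ := hp.st.mate.ess.comm z hz.1 z₀ hz₀.1
  rcases e with rfl | rfl
  · exact (((show Commute z W from hzW).zpow_right k).mul_right hzz).symm
  · exact ((((show Commute z W from hzW).zpow_right k).mul_right (hp.st.comm_z hz)).mul_right hzz).symm

omit hA hS in
theorem Pair.inter_dih (hp : Pair S A A' R v y d W i) {z : G} (hz : z ∈ A ⊓ A')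
    (hzS : ∀ g ∈ (S : Subgroup G), Commute g z) (hzD : z ∈ dih W v) : z = 1 ∨ z = d := by
  have hne : W * W ≠ 1 := by
    intro e
    have h := Nat.le_of_dvd two_pos (orderOf_dvd_of_pow_eq_one (show W ^ 2 = 1 by rw [pow_two, e]))
    rw [hp.ord] at h
    have : 2 ^ 3 ≤ 2 ^ (i + 1) := Nat.pow_le_pow_right two_pos (by have := hp.two_le; omega)
    omega
  obtain ⟨k, e | e⟩ := hp.mem_dih.1 hzD
  · have h1 : W ^ (-k) = W ^ k := by
      rw [← hp.conj_v, ← e, (hzS v hp.st.vS).eq, mul_inv_cancel_right]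
    have h2 : W ^ (k + k) = 1 := by
      rw [zpow_add]
      nth_rw 1 [← h1]
      rw [← zpow_add, neg_add_cancel, zpow_zero]
    rw [← orderOf_dvd_iff_zpow_eq_one, hp.ord] at h2
    have h3 : ((2 ^ i : ℕ) : ℤ) ∣ k := by
      rw [pow_succ, Nat.cast_mul, ← mul_two] at h2
      exact Int.dvd_of_mul_dvd_mul_right (by norm_num) h2
    obtain ⟨q, rfl⟩ := h3
    rw [zpow_mul, zpow_natCast, hp.pow] at e
    have hd : d * d = 1 := by
      rw [← hp.pow, ← pow_add, ← two_mul, ← pow_succ', ← hp.ord, pow_orderOf_eq_one]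
    rcases Int.even_or_odd q with ⟨r, rfl⟩ | ⟨r, rfl⟩
    · left; rw [e, zpow_add, ← (Commute.refl d).mul_zpow, hd, one_zpow]
    · right; rw [e, zpow_add_one, two_mul, zpow_add, ← (Commute.refl d).mul_zpow, hd, one_zpow, one_mul]
  · exfalso
    have h1 : Commute W (W ^ k * v) := e ▸ hzS W hp.W_mem
    have h2 : Commute W v := by
      have := ((Commute.refl W).zpow_right (-k)).mul_right h1
      rwa [show W ^ (-k) * (W ^ k * v) = v by group] at this
    have h3 : v * W * v⁻¹ = W := by rw [← h2.eq, mul_inv_cancel_right]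
    rw [hp.inv] at h3
    exact hne (by nth_rw 1 [← h3]; exact inv_mul_cancel W)

/-- The small case. -/
theorem Pair.result [IsSimpleGroup G] (h1 : GoldGroups.ClosedAbelianSimple.{u}) (hG : ¬ IsMulCommutative G)
    (hp : Pair S A A' R v y d W i) :
    (∃ m : ℕ, 2 ≤ m ∧ Nonempty (↥(S : Subgroup G) ≃* DihedralGroup m)) ∨
      commutator ↥(S : Subgroup G) ≤ center ↥(S : Subgroup G) := by
  classical
  haveI : Fact (Nat.Prime 2) := ⟨Nat.prime_two⟩
  by_cases hK : fixK S = ⊥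
  swap
  · exact Or.inr (class_of_closed h1 hS hK ⟨⟨fun a b => Subtype.ext (b.2.2.2.1 a a.2.1)⟩⟩ (fixK_closed hA hS))
  left
  have hcen : ∀ {z g : G}, z ∈ A ⊓ A' → g ∈ (S : Subgroup G) → Commute g z := fun hz hg => hp.central hA hS hG hz hg
  obtain ⟨hd, hd2, hd1⟩ := hp.st.d_facts hA hS
  obtain ⟨a₀, ha₀, -, -, hfixA, hnonA⟩ := hp.comA.exists_u
  obtain ⟨b₀, hb₀, -, -, hfixR, hnonR⟩ := hp.comR.exists_u
  have hzR : ∀ {z : G}, z ∈ A ⊓ A' → z ∈ R := fun hz =>
    hp.centR _ (hp.st.mate.ess.le hz.1) (hcen hz (hp.ess.le hp.y_mem)).symm.eq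
  -- the pattern determines an involution of `A ⊓ A'`
  have hinj : ∀ s t : G, s ∈ A ⊓ A' → t ∈ A ⊓ A' → s * s = 1 → t * t = 1 →
      (a₀ * s = s * a₀ ↔ a₀ * t = t * a₀) → (b₀ * s = s * b₀ ↔ b₀ * t = t * b₀) → s = t := by
    intro s t hs ht hs2 ht2 ha hb
    set r := s⁻¹ * t with hr
    have hrZ : r ∈ A ⊓ A' := mul_mem (inv_mem hs) ht
    have hfix : ∀ {B : Subgroup G} (c : G), (c * s = s * c ↔ c * t = t * c) → s ∈ B → t ∈ B →
        (∀ x ∈ B, ∀ z ∈ B, c * x ≠ x * c → c * z ≠ z * c → c * (x⁻¹ * z) = x⁻¹ * z * c) → c * r = r * c := by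
      intro B c hiff hsB htB hnon
      by_cases hc : c * s = s * c
      · exact ((show Commute c s from hc).inv_right.mul_right (show Commute c t from hiff.1 hc)).eq
      · exact hnon s hsB t htB hc fun e => hc (hiff.2 e)
    have hAr := hfix a₀ ha hs.1 ht.1 hnonA
    have hRr := hfix b₀ hb (hzR hs) (hzR ht) hnonR
    have hmem : r ∈ fixK S := by
      refine ⟨hp.st.mate.ess.le hrZ.1, ?_, fun g hg => (hcen hrZ hg).eq, fun X hX u hu htu => ?_⟩
      · rw [hr, sq_mul hp.st.mate.ess.comm (inv_mem hs.1) ht.1, ht2, mul_one, ← mul_inv_rev, hs2, inv_one]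
      obtain ⟨g, hg, e⟩ := hp.ess_conj X hX
      have key : ∀ {B : Subgroup G} {c t' : G}, Com S B t' d → r ∈ B → X = B.map (MulAut.conj g).toMonoidHom →
          (∀ x ∈ B, (∀ h ∈ NS S B, h * x = x * h) → c * x = x * c →
            ∀ u ∈ normalizer (B : Set G), TwoEl u → u * x = x * u) → c * r = r * c → u * r = r * u := by
        intro B c t' _ hrB hXB hfx hcr
        rw [hXB] at hu
        have h1 := hfx r hrB (fun h hh => (hcen hrZ hh.1).eq) hcr (g⁻¹ * u * g) (mem_normalizer_of_conj hu)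
          (by simpa using twoEl_conj htu g⁻¹)
        have h2 := conj_comm h1 g
        rwa [show g * (g⁻¹ * u * g) * g⁻¹ = u by group, (hcen hrZ hg).eq, mul_inv_cancel_right] at h2
      rcases e with e | e
      · exact key hp.comA hrZ.1 e hfixA hAr
      · exact key hp.comR (hzR hrZ) e hfixR hRr
    rw [hK, mem_bot, hr, inv_mul_eq_one] at hmem
    exact hmem
  -- at most four
  have hfour : ∀ s t : G, s ∈ A ⊓ A' → t ∈ A ⊓ A' → s * s = 1 → t * t = 1 → s ≠ 1 → s ≠ d → t ≠ 1 → t ≠ d →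
      s⁻¹ * t = 1 ∨ s⁻¹ * t = d := by
    intro s t hs ht hs2 ht2 hs1 hsd ht1 htd
    by_contra hcon
    push Not at hcon
    obtain ⟨hst, hstd⟩ := hcon
    let f : G → Bool × Bool := fun x => (decide (a₀ * x = x * a₀), decide (b₀ * x = x * b₀))
    have hl : ∀ x ∈ [1, d, s, s * d, t], x ∈ A ⊓ A' ∧ x * x = 1 := by
      intro x hx
      simp only [List.mem_cons, List.not_mem_nil, or_false] at hx
      rcases hx with rfl | rfl | rfl | rfl | rfl
      · exact ⟨one_mem _, one_mul 1⟩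
      · exact ⟨hd, hd2⟩
      · exact ⟨hs, hs2⟩
      · exact ⟨mul_mem hs hd, by rw [sq_mul hp.st.mate.ess.comm hs.1 hd.1, hs2, hd2, one_mul]⟩
      · exact ⟨ht, ht2⟩
    have hnd : ([1, d, s, s * d, t] : List G).Nodup := by
      have hsi : s⁻¹ = s := inv_eq_of_mul_eq_one_right hs2
      have n1 : s * d ≠ 1 := fun e => hsd (by rw [← hsi]; exact inv_eq_of_mul_eq_one_right e)
      have n2 : s * d ≠ d := fun e => hs1 (mul_eq_right.1 e)
      have n3 : s * d ≠ s := fun e => hd1 (mul_eq_left.1 e)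
      have n4 : t ≠ s := fun e => hst (by rw [e, inv_mul_cancel])
      have n5 : t ≠ s * d := fun e => hstd (by rw [e, inv_mul_cancel_left])
      simp [List.nodup_cons, hd1.symm, hs1.symm, ht1.symm, n1.symm, hsd.symm, n2.symm, htd.symm, n3.symm, n4.symm,
        n5.symm]
    have h5 : (([1, d, s, s * d, t] : List G).map f).Nodup := hnd.map_on fun x hx z hz e => by
      simp only [f, Prod.mk.injEq, decide_eq_decide] at e
      exact hinj x z (hl x hx).1 (hl z hz).1 (hl x hx).2 (hl z hz).2 e.1 e.2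
    have := h5.length_le_card
    simp at this
  -- the quotient by the dihedral subgroup
  set D := (dih W v).subgroupOf (S : Subgroup G) with hD
  haveI : D.Normal := ⟨fun x hx g => mem_subgroupOf.2 (hp.dih_normal g.2 (mem_subgroupOf.1 hx))⟩
  let π := QuotientGroup.mk' D
  have hπ : ∀ {x : (S : Subgroup G)}, π x = 1 ↔ (x : G) ∈ dih W v := fun {x} =>
    (QuotientGroup.eq_one_iff x).trans mem_subgroupOf
  have hrep : ∀ x : (S : Subgroup G), ∃ z : (S : Subgroup G), (z : G) ∈ A ⊓ A' ∧ π x = π z := by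
    intro x
    obtain ⟨k, z, hz, e⟩ := hp.cover x x.2
    refine ⟨⟨z, hp.st.mate.ess.le hz.1⟩, hz, ?_⟩
    rw [← mul_inv_eq_one, ← map_inv, ← map_mul]
    refine hπ.2 (hp.mem_dih.2 ⟨k, ?_⟩)
    rcases e with e | e
    · left; show (x : G) * z⁻¹ = W ^ k; rw [e, mul_inv_cancel_right]
    · right; show (x : G) * z⁻¹ = W ^ k * v; rw [e, mul_inv_cancel_right]
  have hcomm : ∀ a b : ↥(S : Subgroup G) ⧸ D, a * b = b * a := by
    intro a b
    obtain ⟨x, rfl⟩ := QuotientGroup.mk'_surjective D a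
    obtain ⟨z, rfl⟩ := QuotientGroup.mk'_surjective D b
    obtain ⟨z₁, hz₁, e₁⟩ := hrep x
    show π x * π z = π z * π x
    rw [e₁, ← map_mul, ← map_mul]
    exact congrArg π (Subtype.ext (hcen hz₁ z.2).symm.eq)
  letI : CommGroup (↥(S : Subgroup G) ⧸ D) :=
    { (inferInstance : Group (↥(S : Subgroup G) ⧸ D)) with mul_comm := hcomm }
  -- at most one involution
  have hone : ∀ a b : ↥(S : Subgroup G) ⧸ D, a * a = 1 → b * b = 1 → a ≠ 1 → b ≠ 1 → a = b := by
    intro a b ha2 hb2 ha1 hb1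
    have hlift : ∀ c : ↥(S : Subgroup G) ⧸ D, c * c = 1 → c ≠ 1 → ∃ z : (S : Subgroup G),
        (z : G) ∈ A ⊓ A' ∧ (z : G) * z = 1 ∧ (z : G) ≠ 1 ∧ (z : G) ≠ d ∧ c = π z := by
      intro c hc2 hc1
      obtain ⟨x, rfl⟩ := QuotientGroup.mk'_surjective D c
      obtain ⟨z, hz, e⟩ := hrep x
      change π x * π x = 1 at hc2
      change π x ≠ 1 at hc1
      rw [e] at hc2 hc1
      refine ⟨z, hz, ?_, fun e1 => hc1 (hπ.2 (e1 ▸ one_mem _)), fun e1 => hc1 (hπ.2 (e1 ▸ hp.d_mem)), e⟩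
      rw [← map_mul] at hc2
      rcases hp.inter_dih (z := (z : G) * z) (mul_mem hz hz) (fun g hg => hcen (mul_mem hz hz) hg)
        (hπ.1 hc2) with h | h
      · exact h
      · exact absurd h (hp.st.sq_ne hA hS hz)
    obtain ⟨s, hs, hs2, hs1, hsd, rfl⟩ := hlift a ha2 ha1
    obtain ⟨t, ht, ht2, ht1, htd, rfl⟩ := hlift b hb2 hb1
    rw [← inv_mul_eq_one, ← map_inv, ← map_mul]
    refine hπ.2 ?_
    rcases hfour s t hs ht hs2 ht2 hs1 hsd ht1 htd with h | h
    · show (s : G)⁻¹ * t ∈ dih W v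
      rw [h]; exact one_mem _
    · show (s : G)⁻¹ * t ∈ dih W v
      rw [h]; exact hp.d_mem
  -- `N(S)` acts trivially
  have hQP : IsPGroup 2 (↥(S : Subgroup G) ⧸ D) := S.isPGroup'.to_quotient D
  have hN : ∀ (j : ℕ) (m : G), m ∈ normalizer ((S : Subgroup G) : Set G) → ∀ x z : (S : Subgroup G),
      (z : G) = m * x * m⁻¹ → π x ^ 2 ^ j = 1 → π z = π x := by
    intro j
    induction j with
    | zero =>
      intro m hm x z e hj
      rw [pow_zero, pow_one] at hj
      rw [hj]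
      exact hπ.2 (e ▸ (hp.N_dih hm).1 _ (hπ.1 hj))
    | succ j ih =>
      intro m hm x z e hj
      rw [pow_succ', pow_mul, pow_two] at hj
      have hsq : π (z * z) = π (x * x) := ih m hm (x * x) (z * z)
        (by rw [coe_mul, coe_mul, e]; group) (by rw [map_mul]; exact hj)
      set t := x⁻¹ * z with ht
      have ht2 : π t * π t = 1 := by
        calc π t * π t = (π x * π x)⁻¹ * (π z * π z) := by
              rw [ht, map_mul, map_inv, mul_inv_rev, mul_mul_mul_comm]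
          _ = 1 := by rw [← map_mul, ← map_mul, hsq, inv_mul_cancel]
      -- the conjugation by a power
      let α : ∀ {c : G}, c ∈ normalizer ((S : Subgroup G) : Set G) → (↥(S : Subgroup G) →* ↥(S : Subgroup G) ⧸ D) :=
        fun {c} hc => MonoidHom.mk' (fun s => π ⟨c * s * c⁻¹, (conj_mem_iff hc).2 s.2⟩) fun a b => by
          rw [← map_mul]
          exact congrArg π (Subtype.ext (by
            show c * ((a : G) * b) * c⁻¹ = c * a * c⁻¹ * (c * b * c⁻¹)
            group))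
      have hmx : α hm x = π x * π t := by
        rw [← map_mul, ht, mul_inv_cancel_left]
        exact congrArg π (Subtype.ext e.symm)
      have hmt : α hm t = π t := by
        by_cases ht1 : π t = 1
        · rw [ht1]
          exact hπ.2 ((hp.N_dih hm).1 _ (hπ.1 ht1))
        refine hone _ _ ?_ ht2 ?_ ht1
        · rw [← map_mul]
          exact hπ.2 ((hp.N_dih hm).1 _ (hπ.1 (show π (t * t) = 1 by rw [map_mul, ht2])))
        · intro h0
          refine ht1 (hπ.2 ?_)
          have := (hp.N_dih (inv_mem hm)).1 _ (hπ.1 h0)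
          rwa [show m⁻¹ * (m * (t : G) * m⁻¹) * m⁻¹⁻¹ = t by group] at this
      have hpow : ∀ (k : ℕ) (hk : m ^ k ∈ normalizer ((S : Subgroup G) : Set G)), α hk x = π x * π t ^ k := by
        intro k
        induction k with
        | zero =>
          intro hk
          refine (congrArg π (Subtype.ext (?_ : m ^ 0 * (x : G) * (m ^ 0)⁻¹ = x))).trans (by rw [pow_zero, mul_one])
          group
        | succ k ihk =>
          intro hk
          have h0 := pow_mem hm k
          set s : (S : Subgroup G) := ⟨m ^ k * x * (m ^ k)⁻¹, (conj_mem_iff h0).2 x.2⟩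
          have hs : π s = π (x * t ^ k) := by rw [map_mul, map_pow]; exact ihk h0
          have h2 : α hk x = α hm s := congrArg π (Subtype.ext (by
            show m ^ (k + 1) * (x : G) * (m ^ (k + 1))⁻¹ = m * (m ^ k * x * (m ^ k)⁻¹) * m⁻¹
            rw [pow_succ']; group))
          have h3 : α hm s = α hm (x * t ^ k) := by
            have h4 : s⁻¹ * (x * t ^ k) ∈ D := by
              rw [← QuotientGroup.eq_one_iff]
              show π _ = 1
              rw [map_mul, map_inv, hs, inv_mul_cancel]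
            rw [← inv_mul_eq_one, ← map_inv, ← map_mul]
            exact hπ.2 ((hp.N_dih hm).1 _ (mem_subgroupOf.1 h4))
          rw [h2, h3, map_mul, map_pow, hmx, hmt, mul_assoc, ← pow_succ']
      obtain ⟨a, k, hk, hcard⟩ := Nat.exists_eq_two_pow_mul_odd (orderOf_pos m).ne'
      have hkN : m ^ k ∈ normalizer ((S : Subgroup G) : Set G) := pow_mem hm k
      have hkS : m ^ k ∈ (S : Subgroup G) := by
        have htwo : TwoEl (m ^ k) := ⟨a, by rw [← pow_mul, mul_comm, ← hcard, pow_orderOf_eq_one]⟩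
        have hle : (S : Subgroup G) ⊔ zpowers (m ^ k) = (S : Subgroup G) :=
          S.3 (IsPGroup.to_sup_of_normal_left' S.isPGroup' (twoEl_zpowers htwo) (zpowers_le.2 hkN)) le_sup_left
        exact hle ▸ mem_sup_right (mem_zpowers _)
      have h1 := hpow k hkN
      have h2 : α hkN x = π x := by
        show π ⟨m ^ k * x * (m ^ k)⁻¹, _⟩ = π x
        rw [show (⟨m ^ k * x * (m ^ k)⁻¹, (conj_mem_iff hkN).2 x.2⟩ : (S : Subgroup G)) =
          ⟨m ^ k, hkS⟩ * x * ⟨m ^ k, hkS⟩⁻¹ from Subtype.ext rfl, map_mul, map_mul, map_inv, mul_comm (π ⟨m ^ k, hkS⟩),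
          mul_inv_cancel_right]
      rw [h2, left_eq_mul] at h1
      obtain ⟨r, rfl⟩ := hk
      rw [pow_succ, pow_mul, pow_two, ht2, one_pow, one_mul, ht, map_mul, map_inv, inv_mul_eq_one] at h1
      exact h1.symm
  have hπ1 : ∀ x, π x = 1 := hom_eq_one hA hS hG hQP π
    (fun m hm x z e => by
      obtain ⟨j, hj⟩ := hQP (π x)
      exact hN j m hm x z e hj)
    fun X hX u hu htu x z hx e => by
      have h := hp.comm_dih hX hu htu hx
      rw [← mul_inv_eq_one, ← map_inv, ← map_mul]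
      refine hπ.2 ?_
      show (z : G) * (x : G)⁻¹ ∈ dih W v
      rwa [e]
  have hSD : (S : Subgroup G) ≤ dih W v := fun x hx => hπ.1 (hπ1 ⟨x, hx⟩)
  -- the isomorphism
  set n := orderOf W with hn
  haveI : NeZero n := ⟨(orderOf_pos W).ne'⟩
  let e : ZMod n → G := fun k => W ^ k.val
  have hadd : ∀ a b, e (a + b) = e a * e b := fun a b => by
    show W ^ (a + b).val = W ^ a.val * W ^ b.val
    rw [ZMod.val_add, ← pow_add]
    exact pow_mod_orderOf W _
  have hve : ∀ a : ZMod n, v * e a = (e a)⁻¹ * v := fun a => by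
    refine mul_inv_eq_iff_eq_mul.1 ?_
    show v * W ^ a.val * v⁻¹ = (W ^ a.val)⁻¹
    rw [← zpow_natCast, hp.conj_v, zpow_neg]
  have hsub : ∀ a b, e (b - a) = (e a)⁻¹ * e b := fun a b => by
    rw [eq_inv_mul_iff_mul_eq, ← hadd, add_sub_cancel]
  have he : ∀ a, e a ∈ (S : Subgroup G) := fun a => pow_mem hp.W_mem _
  let fn : DihedralGroup n → ↥(S : Subgroup G) := fun x => match x with
    | .r k => ⟨e k, he k⟩
    | .sr k => ⟨v * e k, mul_mem hp.st.vS (he k)⟩
  let f : DihedralGroup n →* ↥(S : Subgroup G) := MonoidHom.mk' fn (by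
    rintro (a | a) (b | b) <;> refine Subtype.ext ?_
    · show e (a + b) = e a * e b
      exact hadd a b
    · show v * e (b - a) = e a * (v * e b)
      have h : v * (e a)⁻¹ = e a * v := mul_inv_eq_iff_eq_mul.1 (by
        show v * (W ^ a.val)⁻¹ * v⁻¹ = W ^ a.val
        rw [← zpow_natCast, ← zpow_neg, hp.conj_v, neg_neg])
      rw [hsub, ← mul_assoc, ← mul_assoc, h]
    · show v * e (a + b) = v * e a * e b
      rw [hadd, mul_assoc]
    · show e (b - a) = v * e a * (v * e b)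
      rw [hve a, hsub]
      rw [show (e a)⁻¹ * v * (v * e b) = (e a)⁻¹ * (v * v) * e b by group, hp.st.v_sq, mul_one])
  have hsurj : Function.Surjective f := by
    rintro ⟨x, hx⟩
    obtain ⟨k, e' | e'⟩ := hp.mem_dih.1 (hSD hx)
    · refine ⟨.r (k : ZMod n), Subtype.ext ?_⟩
      show W ^ (k : ZMod n).val = x
      rw [← zpow_natCast, ZMod.val_intCast, hn, zpow_mod_orderOf, e']
    · refine ⟨.sr ((-k : ℤ) : ZMod n), Subtype.ext ?_⟩
      show v * W ^ ((-k : ℤ) : ZMod n).val = x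
      rw [← zpow_natCast, ZMod.val_intCast, hn, zpow_mod_orderOf, e', ← mul_inv_eq_iff_eq_mul, hp.conj_v, neg_neg]
  have hinjf : Function.Injective f := by
    have hvW : ∀ k : ℕ, v ≠ W ^ k := fun k e' => by
      have h := hp.inv
      rw [e', ((Commute.refl W).pow_left k).eq, mul_inv_cancel_right] at h
      have h2 : W ^ 2 = 1 := by rw [pow_two]; nth_rw 1 [h]; exact inv_mul_cancel W
      have h3 := Nat.le_of_dvd two_pos (orderOf_dvd_of_pow_eq_one h2)
      rw [hp.ord] at h3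
      have : 2 ^ 3 ≤ 2 ^ (i + 1) := Nat.pow_le_pow_right two_pos (by have := hp.two_le; omega)
      omega
    refine (injective_iff_map_eq_one f).2 ?_
    rintro (a | a) h
    · have h' : W ^ a.val = 1 := congrArg Subtype.val h
      have h2 := Nat.eq_zero_of_dvd_of_lt (orderOf_dvd_of_pow_eq_one h') (hn ▸ ZMod.val_lt a)
      rw [(ZMod.val_eq_zero a).1 h2]
      rfl
    · have h' : v * W ^ a.val = 1 := congrArg Subtype.val h
      exact absurd (by rw [← hp.st.v_inv]; exact inv_eq_of_mul_eq_one_right h') (hvW a.val)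
  refine ⟨n, ?_, ⟨(MulEquiv.ofBijective f ⟨hinjf, hsurj⟩).symm⟩⟩
  rw [hn, hp.ord]
  calc 2 = 2 ^ 1 := rfl
    _ ≤ _ := Nat.pow_le_pow_right two_pos (Nat.succ_pos i)

end Cfsg.Agent.AbInter

namespace Cfsg.Agent.AbInter

universe u

/-- The theorem, from Goldschmidt's theorem. -/
theorem S3186_of (h1 : GoldGroups.ClosedAbelianSimple.{u}) {G : Type u} [Group G] [Finite G] [IsSimpleGroup G]
    (hG : ¬ IsMulCommutative G)
    (hA : ∀ S T : Sylow 2 G, S ≠ T → IsMulCommutative ↥((S : Subgroup G) ⊓ (T : Subgroup G))) (S : Sylow 2 G) :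
    (∃ m : ℕ, 2 ≤ m ∧ Nonempty (↥(S : Subgroup G) ≃* DihedralGroup m)) ∨
      commutator ↥(S : Subgroup G) ≤ Subgroup.center ↥(S : Subgroup G) := by
  by_cases hS : ∃ x ∈ (S : Subgroup G), ∃ y ∈ (S : Subgroup G), x * y ≠ y * x
  swap
  · push Not at hS
    refine Or.inr (class_two_of_squares fun x hx g hg => hS _ (mul_mem hx hx) g hg)
  by_cases hall : ∀ X : Subgroup G, Ess S X → (S : Subgroup G) ≤ NS S X
  · exact Or.inr (class_of_normal hA hS h1 hall)
  push Not at hall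
  obtain ⟨A, hAE, hnn⟩ := hall
  obtain ⟨A', v, d, st, hcom⟩ := exists_setup hA hS hG hAE hnn
  obtain ⟨R, y, W, i, hp⟩ := exists_pair_structure hA hS hG st hcom
  exact hp.result hA hS h1 hG

end Cfsg.Agent.AbInter
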