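import Cfsg.Agent.Lib.AbInter.Quad

/-!
The system of the Sylow 2-subgroups of the automiser and the consequences of the offender theorem.
-/

set_option autoImplicit false
set_option linter.unusedSectionVars false
set_option linter.style.haveILetI false
set_option synthInstance.maxHeartbeats 100000

namespace Cfsg.Agent.AbInter

open Subgroup FFEmb
open scoped Pointwise

universe u

variable {G : Type u} [Group G] [Finite G] {S : Sylow 2 G}

theorem finite_mulAut' (V : Type u) [Group V] [Finite V] : Finite (MulAut V) :=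
  Finite.of_injective (fun e => ⇑e) fun _ _ e => MulEquiv.ext (congrFun e)

instance omegaCommGroup (R : Subgroup G) (hc : ∀ a ∈ R, ∀ b ∈ R, a * b = b * a) : CommGroup ↥(omega R hc) :=
  { (omega R hc).toGroup with mul_comm := fun a b => Subtype.ext (hc _ a.2.1 _ b.2.1) }

/-- Conjugation by an element of the normaliser on the involutions. -/
def omegaHom (R : Subgroup G) (hc : ∀ a ∈ R, ∀ b ∈ R, a * b = b * a) :
    ↥(normalizer (R : Set G)) →* MulAut ↥(omega R hc) where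
  toFun n :=
    { toFun := fun v => ⟨n * v * (n : G)⁻¹, (conj_mem_iff n.2).2 v.2.1, by
        rw [show (n : G) * v * (n : G)⁻¹ * ((n : G) * v * (n : G)⁻¹) = n * ((v : G) * v) * (n : G)⁻¹ by group,
          v.2.2]; group⟩
      invFun := fun v => ⟨(n : G)⁻¹ * v * n, by simpa using (conj_mem_iff (inv_mem n.2)).2 v.2.1, by
        rw [show (n : G)⁻¹ * v * n * ((n : G)⁻¹ * v * n) = (n : G)⁻¹ * ((v : G) * v) * n by group,
          v.2.2]; group⟩
      left_inv := fun v => Subtype.ext (by simp [mul_assoc])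
      right_inv := fun v => Subtype.ext (by simp [mul_assoc])
      map_mul' := fun a b => Subtype.ext (by simp [mul_assoc]) }
  map_one' := MulEquiv.ext fun v => Subtype.ext (by simp)
  map_mul' := fun a b => MulEquiv.ext fun v => Subtype.ext (by simp [mul_assoc])

theorem omegaHom_apply (R : Subgroup G) (hc : ∀ a ∈ R, ∀ b ∈ R, a * b = b * a)
    (n : ↥(normalizer (R : Set G))) (v : ↥(omega R hc)) :
    ((omegaHom R hc n v : ↥(omega R hc)) : G) = n * v * (n : G)⁻¹ := rfl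

/-- The automiser on the involutions. -/
abbrev Aut1 (R : Subgroup G) (hc : ∀ a ∈ R, ∀ b ∈ R, a * b = b * a) := (omegaHom R hc).range

section Main

variable (hA : AbInt G) (hS : ∃ x ∈ (S : Subgroup G), ∃ y ∈ (S : Subgroup G), x * y ≠ y * x)
variable {R B : Subgroup G}
include hA hS

theorem omegaHom_eq_one (h : Ess S R) {n : ↥(normalizer (R : Set G))}
    (hn : omegaHom R h.comm n = 1) : (n : G) ∈ centralizer (R : Set G) := by
  refine (h.centralizes hA hS).2 _ n.2 fun v hv hv2 => ?_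
  have := congrArg Subtype.val (DFunLike.congr_fun hn ⟨v, hv, hv2⟩)
  exact mul_inv_eq_iff_eq_mul.1 this

theorem omegaHom_eq_iff (h : Ess S R) {m n : ↥(normalizer (R : Set G))}
    (he : omegaHom R h.comm m = omegaHom R h.comm n) {x : G} (hx : x ∈ R) :
    (m : G) * x * (m : G)⁻¹ = n * x * (n : G)⁻¹ := by
  have h1 : omegaHom R h.comm (n⁻¹ * m) = 1 := by rw [map_mul, map_inv, he, inv_mul_cancel]
  have h2 := mem_centralizer_iff.1 (omegaHom_eq_one hA hS h h1) x hx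
  calc (m : G) * x * (m : G)⁻¹ = n * (((n⁻¹ * m : ↥(normalizer (R : Set G))) : G) * x) * (m : G)⁻¹ := by
        simp [mul_assoc]
    _ = _ := by rw [← h2]; simp [mul_assoc]

omit hA hS in
theorem mem_centralizer_R (h : SelfCent S R) {u : G} (hu : u ∈ R) : u ∈ centralizer (R : Set G) :=
  mem_centralizer_iff.2 fun a ha => h.comm a ha u hu

/-- The Sylow subgroup of the automiser coming from `S`. -/
theorem exists_sylow_image (h : Ess S R) : ∃ Q : Sylow 2 (Aut1 R h.comm),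
    ∀ g : Aut1 R h.comm, g ∈ (Q : Subgroup (Aut1 R h.comm)) ↔
      ∃ t : ↥(normalizer (R : Set G)), (t : G) ∈ NS S R ∧ omegaHom R h.comm t = g := by
  haveI : Fact (Nat.Prime 2) := ⟨Nat.prime_two⟩
  set N := normalizer (R : Set G)
  obtain ⟨P, hP⟩ := ((S.isPGroup'.to_le (inf_le_left : NS S R ≤ (S : Subgroup G))).comap_of_injective
    N.subtype N.subtype_injective : IsPGroup 2 ((NS S R).subgroupOf N)).exists_le_sylow
  have hPeq : (P : Subgroup N) = (NS S R).subgroupOf N := by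
    refine le_antisymm (fun p hp => ?_) hP
    exact h.toSelfCent.le_NS hA hS (P.isPGroup'.map N.subtype) (map_subtype_le _)
      (fun x hx => ⟨⟨x, hx.2⟩, hP hx, rfl⟩) ⟨p, hp, rfl⟩
  haveI : Finite ↥(omega R h.comm) := inferInstance
  haveI := finite_mulAut' ↥(omega R h.comm)
  refine ⟨P.mapSurjective (omegaHom R h.comm).rangeRestrict_surjective, fun g => ?_⟩
  rw [Sylow.coe_mapSurjective, hPeq, mem_map]
  constructor
  · rintro ⟨t, ht, rfl⟩
    exact ⟨t, ht, rfl⟩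
  · rintro ⟨t, ht, e⟩
    exact ⟨t, ht, Subtype.ext e⟩

theorem fix_eq_base (h : Ess S R) {Q0 : Sylow 2 (Aut1 R h.comm)}
    (hQ0 : ∀ g : Aut1 R h.comm, g ∈ (Q0 : Subgroup (Aut1 R h.comm)) ↔
      ∃ t : ↥(normalizer (R : Set G)), (t : G) ∈ NS S R ∧ omegaHom R h.comm t = g)
    {k g : Aut1 R h.comm} (hg : g ∈ (Q0 : Subgroup _)) (hg1 : g ≠ 1) (hkg : k⁻¹ * g * k ∈ (Q0 : Subgroup _)) :
    k • Q0 = Q0 := by
  haveI : Fact (Nat.Prime 2) := ⟨Nat.prime_two⟩
  set N := normalizer (R : Set G)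
  set C := centralizer (R : Set G)
  obtain ⟨t, ht, hte⟩ := (hQ0 g).1 hg
  obtain ⟨t2, ht2, ht2e⟩ := (hQ0 _).1 hkg
  obtain ⟨n, hn⟩ := (MonoidHom.mem_range).1 k.2
  have he : omegaHom R h.comm (n * t2 * n⁻¹) = omegaHom R h.comm t := by
    rw [map_mul, map_mul, map_inv, hn, ht2e, hte]
    simp [mul_assoc]
  have hc : (n : G) * t2 * (n : G)⁻¹ * (t : G)⁻¹ ∈ C := by
    have h1 : omegaHom R h.comm (n * t2 * n⁻¹ * t⁻¹) = 1 := by rw [map_mul, he, map_inv, mul_inv_cancel]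
    simpa using omegaHom_eq_one hA hS h h1
  have hCN : C ≤ N := centralizer_le_normalizer _
  obtain ⟨j, hj⟩ := twoEl_of_mem S.isPGroup' ht2.1
  have hnorm : NS S R ≤ normalizer (C : Set G) := fun x hx =>
    mem_normalizer_fintype fun c hc => mem_centralizer_iff.2 fun a ha => comm_of_conj (g := x⁻¹) (by
      simpa [mul_assoc] using mem_centralizer_iff.1 hc _ ((conj_mem_iff (inv_mem hx.2)).2 ha))
  have hmem : (n : G) * t2 * (n : G)⁻¹ ∈ NS S R ⊔ C := by
    rw [show (n : G) * t2 * (n : G)⁻¹ = (n : G) * t2 * (n : G)⁻¹ * (t : G)⁻¹ * t by group]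
    exact mul_mem (mem_sup_right hc) (mem_sup_left ht)
  obtain ⟨z, hz, hzP⟩ := h.toSelfCent.exists_conj hA hS (K := NS S R ⊔ C) le_sup_left (sup_le inf_le_right hCN)
    (twoEl_zpowers ⟨j, show ((n : G) * t2 * (n : G)⁻¹) ^ 2 ^ j = 1 by rw [conj_pow, hj]; group⟩)
    (zpowers_le.2 hmem)
  obtain ⟨t'', ht'', c, hcC, rfl⟩ := (mem_sup_of_normalizes hnorm hz).1
  have hcn : c * n ∈ normalizer ((S : Subgroup G) : Set G) := by
    refine h.toSelfCent.share hA hS (mul_mem (hCN hcC) n.2) ht2 (fun hR => hg1 ?_) ?_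
    · refine Subtype.ext ?_
      have h1 : omegaHom R h.comm t2 = 1 := MulEquiv.ext fun v => Subtype.ext (by
        rw [omegaHom_apply]
        exact mul_inv_eq_iff_eq_mul.2 (h.comm _ hR _ v.2.1))
      rw [h1] at ht2e
      have h2 : (k⁻¹ * g * k : Aut1 R h.comm) = 1 := Subtype.ext ht2e.symm
      rw [show g = k * (k⁻¹ * g * k) * k⁻¹ by group, h2]
      simp
    · have h3 := hzP _ (mem_zpowers _)
      have h4 : t''⁻¹ * (t'' * c * ((n : G) * t2 * (n : G)⁻¹) * (t'' * c)⁻¹) * t'' ∈ NS S R :=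
        mul_mem (mul_mem (inv_mem ht'') h3) ht''
      exact (show c * n * t2 * (c * n)⁻¹ = t''⁻¹ * (t'' * c * ((n : G) * t2 * (n : G)⁻¹) * (t'' * c)⁻¹) * t'' by
        group) ▸ h4.1
  refine Sylow.smul_eq_iff_mem_normalizer.2 (mem_normalizer_fintype fun q hq => ?_)
  obtain ⟨s, hs, hse⟩ := (hQ0 q).1 hq
  refine (hQ0 _).2 ⟨⟨c * n, mul_mem (hCN hcC) n.2⟩ * s * ⟨c * n, mul_mem (hCN hcC) n.2⟩⁻¹,
    ⟨(conj_mem_iff hcn).2 hs.1, ?_⟩, ?_⟩
  · exact (⟨c * n, mul_mem (hCN hcC) n.2⟩ * s * ⟨c * n, mul_mem (hCN hcC) n.2⟩⁻¹ : N).2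
  · have hc1 : omegaHom R h.comm ⟨c, hCN hcC⟩ = 1 := MulEquiv.ext fun v => Subtype.ext (by
      rw [omegaHom_apply]
      exact mul_inv_eq_iff_eq_mul.2 (mem_centralizer_iff.1 hcC _ v.2.1).symm)
    rw [map_mul, map_mul, map_inv, show (⟨c * n, mul_mem (hCN hcC) n.2⟩ : N) = ⟨c, hCN hcC⟩ * n from rfl,
      map_mul, hc1, one_mul, hn, hse]
    rfl

/-- The hypothesis of the offender theorem. -/
theorem aut_sys (h : Ess S R) :
    letI := autAct (Aut1 R h.comm)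
    Sys 2 (Aut1 R h.comm) (Additive ↥(omega R h.comm)) (Sylow 2 (Aut1 R h.comm)) := by
  haveI : Fact (Nat.Prime 2) := ⟨Nat.prime_two⟩
  haveI := finite_mulAut' ↥(omega R h.comm)
  letI := autAct (Aut1 R h.comm)
  obtain ⟨Q0, hQ0⟩ := exists_sylow_image hA hS h
  have hmem : ∀ (g : Aut1 R h.comm) (Q : Sylow 2 (Aut1 R h.comm)), orderOf g = 2 → g • Q = Q →
      g ∈ (Q : Subgroup (Aut1 R h.comm)) := by
    intro g Q hg hgQ
    have hp : IsPGroup 2 (zpowers g) := twoEl_zpowers ⟨1, by rw [pow_one, ← hg, pow_orderOf_eq_one]⟩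
    exact (mem_inf.1 ((IsPGroup.inf_normalizer_sylow hp Q).le
      (mem_inf.2 ⟨mem_zpowers g, Sylow.smul_eq_iff_mem_normalizer.1 hgQ⟩))).2
  refine ⟨fun g hg => Subtype.ext (MulEquiv.ext fun v => Additive.ofMul.injective (hg (Additive.ofMul v))),
    fun v => ?_, fun g hg => ?_, fun g hg x y hx hy => ?_⟩
  · refine Additive.toMul.injective (Subtype.ext ?_)
    rw [two_nsmul, toMul_add, coe_mul]
    exact (Additive.toMul v).2.2
  · obtain ⟨Q, hQ⟩ := (twoEl_zpowers (⟨1, by rw [pow_one, ← hg, pow_orderOf_eq_one]⟩ : TwoEl g)).exists_le_sylow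
    exact ⟨Q, Sylow.smul_eq_iff_mem_normalizer.2 (le_normalizer (hQ (mem_zpowers g)))⟩
  · have hg1 : g ≠ 1 := fun e => by simp [e] at hg
    have h1 := hmem g x hg hx
    have h2 := hmem g y hg hy
    obtain ⟨a, rfl⟩ := MulAction.exists_smul_eq (Aut1 R h.comm) Q0 x
    obtain ⟨b, rfl⟩ := MulAction.exists_smul_eq (Aut1 R h.comm) Q0 y
    obtain ⟨q, hq, rfl⟩ := h1
    obtain ⟨q', hq', e⟩ := h2
    have he : b * q' * b⁻¹ = a * q * a⁻¹ := e
    have := fix_eq_base hA hS h hQ0 (k := a⁻¹ * b) (g := q) hq (fun e => hg1 (by simp [e]))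
      (by
        rw [show (a⁻¹ * b)⁻¹ * q * (a⁻¹ * b) = b⁻¹ * (a * q * a⁻¹) * b by group, ← he,
          show b⁻¹ * (b * q' * b⁻¹) * b = q' by group]
        exact hq')
    rw [mul_smul, inv_smul_eq_iff] at this
    exact this.symm

omit hA hS in
theorem conj_image {H : Type*} [Group H] (k : H) (K : Subgroup H) (g : H) :
    g ∈ conjS k K ↔ k⁻¹ * g * k ∈ K := mem_conjS

theorem two_points (h : Ess S R) {Q0 : Sylow 2 (Aut1 R h.comm)}
    (hQ0 : ∀ g : Aut1 R h.comm, g ∈ (Q0 : Subgroup (Aut1 R h.comm)) ↔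
      ∃ t : ↥(normalizer (R : Set G)), (t : G) ∈ NS S R ∧ omegaHom R h.comm t = g) :
    ∃ k : Aut1 R h.comm, k • Q0 ≠ Q0 := by
  haveI : Fact (Nat.Prime 2) := ⟨Nat.prime_two⟩
  set N := normalizer (R : Set G)
  set C := centralizer (R : Set G)
  by_contra! hall
  obtain ⟨n, hn, hn'⟩ := h.moved
  obtain ⟨u, hu, x, hx, hne⟩ := h.toSelfCent.exists_pair hA hS
  have huR : u ∉ R := fun hu' => hne (h.comm u hu' x hx)
  have hCN : C ≤ N := centralizer_le_normalizer _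
  have hnorm : NS S R ≤ normalizer (C : Set G) := fun x hx =>
    mem_normalizer_fintype fun c hc => mem_centralizer_iff.2 fun a ha => comm_of_conj (g := x⁻¹) (by
      simpa [mul_assoc] using mem_centralizer_iff.1 hc _ ((conj_mem_iff (inv_mem hx.2)).2 ha))
  -- `n u n⁻¹` acts as an element of `N_S(R)`
  let k : Aut1 R h.comm := ⟨omegaHom R h.comm ⟨n, hn⟩, ⟨_, rfl⟩⟩
  let g : Aut1 R h.comm := ⟨omegaHom R h.comm ⟨u, hu.2⟩, ⟨_, rfl⟩⟩
  have hg : g ∈ (Q0 : Subgroup _) := (hQ0 g).2 ⟨⟨u, hu.2⟩, hu, rfl⟩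
  have h1 : k * g * k⁻¹ ∈ (Q0 : Subgroup _) :=
    (conj_mem_iff (Sylow.smul_eq_iff_mem_normalizer.1 (hall k))).2 hg
  obtain ⟨t, ht, hte⟩ := (hQ0 _).1 h1
  have hc : n * u * n⁻¹ * (t : G)⁻¹ ∈ C := by
    have h1 : omegaHom R h.comm (⟨n, hn⟩ * ⟨u, hu.2⟩ * ⟨n, hn⟩⁻¹ * t⁻¹) = 1 := by
      rw [map_mul, map_inv, map_mul, map_mul, map_inv, hte]
      simp [k, g, mul_assoc]
    simpa using omegaHom_eq_one hA hS h h1
  obtain ⟨j, hj⟩ := twoEl_of_mem S.isPGroup' hu.1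
  have hmem : n * u * n⁻¹ ∈ NS S R ⊔ C := by
    rw [show n * u * n⁻¹ = n * u * n⁻¹ * (t : G)⁻¹ * t by group]
    exact mul_mem (mem_sup_right hc) (mem_sup_left ht)
  obtain ⟨z, hz, hzP⟩ := h.toSelfCent.exists_conj hA hS (K := NS S R ⊔ C) le_sup_left (sup_le inf_le_right hCN)
    (twoEl_zpowers ⟨j, show (n * u * n⁻¹) ^ 2 ^ j = 1 by rw [conj_pow, hj]; group⟩) (zpowers_le.2 hmem)
  obtain ⟨t'', ht'', c, hcC, rfl⟩ := (mem_sup_of_normalizes hnorm hz).1
  have hm : c * n ∈ normalizer ((S : Subgroup G) : Set G) := by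
    refine h.toSelfCent.share hA hS (mul_mem (hCN hcC) hn) hu huR ?_
    have h4 : t''⁻¹ * (t'' * c * (n * u * n⁻¹) * (t'' * c)⁻¹) * t'' ∈ NS S R :=
      mul_mem (mul_mem (inv_mem ht'') (hzP _ (mem_zpowers _))) ht''
    exact (show c * n * u * (c * n)⁻¹ = t''⁻¹ * (t'' * c * (n * u * n⁻¹) * (t'' * c)⁻¹) * t'' by group) ▸ h4.1
  refine hn' (c * n) (mul_mem (hCN hcC) hn) hm (mem_centralizer_iff.2 fun a ha => comm_of_conj (g := n) ?_)
  simpa [mul_assoc] using mem_centralizer_iff.1 (inv_mem hcC) _ ((conj_mem_iff hn).2 ha)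

/-- The offender in the automiser, a conjugate with another fixed point, and the theorem for them. -/
theorem offender (D : Offend S R B) :
    letI := autAct (Aut1 R D.ess.comm)
    ∃ (Bb : Subgroup (Aut1 R D.ess.comm)) (k : Aut1 R D.ess.comm) (Q0 : Sylow 2 (Aut1 R D.ess.comm)),
      Off 2 (Additive ↥(omega R D.ess.comm)) Bb ∧
      (∀ g : Aut1 R D.ess.comm, g ∈ Bb ↔
        ∃ b : ↥(normalizer (R : Set G)), (b : G) ∈ B ∧ omegaHom R D.ess.comm b = g) ∧
      Nat.card Bb * Nat.card ↥(R ⊓ B) = Nat.card B ∧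
      Concl 2 (Additive ↥(omega R D.ess.comm)) (Sylow 2 (Aut1 R D.ess.comm)) ⊤ Bb ∧
      FFEmb.PairData (Additive ↥(omega R D.ess.comm)) Bb (conjS k Bb) ∧
      FFEmb.PairData (Additive ↥(omega R D.ess.comm)) (conjS k Bb) Bb ∧
      (∀ g : Aut1 R D.ess.comm, g ∈ (Q0 : Subgroup _) ↔ g ∈ Bb) ∧ k • Q0 ≠ Q0 ∧
      ∀ u ∈ NS S R, ∃ b ∈ B, ∀ x ∈ R, u * x * u⁻¹ = b * x * b⁻¹ := by
  haveI : Fact (Nat.Prime 2) := ⟨Nat.prime_two⟩
  haveI := finite_mulAut' ↥(omega R D.ess.comm)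
  letI := autAct (Aut1 R D.ess.comm)
  have h := D.ess
  obtain ⟨Q0, hQ0⟩ := exists_sylow_image hA hS h
  obtain ⟨k, hk⟩ := two_points hA hS h hQ0
  set N := normalizer (R : Set G)
  let f : ↥B →* Aut1 R h.comm := (omegaHom R h.comm).rangeRestrict.comp (inclusion (D.le.trans inf_le_right))
  set Bb := f.range with hBb
  have hBmem : ∀ g : Aut1 R h.comm, g ∈ Bb ↔ ∃ b : N, (b : G) ∈ B ∧ omegaHom R h.comm b = g := by
    intro g
    constructor
    · rintro ⟨b, rfl⟩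
      exact ⟨_, b.2, rfl⟩
    · rintro ⟨b, hb, e⟩
      exact ⟨⟨b, hb⟩, Subtype.ext e⟩
  have hBQ : Bb ≤ (Q0 : Subgroup _) := fun g hg => by
    obtain ⟨b, hb, e⟩ := (hBmem g).1 hg
    exact (hQ0 g).2 ⟨b, D.le hb, e⟩
  have hker : f.ker = (R ⊓ B).subgroupOf B := by
    ext b
    rw [MonoidHom.mem_ker, mem_subgroupOf, mem_inf]
    constructor
    · intro hb
      have h1 := omegaHom_eq_one hA hS h (congrArg Subtype.val hb)
      exact ⟨h.self _ (D.le b.2).1 fun a ha => ((mem_centralizer_iff.1 h1) a ha).symm, b.2⟩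
    · intro hb
      refine Subtype.ext (MulEquiv.ext fun v => Subtype.ext ?_)
      exact mul_inv_eq_iff_eq_mul.2 (h.comm _ hb.1 _ v.2.1)
  have hcard : Nat.card Bb * Nat.card ↥(R ⊓ B) = Nat.card B := by
    have h1 := card_mul_index f.ker
    rw [index_ker, hker, Nat.card_congr (subgroupOfEquivOfLe (inf_le_right : R ⊓ B ≤ B)).toEquiv] at h1
    rw [mul_comm, ← h1]
  set V := omega R h.comm with hV
  set Cb := centralizer (B : Set G) with hCb
  have hfx : Nat.card (fx (Additive ↥V) Bb) = Nat.card ↥(V ⊓ Cb) := by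
    refine Nat.card_congr
      { toFun := fun v => ⟨((Additive.toMul (v : Additive ↥V) : ↥V) : G), (Additive.toMul (v : Additive ↥V)).2,
          mem_centralizer_iff.2 fun b hb => ?_⟩
        invFun := fun v => ⟨Additive.ofMul ⟨v, v.2.1⟩, fun g hg => ?_⟩
        left_inv := fun v => rfl
        right_inv := fun v => rfl }
    · have h1 := v.2 (f ⟨b, hb⟩) ⟨_, rfl⟩
      exact mul_inv_eq_iff_eq_mul.1 (congrArg Subtype.val (congrArg Additive.toMul h1))
    · obtain ⟨b, hb, e⟩ := (hBmem g).1 hg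
      refine Additive.toMul.injective (Subtype.ext ?_)
      show ((g : MulAut ↥V) ⟨v, v.2.1⟩ : G) = v
      rw [← e]
      exact mul_inv_eq_iff_eq_mul.2 (mem_centralizer_iff.1 v.2.2 _ hb)
  have hVle : V ≤ R := fun x hx => hx.1
  have hbound : Nat.card (Additive ↥V) ≤ Nat.card Bb * Nat.card (fx (Additive ↥V) Bb) := by
    rw [hfx, Nat.card_congr (Additive.toMul (α := ↥V))]
    have h1 := card_inf_mul_relIndex Cb V
    have h2 := card_inf_mul_relIndex Cb R
    have h3 : Cb.relIndex V ≤ Cb.relIndex R :=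
      relIndex_le_of_le_right hVle (index_ne_zero_of_finite (H := Cb.subgroupOf R))
    rw [inf_comm] at h1 h2
    have h4 := D.bound
    rw [← hcard, ← h2] at h4
    have h5 : Cb.relIndex R ≤ Nat.card Bb := by
      refine Nat.le_of_mul_le_mul_left (c := Nat.card ↥(R ⊓ Cb) * Nat.card ↥(R ⊓ B)) ?_ (Nat.mul_pos (Nat.card_pos (α := ↥(R ⊓ Cb))) (Nat.card_pos (α := ↥(R ⊓ B))))
      calc Nat.card ↥(R ⊓ Cb) * Nat.card ↥(R ⊓ B) * Cb.relIndex R
          = Nat.card ↥(R ⊓ Cb) * Cb.relIndex R * Nat.card ↥(R ⊓ B) := by ring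
        _ ≤ _ := h4
        _ = _ := by ring
    calc Nat.card ↥V = Nat.card ↥(V ⊓ Cb) * Cb.relIndex V := h1.symm
      _ ≤ Nat.card ↥(V ⊓ Cb) * Nat.card Bb := Nat.mul_le_mul_left _ (h3.trans h5)
      _ = _ := mul_comm _ _
  have hoff : Off 2 (Additive ↥V) Bb := by
    refine ⟨((S.isPGroup'.to_le (D.le.trans inf_le_left)).of_surjective f.rangeRestrict f.rangeRestrict_surjective), ?_, hbound, ?_⟩
    · intro e
      refine D.not_le fun b hb => ?_
      have h1 : (⟨b, hb⟩ : B) ∈ f.ker := MonoidHom.mem_ker.2 (mem_bot.1 (e ▸ (⟨_, rfl⟩ : f ⟨b, hb⟩ ∈ Bb)))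
      rw [hker] at h1
      exact h1.1
    · intro g hg v a ha
      obtain ⟨b, hb, e⟩ := (hBmem g).1 hg
      obtain ⟨b', hb', e'⟩ := (hBmem a).1 ha
      refine Additive.toMul.injective (Subtype.ext ?_)
      set w : ↥V := (g : MulAut ↥V) (Additive.toMul v) / Additive.toMul v with hw
      show (((a : MulAut ↥V) w : ↥V) : G) = (w : G)
      rw [← e']
      refine mul_inv_eq_iff_eq_mul.2 ?_
      have hwv : (w : G) = b * ((Additive.toMul v : ↥V) : G) * (b : G)⁻¹ * ((Additive.toMul v : ↥V) : G)⁻¹ := by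
        rw [hw, ← e, div_eq_mul_inv]; rfl
      rw [hwv]
      exact mem_centralizer_iff.1 (D.quad _ (Additive.toMul v).2.1 b hb) _ hb'
  have hsys := aut_sys hA hS h
  have hne1 : ∃ g ∈ Bb, g ≠ 1 := (bot_or_exists_ne_one Bb).resolve_left hoff.ne_bot
  have hat0 : At Bb Q0 := fun g hg => Sylow.smul_eq_iff_mem_normalizer.2 (le_normalizer (hBQ hg))
  have hat1 : At (conjS k Bb) (k • Q0) := at_conjS hat0
  have h2 : TwoPts 2 (Sylow 2 (Aut1 R h.comm)) (⊤ : Subgroup (Aut1 R h.comm)) :=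
    twoPts_of_at hoff.pgroup hoff.ne_bot (hoff.conj k).pgroup (hoff.conj k).ne_bot le_top le_top hat0 hat1 hk.symm
  have hIH : IH 2 (Additive ↥V) (Sylow 2 (Aut1 R h.comm)) (⊤ : Subgroup (Aut1 R h.comm)) :=
    fun K _ hK A hAK hA' => main hsys K hK A hAK hA'
  have hconcl := main hsys ⊤ h2 Bb le_top hoff
  have hQle : (Q0 : Subgroup _) ≤ Bb := hconcl.le_node _ le_top Q0.isPGroup' Q0 hat0
    fun g hg => Sylow.smul_eq_iff_mem_normalizer.2 (le_normalizer hg)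
  refine ⟨Bb, k, Q0, hoff, hBmem, hcard, hconcl,
    pair hsys h2 hIH hoff (hoff.conj k) le_top le_top (card_conjS k Bb).symm hat0 hat1 hk.symm,
    pair hsys h2 hIH (hoff.conj k) hoff le_top le_top (card_conjS k Bb) hat1 hat0 hk,
    fun g => ⟨fun hg => hQle hg, fun hg => hBQ hg⟩, hk, fun u hu => ?_⟩
  have h1 : (⟨omegaHom R h.comm ⟨u, hu.2⟩, ⟨_, rfl⟩⟩ : Aut1 R h.comm) ∈ Bb :=
    hQle ((hQ0 _).2 ⟨⟨u, hu.2⟩, hu, rfl⟩)
  obtain ⟨b, hb, e⟩ := (hBmem _).1 h1
  exact ⟨b, hb, fun x hx => omegaHom_eq_iff hA hS h (m := ⟨u, hu.2⟩) e.symm hx⟩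

end Main

end Cfsg.Agent.AbInter
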