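import Cfsg.Agent.Lib.AbInter.Consequences

/-!
Two essential subgroups normalising each other.
-/

set_option autoImplicit false
set_option linter.unusedSectionVars false
set_option linter.style.haveILetI false

namespace Cfsg.Agent.AbInter

open Subgroup

universe u

variable {G : Type u} [Group G] [Finite G] {S : Sylow 2 G} {A A' : Subgroup G}

theorem exists_normalizing {H P : Subgroup G} (hP : IsPGroup 2 P) (hle : H ≤ P) (hne : ¬ P ≤ H) :
    ∃ u ∈ P, u ∉ H ∧ u ∈ normalizer (H : Set G) := by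
  haveI : Fact (Nat.Prime 2) := ⟨Nat.prime_two⟩
  haveI := hP.isNilpotent
  have hlt : H.subgroupOf P < ⊤ := lt_top_iff_ne_top.2 fun e =>
    hne fun p hp => (e ▸ mem_top (⟨p, hp⟩ : P) :)
  obtain ⟨⟨w, hwP⟩, hw, hw'⟩ := SetLike.exists_of_lt (Group.normalizerCondition_of_isNilpotent _ hlt)
  exact ⟨w, hwP, hw', mem_normalizer_fintype fun y hy => (mem_normalizer_iff.1 hw ⟨y, hle hy⟩).1 hy⟩

theorem NS_map {m : G} (hm : m ∈ normalizer ((S : Subgroup G) : Set G)) (A : Subgroup G) :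
    NS S (A.map (MulAut.conj m).toMonoidHom) = (NS S A).map (MulAut.conj m).toMonoidHom := by
  refine le_antisymm (fun x hx => ?_) ?_
  · refine conjMap_mem.2 ⟨?_, mem_normalizer_of_conj hx.2⟩
    refine (conj_mem_iff hm).1 ?_
    rw [show m * (m⁻¹ * x * m) * m⁻¹ = x by group]
    exact hx.1
  · rintro _ ⟨x, hx, rfl⟩
    exact ⟨(conj_mem_iff hm).2 hx.1, mem_normalizer_conj hx.2⟩

/-- Two essential subgroups normalising each other. -/
structure Mate (S : Sylow 2 G) (A A' : Subgroup G) : Prop where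
  ess : Ess S A
  ess' : Ess S A'
  ne : A ≠ A'
  norm : A' ≤ normalizer (A : Set G)
  norm' : A ≤ normalizer (A' : Set G)

theorem Mate.symm (h : Mate S A A') : Mate S A' A := ⟨h.ess', h.ess, h.ne.symm, h.norm', h.norm⟩

variable (hA : AbInt G) (hS : ∃ x ∈ (S : Subgroup G), ∃ y ∈ (S : Subgroup G), x * y ≠ y * x)
include hA hS

omit hA hS in
theorem Mate.not_le (h : Mate S A A') : ¬ A' ≤ A := fun hle =>
  h.ne (le_antisymm (fun a ha => h.ess'.self a (h.ess.le ha) fun b hb => h.ess.comm a ha b (hle hb)) hle)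

omit hA hS in
theorem Mate.inf_centralizer (h : Mate S A A') : A ⊓ centralizer (A' : Set G) = A ⊓ A' :=
  le_antisymm (fun a ha => ⟨ha.1, h.ess'.self a (h.ess.le ha.1) fun b hb => (mem_centralizer_iff.1 ha.2 b hb).symm⟩)
    fun a ha => ⟨ha.1, mem_centralizer_R h.ess'.toSelfCent ha.2⟩

omit hA hS in
theorem Mate.comm_mem (h : Mate S A A') {a b : G} (ha : a ∈ A) (hb : b ∈ A') :
    b * a * b⁻¹ * a⁻¹ ∈ A ⊓ A' :=
  ⟨A.mul_mem ((conj_mem_iff (h.norm hb)).2 ha) (A.inv_mem ha), by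
    rw [show b * a * b⁻¹ * a⁻¹ = b * (a * b⁻¹ * a⁻¹) by group]
    exact mul_mem hb ((conj_mem_iff (h.norm' ha)).2 (inv_mem hb))⟩

omit hA hS in
theorem Mate.offend (h : Mate S A A') (hle : Nat.card A ≤ Nat.card A') : Offend S A A' :=
  ⟨h.ess, le_inf h.ess'.le h.norm, h.not_le,
    fun a ha b hb => mem_centralizer_R h.ess'.toSelfCent (h.comm_mem ha hb).2,
    by rw [h.inf_centralizer]; exact Nat.mul_le_mul_right _ hle⟩

theorem Mate.card_eq (h : Mate S A A') : Nat.card A = Nat.card A' := by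
  suffices key : ∀ {A A' : Subgroup G}, Mate S A A' → Nat.card A ≤ Nat.card A' → Nat.card A = Nat.card A' by
    rcases le_total (Nat.card A) (Nat.card A') with hle | hle
    · exact key h hle
    · exact (key h.symm hle).symm
  intro A A' h hle
  have := ((h.offend hle).out hA hS).card_eq
  rw [h.inf_centralizer] at this
  exact Nat.eq_of_mul_eq_mul_right Nat.card_pos this

theorem Mate.out (h : Mate S A A') : QuadOut S A A' := (h.offend (h.card_eq hA hS).le).out hA hS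

theorem Mate.top (h : Mate S A A') {u : G} (hu : u ∈ NS S A) : ∃ a ∈ A, ∃ b ∈ A', u = a * b :=
  (h.out hA hS).top u hu

omit hA hS in
theorem Mate.le_left (h : Mate S A A') : A ≤ NS S A := le_inf h.ess.le le_normalizer

omit hA hS in
theorem Mate.le_right (h : Mate S A A') : A' ≤ NS S A := le_inf h.ess'.le h.norm

theorem Mate.NS_le (h : Mate S A A') : NS S A ≤ NS S A' := by
  intro u hu
  obtain ⟨a, ha, b, hb, rfl⟩ := h.top hA hS hu
  exact mul_mem ⟨h.ess.le ha, h.norm' ha⟩ ⟨h.ess'.le hb, le_normalizer hb⟩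

theorem Mate.NS_eq (h : Mate S A A') : NS S A = NS S A' :=
  le_antisymm (h.NS_le hA hS) (h.symm.NS_le hA hS)

/-- `A ⊓ A'` is central in `N_S(A)`. -/
theorem Mate.central (h : Mate S A A') {z u : G} (hz : z ∈ A ⊓ A') (hu : u ∈ NS S A) : u * z = z * u := by
  obtain ⟨a, ha, b, hb, rfl⟩ := h.top hA hS hu
  exact (Commute.mul_left (show Commute a z from h.ess.comm a ha z hz.1)
    (show Commute b z from h.ess'.comm b hb z hz.2)).eq

theorem Mate.mem_of_comm (h : Mate S A A') {a b : G} (ha : a ∈ A) (hb : b ∈ A') (hb' : b ∉ A)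
    (hc : b * a = a * b) : a ∈ A' := by
  have h1 : a ∈ A ⊓ centralizer (A' : Set G) := ⟨ha, (h.out hA hS).fix b hb hb' a ha hc⟩
  rw [h.inf_centralizer] at h1
  exact h1.2

theorem Mate.sq_mem (h : Mate S A A') {a : G} (ha : a ∈ A) : a * a ∈ A' := by
  have h1 : a * a ∈ A ⊓ centralizer (A' : Set G) := ⟨mul_mem ha ha, (h.out hA hS).sq_left a ha⟩
  rw [h.inf_centralizer] at h1
  exact h1.2

theorem Mate.omega (h : Mate S A A') {a : G} (ha : a ∈ A) : ∃ v ∈ A, v * v = 1 ∧ v⁻¹ * a ∈ A ⊓ A' := by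
  obtain ⟨v, hv, hv2, hz⟩ := (h.out hA hS).omega a ha
  exact ⟨v, hv, hv2, h.inf_centralizer.le ⟨A.mul_mem (A.inv_mem hv) ha, hz⟩⟩

theorem Mate.comm_sq (h : Mate S A A') {a b z : G} (ha : a ∈ A) (hb : b ∈ A') (hz : z ∈ A ⊓ A')
    (he : b * a * b⁻¹ * a⁻¹ = z * z) : b * a = a * b :=
  (h.out hA hS).comm_sq a ha b hb z hz.1 (mem_centralizer_R h.ess'.toSelfCent hz.2) he

theorem Mate.comm_two (h : Mate S A A') {a b : G} (ha : a ∈ A) (hb : b ∈ A') :
    b * a * b⁻¹ * a⁻¹ * (b * a * b⁻¹ * a⁻¹) = 1 := by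
  have h1 : b * (a * a) = a * a * b := h.ess'.comm b hb _ (h.sq_mem hA hS ha)
  rw [sq_mul h.ess.comm ((conj_mem_iff (h.norm hb)).2 ha) (inv_mem ha),
    show b * a * b⁻¹ * (b * a * b⁻¹) = b * (a * a) * b⁻¹ by group, h1]
  group

/-- The involutions of `N_S(A)` lie in `A` or `A'`. -/
theorem Mate.inv_mem_or (h : Mate S A A') {u : G} (hu : u ∈ NS S A) (hu2 : u * u = 1) : u ∈ A ∨ u ∈ A' := by
  obtain ⟨a, ha, b, hb, rfl⟩ := h.top hA hS hu
  by_cases hbA : b ∈ A
  · exact Or.inl (mul_mem ha hbA)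
  by_cases haA : a ∈ A'
  · exact Or.inr (mul_mem haA hb)
  exfalso
  obtain ⟨v, hv, hv2, hz⟩ := h.omega hA hS ha
  obtain ⟨w, hw, hw2, hz'⟩ := h.symm.omega hA hS hb
  set z := v⁻¹ * a
  set z' := w⁻¹ * b
  have hz'' : z' ∈ A ⊓ A' := ⟨hz'.2, hz'.1⟩
  have ha2 : a * a = z * z := by
    rw [show a * a = v * z * (v * z) by simp only [z]; group, sq_mul h.ess.comm hv hz.1, hv2, one_mul]
  have hb2 : b * b = z' * z' := by
    rw [show b * b = w * z' * (w * z') by simp only [z']; group, sq_mul h.ess'.comm hw hz''.2, hw2, one_mul]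
  have hzinv : z⁻¹ * z'⁻¹ ∈ A ⊓ A' := mul_mem (inv_mem hz) (inv_mem hz'')
  refine haA (h.mem_of_comm hA hS ha hb hbA (h.comm_sq hA hS ha hb hzinv ?_))
  have e1 : b * a * b⁻¹ * a⁻¹ = a⁻¹ * (b * b)⁻¹ * a⁻¹ := by
    have h1 : b * a * b = a⁻¹ := by
      rw [eq_inv_iff_mul_eq_one]
      calc b * a * b * a = a⁻¹ * (a * b * (a * b)) * a := by group
        _ = 1 := by rw [hu2]; group
    calc b * a * b⁻¹ * a⁻¹ = b * a * b * (b * b)⁻¹ * a⁻¹ := by group
      _ = _ := by rw [h1]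
  have e2 : a⁻¹ * (b * b)⁻¹ * a⁻¹ = (a * a)⁻¹ * (b * b)⁻¹ := by
    have hc : (b * b)⁻¹ * a⁻¹ = a⁻¹ * (b * b)⁻¹ := by
      rw [← mul_inv_rev, ← mul_inv_rev]
      exact congrArg _ (h.ess.comm a ha _ (h.symm.sq_mem hA hS hb))
    rw [mul_assoc, hc]; group
  rw [e1, e2, ha2, hb2, sq_mul h.ess.comm (inv_mem hz.1) (inv_mem hz''.1)]
  group

/-- An element of `A` outside `A'` has centraliser `A` in `S`. -/
theorem Mate.cS_le (h : Mate S A A') {a g : G} (ha : a ∈ A) (ha' : a ∉ A') (hg : g ∈ (S : Subgroup G))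
    (hga : g * a = a * g) : g ∈ A := by
  by_contra hgA
  have hle : A ≤ cS S a := fun b hb => mem_cS.2 ⟨h.ess.le hb, h.ess.comm b hb a ha⟩
  obtain ⟨u, hu, hu', hun⟩ := exists_normalizing (S.isPGroup'.to_le (inf_le_left : cS S a ≤ (S : Subgroup G))) hle
    fun hle' => hgA (hle' (mem_cS.2 ⟨hg, hga⟩))
  obtain ⟨r, hr, b, hb, rfl⟩ := h.top hA hS (u := u) ⟨(mem_cS.1 hu).1, hun⟩
  have hbA : b ∉ A := fun hbA => hu' (mul_mem hr hbA)
  refine ha' (h.mem_of_comm hA hS ha hb hbA ?_)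
  exact (show r * (b * a) = r * (a * b) by
    rw [← mul_assoc, (mem_cS.1 hu).2, ← mul_assoc, ← mul_assoc, h.ess.comm a ha r hr]) |> mul_left_cancel

theorem Mate.exists_inv (h : Mate S A A') : ∃ v ∈ A, v * v = 1 ∧ v ∉ A' := by
  obtain ⟨b, hb, hb'⟩ := SetLike.not_le_iff_exists.1 h.not_le
  obtain ⟨v, hv, hv2, hne⟩ := h.ess.exists_moved hA hS (h.le_right hb) hb'
  exact ⟨v, hv, hv2, fun hv' => hne (h.ess'.comm b hb v hv')⟩

/-- The essential subgroups in `N_S(A)`. -/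
theorem Mate.ess_le (h : Mate S A A') {R : Subgroup G} (hR : Ess S R) (hle : R ≤ NS S A) : R = A ∨ R = A' := by
  obtain ⟨b, hb, hb'⟩ := SetLike.not_le_iff_exists.1 h.not_le
  obtain ⟨v, hv, hv2, hne⟩ := h.ess.exists_moved hA hS (h.le_right hb) hb'
  obtain ⟨u, hu, huR, hun⟩ := exists_normalizing (S.isPGroup'.to_le (inf_le_left : NS S A ≤ (S : Subgroup G))) hle
    fun hle' => hne (hR.comm b (hle' (h.le_right hb)) v (hle' (h.le_left hv)))
  obtain ⟨r, hr, hr2, hne'⟩ := hR.exists_moved hA hS ⟨hu.1, hun⟩ huR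
  have key : ∀ {X Y : Subgroup G}, Mate S X Y → r ∈ X → r ∉ Y → R = X := by
    intro X Y hXY hrX hrY
    refine le_antisymm (fun g hg => hXY.cS_le hA hS hrX hrY (hR.le hg) (hR.comm g hg r hr)) fun g hg => ?_
    exact hR.self g (hXY.ess.le hg) fun a ha =>
      hXY.ess.comm g hg a (hXY.cS_le hA hS hrX hrY (hR.le ha) (hR.comm a ha r hr))
  rcases h.inv_mem_or hA hS (hle hr) hr2 with hrA | hrA
  · exact Or.inl (key h hrA fun hr' => hne' (h.central hA hS ⟨hrA, hr'⟩ hu))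
  · exact Or.inr (key h.symm hrA fun hr' => hne' (h.central hA hS ⟨hr', hrA⟩ hu))

omit hA hS in
/-- A nonnormal essential subgroup has a conjugate mate. -/
theorem Mate.of_conj (hE : Ess S A) {s : G} (hs : s ∈ (S : Subgroup G))
    (hsN : s ∈ normalizer ((NS S A : Subgroup G) : Set G)) (hs' : s ∉ NS S A) :
    Mate S A (A.map (MulAut.conj s).toMonoidHom) := by
  have hsS : s ∈ normalizer ((S : Subgroup G) : Set G) := le_normalizer hs
  have hA1 : A ≤ NS S A := le_inf hE.le le_normalizer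
  refine ⟨hE, hE.conj hsS, fun e => hs' ⟨hs, mem_normalizer_fintype fun a ha => ?_⟩, ?_, fun a ha => ?_⟩
  · have : s * a * s⁻¹ ∈ A.map (MulAut.conj s).toMonoidHom := mem_map_of_mem (MulAut.conj s).toMonoidHom ha
    rwa [← e] at this
  · rintro _ ⟨a, ha, rfl⟩
    exact ((conj_mem_iff hsN).2 (hA1 ha)).2
  · have h1 : s⁻¹ * a * s ∈ NS S A := by simpa using (conj_mem_iff (inv_mem hsN)).2 (hA1 ha)
    have h2 := mem_normalizer_conj (g := s) h1.2
    rwa [show s * (s⁻¹ * a * s) * s⁻¹ = a by group] at h2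

omit hA hS in
theorem exists_mover (hne : ¬ (S : Subgroup G) ≤ NS S A) :
    ∃ s ∈ (S : Subgroup G), s ∈ normalizer ((NS S A : Subgroup G) : Set G) ∧ s ∉ NS S A := by
  obtain ⟨s, hs, hs', hsN⟩ := exists_normalizing S.isPGroup' (inf_le_left : NS S A ≤ (S : Subgroup G)) hne
  exact ⟨s, hs, hsN, hs'⟩

/-- An element of `S` normalising `N_S(A)` outside it exchanges the mates. -/
theorem Mate.swap (h : Mate S A A') {s : G} (hs : s ∈ (S : Subgroup G))
    (hsN : s ∈ normalizer ((NS S A : Subgroup G) : Set G)) (hs' : s ∉ NS S A) :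
    A.map (MulAut.conj s).toMonoidHom = A' ∧ A'.map (MulAut.conj s).toMonoidHom = A := by
  have hsS : s ∈ normalizer ((S : Subgroup G) : Set G) := le_normalizer hs
  have himg : ∀ X : Subgroup G, X ≤ NS S A → X.map (MulAut.conj s).toMonoidHom ≤ NS S A := by
    rintro X hX _ ⟨x, hx, rfl⟩
    exact (conj_mem_iff hsN).2 (hX hx)
  have hne : A.map (MulAut.conj s).toMonoidHom ≠ A := fun e => hs' ⟨hs, mem_normalizer_fintype fun a ha => by
    have : s * a * s⁻¹ ∈ A.map (MulAut.conj s).toMonoidHom := mem_map_of_mem (MulAut.conj s).toMonoidHom ha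
    rwa [e] at this⟩
  have h1 := (h.ess_le hA hS (h.ess.conj hsS) (himg A h.le_left)).resolve_left hne
  refine ⟨h1, (h.ess_le hA hS (h.ess'.conj hsS) (himg A' h.le_right)).resolve_right fun e => h.ne ?_⟩
  exact map_injective (MulAut.conj s).injective (h1.trans e.symm)

end Cfsg.Agent.AbInter
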