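import Cfsg.Agent.Lib.AbInter.Base
import Cfsg.Agent.Lib.FFEmbedded.Count

/-!
A quadratic offender on an essential subgroup is the whole `N_S(R)` modulo `R`: the automiser acts on the
involutions of `R` with Sylow 2-subgroups meeting trivially, so the theorem on offenders in such groups applies.
-/

set_option autoImplicit false
set_option linter.unusedSectionVars false
set_option linter.style.haveILetI false

namespace Cfsg.Agent.AbInter

open Subgroup FFEmb

universe u

variable {G : Type u} [Group G]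

/-- The involutions of an abelian subgroup. -/
def omega (R : Subgroup G) (hc : ∀ a ∈ R, ∀ b ∈ R, a * b = b * a) : Subgroup G where
  carrier := {x | x ∈ R ∧ x * x = 1}
  one_mem' := ⟨one_mem R, one_mul 1⟩
  mul_mem' := fun {a b} ha hb => ⟨mul_mem ha.1 hb.1, by
    rw [mul_assoc, ← mul_assoc b, hc b hb.1 a ha.1, mul_assoc a b b, hb.2, mul_one, ha.2]⟩
  inv_mem' := fun {a} ha => ⟨inv_mem ha.1, by rw [← mul_inv_rev, ha.2, inv_one]⟩

theorem sq_mul {R : Subgroup G} (hc : ∀ a ∈ R, ∀ b ∈ R, a * b = b * a) {a b : G} (ha : a ∈ R) (hb : b ∈ R) :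
    a * b * (a * b) = a * a * (b * b) := by
  rw [mul_assoc, ← mul_assoc b, hc b hb a ha]; group

/-- Two subgroups, `|H ∩ K| [H : H ∩ K] = |H|`. -/
theorem card_inf_mul_relIndex (C R : Subgroup G) : Nat.card ↥(C ⊓ R) * C.relIndex R = Nat.card R := by
  have h := relIndex_mul_relIndex (⊥ : Subgroup G) (C ⊓ R) R bot_le inf_le_right
  rwa [relIndex_bot_left, relIndex_bot_left, inf_relIndex_right] at h

/-- The action on the involutions, written additively. -/
@[reducible] def autAct {V : Type*} [CommGroup V] (H : Subgroup (MulAut V)) :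
    DistribMulAction H (Additive V) where
  smul h v := Additive.ofMul ((h : MulAut V) (Additive.toMul v))
  one_smul _ := rfl
  mul_smul _ _ _ := rfl
  smul_zero h := congrArg Additive.ofMul (map_one (h : MulAut V))
  smul_add h a b := congrArg Additive.ofMul (map_mul (h : MulAut V) (Additive.toMul a) (Additive.toMul b))

theorem mem_sup_of_normalizes {H N : Subgroup G} (hLE : H ≤ normalizer (N : Set G)) {x : G} (hx : x ∈ H ⊔ N) :
    (∃ a ∈ H, ∃ b ∈ N, a * b = x) ∧ ∃ b ∈ N, ∃ a ∈ H, b * a = x := by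
  rw [← SetLike.mem_coe, coe_mul_of_left_le_normalizer_right H N hLE] at hx
  obtain ⟨a, ha, b, hb, rfl⟩ := hx
  exact ⟨⟨a, ha, b, hb, rfl⟩, a * b * a⁻¹, (conj_mem_iff (hLE ha)).2 hb, a, ha, by group⟩

variable [Finite G] {S : Sylow 2 G}

/-- What the offender theorem gives. -/
structure QuadOut (S : Sylow 2 G) (R B : Subgroup G) : Prop where
  top : ∀ u ∈ NS S R, ∃ r ∈ R, ∃ b ∈ B, u = r * b
  card_eq : Nat.card R * Nat.card ↥(R ⊓ B) = Nat.card B * Nat.card ↥(R ⊓ centralizer (B : Set G))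
  fix : ∀ b ∈ B, b ∉ R → ∀ a ∈ R, b * a = a * b → a ∈ centralizer (B : Set G)
  omega : ∀ a ∈ R, ∃ v ∈ R, v * v = 1 ∧ v⁻¹ * a ∈ centralizer (B : Set G)
  sq_left : ∀ a ∈ R, a * a ∈ centralizer (B : Set G)
  sq_right : ∀ b ∈ B, b * b ∈ R
  comm_sq : ∀ a ∈ R, ∀ b ∈ B, ∀ z ∈ R, z ∈ centralizer (B : Set G) →
    b * a * b⁻¹ * a⁻¹ = z * z → b * a = a * b

/-- The data of a quadratic offender on an essential subgroup. -/
structure Offend (S : Sylow 2 G) (R B : Subgroup G) : Prop where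
  ess : Ess S R
  le : B ≤ NS S R
  not_le : ¬ B ≤ R
  quad : ∀ a ∈ R, ∀ b ∈ B, b * a * b⁻¹ * a⁻¹ ∈ centralizer (B : Set G)
  bound : Nat.card R * Nat.card ↥(R ⊓ B) ≤ Nat.card B * Nat.card ↥(R ⊓ centralizer (B : Set G))

section Bridge

variable (hA : AbInt G) (hS : ∃ x ∈ (S : Subgroup G), ∃ y ∈ (S : Subgroup G), x * y ≠ y * x)
include hA hS

/-- An element of `N(R)` moving some element of `N_S(R) \ R` into `S` normalises `S`. -/
theorem SelfCent.share {R : Subgroup G} (h : SelfCent S R) {n u : G} (hn : n ∈ normalizer (R : Set G))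
    (hu : u ∈ NS S R) (hu' : u ∉ R) (hnu : n * u * n⁻¹ ∈ (S : Subgroup G)) :
    n ∈ normalizer ((S : Subgroup G) : Set G) := by
  obtain ⟨x, hx, hne⟩ : ∃ x ∈ R, u * x ≠ x * u := by
    by_contra! hall
    exact hu' (h.self u hu.1 hall)
  exact mem_normalizer_of_noncomm hA hu.1 (h.le hx) hnu (h.le ((conj_mem_iff hn).2 hx)) hne

/-- What centralises the involutions of `R` centralises `R`. -/
theorem Ess.centralizes {R : Subgroup G} (h : Ess S R) :
    (∀ u ∈ NS S R, (∀ v ∈ R, v * v = 1 → u * v = v * u) → u ∈ R) ∧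
      ∀ g ∈ normalizer (R : Set G), (∀ v ∈ R, v * v = 1 → g * v = v * g) → g ∈ centralizer (R : Set G) := by
  classical
  haveI : Fact (Nat.Prime 2) := ⟨Nat.prime_two⟩
  set N := normalizer (R : Set G) with hN
  set K : Subgroup G := N ⊓ centralizer {v : G | v ∈ R ∧ v * v = 1} with hKdef
  set C := centralizer (R : Set G) with hCdef
  have hCK : C ≤ K := le_inf (centralizer_le_normalizer _) (centralizer_le fun v hv => hv.1)
  have hKn : ∀ n ∈ N, ∀ k ∈ K, n * k * n⁻¹ ∈ K := by
    intro n hn k hk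
    refine ⟨N.mul_mem (N.mul_mem hn hk.1) (N.inv_mem hn), mem_centralizer_iff.2 fun v hv => ?_⟩
    refine comm_of_conj (g := n⁻¹) ?_
    have hv' : n⁻¹ * v * n ∈ R ∧ n⁻¹ * v * n * (n⁻¹ * v * n) = 1 :=
      ⟨by simpa using (conj_mem_iff (inv_mem hn)).2 hv.1, by
        rw [show n⁻¹ * v * n * (n⁻¹ * v * n) = n⁻¹ * (v * v) * n by group, hv.2]; group⟩
    simpa [mul_assoc] using mem_centralizer_iff.1 hk.2 _ hv'
  haveI hCn : (C.subgroupOf K).Normal := normal_subgroupOf_of_le_normalizer fun k hk => by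
    refine mem_normalizer_fintype fun c hc => mem_centralizer_iff.2 fun a ha => ?_
    refine comm_of_conj (g := k⁻¹) ?_
    simpa [mul_assoc] using mem_centralizer_iff.1 hc _ ((conj_mem_iff (inv_mem hk.1)).2 ha)
  -- modulo the centraliser the kernel is a 2-group
  have hpow : ∀ k ∈ K, ∃ j, k ^ 2 ^ j ∈ C := by
    intro k hk
    refine ⟨(orderOf k).factorization 2, mem_centralizer_iff.2 fun a ha => ?_⟩
    set g := k ^ 2 ^ (orderOf k).factorization 2 with hg
    have hodd : ¬ 2 ∣ orderOf g := by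
      rw [hg, orderOf_pow' _ (by positivity), Nat.gcd_eq_right (Nat.ordProj_dvd _ _)]
      exact Nat.not_dvd_ordCompl Nat.prime_two (orderOf_pos k).ne'
    have hgK : g ∈ K := pow_mem hk _
    have hle : R ≤ normalizer (R : Set G) := le_normalizer
    -- the fixed points contain the involutions
    set D : Subgroup G := R ⊓ centralizer ({g} : Set G) with hD
    by_contra hne
    have hlt : D < R := lt_of_le_of_ne inf_le_left fun e => hne
      (mem_centralizer_singleton_iff.1 (e.ge ha).2)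
    haveI : IsMulCommutative R := ⟨⟨fun a b => Subtype.ext (h.comm _ a.2 _ b.2)⟩⟩
    obtain ⟨a, ha, haD⟩ := SetLike.exists_of_lt hlt
    -- a first element outside with square inside
    obtain ⟨i, hi⟩ : ∃ i, a ^ 2 ^ i ∈ D := by
      obtain ⟨i, hi⟩ := twoEl_of_mem S.isPGroup' (h.le ha)
      exact ⟨i, hi ▸ one_mem D⟩
    have hex : ∃ b ∈ R, b ∉ D ∧ b * b ∈ D := by
      induction i generalizing a with
      | zero => exact absurd (by simpa using hi) haD
      | succ i ih =>
        by_cases hb : a * a ∈ D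
        · exact ⟨a, ha, haD, hb⟩
        · exact ih (a * a) (mul_mem ha ha) hb (by rwa [← pow_two, ← pow_mul, ← pow_succ'])
    obtain ⟨b, hbR, hbD, hbb⟩ := hex
    have he : g * b * g⁻¹ * b⁻¹ ∈ R := mul_mem ((conj_mem_iff hgK.1).2 hbR) (inv_mem hbR)
    have he2 : g * b * g⁻¹ * b⁻¹ * (g * b * g⁻¹ * b⁻¹) = 1 := by
      rw [sq_mul h.comm ((conj_mem_iff hgK.1).2 hbR) (inv_mem hbR),
        show g * b * g⁻¹ * (g * b * g⁻¹) = g * (b * b) * g⁻¹ by group,
        ← mem_centralizer_singleton_iff.1 hbb.2, mul_inv_cancel_right]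
      group
    set e := g * b * g⁻¹ * b⁻¹ with hedef
    have hge : g * e = e * g := (mem_centralizer_iff.1 hgK.2 e ⟨he, he2⟩).symm
    have hgb : ∀ j : ℕ, g ^ j * b * (g ^ j)⁻¹ = e ^ j * b := by
      intro j
      induction j with
      | zero => simp
      | succ j ih =>
        rw [show g ^ (j + 1) * b * (g ^ (j + 1))⁻¹ = g * (g ^ j * b * (g ^ j)⁻¹) * g⁻¹ by rw [pow_succ']; group,
          ih, show g * (e ^ j * b) * g⁻¹ = g * e ^ j * (b * g⁻¹) by group,
          (Commute.pow_right (show Commute g e from hge) j).eq,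
          show e ^ j * g * (b * g⁻¹) = e ^ j * (g * b * g⁻¹) by group,
          show g * b * g⁻¹ = e * b by rw [hedef]; group, ← mul_assoc, ← pow_succ]
    have h1 := hgb (orderOf g)
    rw [pow_orderOf_eq_one, one_mul, inv_one, mul_one] at h1
    have h2 : e ^ orderOf g = 1 := by
      rwa [eq_comm, mul_eq_right] at h1
    have h3 : e = 1 := by
      obtain ⟨m, hm⟩ := Nat.odd_iff.2 (Nat.two_dvd_ne_zero.1 hodd)
      rwa [hm, pow_succ, pow_mul, pow_two, he2, one_pow, one_mul] at h2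
    refine hbD ⟨hbR, mem_centralizer_singleton_iff.2 ?_⟩
    have : g * b * g⁻¹ = b := by
      rw [show g * b * g⁻¹ = e * b by rw [hedef]; group, h3, one_mul]
    exact (mul_inv_eq_iff_eq_mul.1 this).symm
  set T0 := NS S R ⊓ K with hT0
  have hkey : K ≤ C ⊔ T0 := by
    intro k hk
    set O := C ⊔ T0 with hO
    have hOK : O ≤ K := sup_le hCK inf_le_right
    have hp : IsPGroup 2 (K ⧸ C.subgroupOf K) := by
      intro q
      obtain ⟨⟨x, hx⟩, rfl⟩ := QuotientGroup.mk_surjective q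
      obtain ⟨j, hj⟩ := hpow x hx
      exact ⟨j, by rw [← QuotientGroup.mk_pow, QuotientGroup.eq_one_iff]; exact hj⟩
    obtain ⟨m, hm⟩ := IsPGroup.iff_card.1 hp
    have hd : O.relIndex K ∣ 2 ^ m := by
      rw [← hm, ← index_eq_card]
      exact relIndex_dvd_of_le_left K le_sup_left
    have hodd : ¬ 2 ∣ O.relIndex K := by
      intro h2
      have hT : IsPGroup 2 (T0.subgroupOf K) :=
        (S.isPGroup'.to_le ((inf_le_left : T0 ≤ NS S R).trans inf_le_left)).comap_of_injective K.subtype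
          K.subtype_injective
      obtain ⟨Q, hQ⟩ := hT.exists_le_sylow
      have hQT : (Q : Subgroup K) = T0.subgroupOf K := by
        refine le_antisymm (fun (q : K) hq => mem_subgroupOf.2 (show (q : G) ∈ NS S R ⊓ K from mem_inf.2 ⟨?_, q.2⟩)) hQ
        have hsup : IsPGroup 2 ↥((Q : Subgroup K).map K.subtype ⊔ R) := by
          refine IsPGroup.to_sup_of_normal_right' (Q.isPGroup'.map _) (S.isPGroup'.to_le h.le) ?_
          rintro _ ⟨x, -, rfl⟩; exact x.2.1
        obtain ⟨t, ht, hmap⟩ := h.toSelfCent.exists_conj hA hS (inf_le_right : NS S R ≤ N) le_rfl hsup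
          (sup_le ((map_subtype_le _).trans inf_le_left) le_normalizer)
        by_cases hall : ∀ q ∈ (Q : Subgroup K), (q : G) ∈ R
        · exact (⟨h.le (hall q hq), le_normalizer (hall q hq)⟩ : (q : G) ∈ NS S R)
        push Not at hall
        obtain ⟨q0, hq0, hq0R⟩ := hall
        by_cases hTR : ∃ u ∈ T0, u ∉ R
        · obtain ⟨u, hu, huR⟩ := hTR
          obtain ⟨x, hx, hne⟩ : ∃ x ∈ R, u * x ≠ x * u := by
            by_contra! hall2
            exact huR (h.self u hu.1.1 hall2)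
          exact le_inf (le_of_noncomm hA hsup
            (mem_sup_left ⟨⟨u, hu.2⟩, hQ (mem_subgroupOf.2 hu), rfl⟩) (mem_sup_right hx) hu.1.1 (h.le hx) hne)
            (sup_le ((map_subtype_le _).trans inf_le_left) le_normalizer)
            (mem_sup_left ⟨q, hq, rfl⟩)
        · push Not at hTR
          exfalso
          have h1 := hmap q0 (mem_sup_left ⟨q0, hq0, rfl⟩)
          have h2 : t * (q0 : G) * t⁻¹ ∈ T0 := ⟨h1, hKn t ht _ q0.2⟩
          exact hq0R ((conj_mem_iff ht).1 (hTR _ h2))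
      refine Q.not_dvd_index (h2.trans ?_)
      rw [hQT]
      exact relIndex_dvd_of_le_left K le_sup_right
    have h1 : O.relIndex K = 1 := by
      obtain ⟨i, -, hi⟩ := (Nat.dvd_prime_pow Nat.prime_two).1 hd
      rcases i with _ | i
      · simpa using hi
      · exact absurd (hi ▸ dvd_pow_self 2 i.succ_ne_zero) hodd
    exact relIndex_eq_one.1 h1 hk
  have hdec : ∀ k ∈ K, ∃ c ∈ C, ∃ t ∈ T0, k = c * t := by
    intro k hk
    obtain ⟨c, hc, t, ht, e⟩ := (mem_sup_of_normalizes (H := T0) (N := C) (fun t ht => by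
      refine mem_normalizer_fintype fun c hc => mem_centralizer_iff.2 fun a ha => ?_
      refine comm_of_conj (g := t⁻¹) ?_
      simpa [mul_assoc] using mem_centralizer_iff.1 hc _ ((conj_mem_iff (inv_mem ht.1.2)).2 ha))
      (sup_comm C T0 ▸ hkey hk)).2
    exact ⟨c, hc, t, ht, e.symm⟩
  have hT0R : ∀ u ∈ T0, u ∈ R := by
    by_contra! hne
    obtain ⟨u, hu, huR⟩ := hne
    obtain ⟨n, hn, hn'⟩ := h.moved
    -- Frattini
    have hT2 : IsPGroup 2 (T0.map (MulAut.conj n).toMonoidHom) :=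
      (S.isPGroup'.to_le ((inf_le_left : T0 ≤ NS S R).trans inf_le_left)).map _
    obtain ⟨j, hj⟩ := twoEl_of_mem S.isPGroup' hu.1.1
    have hcu := hKn n hn u hu.2
    obtain ⟨k, hk, hkP⟩ := h.toSelfCent.exists_conj hA hS (K := NS S R ⊔ K) le_sup_left
      (sup_le inf_le_right inf_le_left) (twoEl_zpowers ⟨j, show (n * u * n⁻¹) ^ 2 ^ j = 1 by rw [conj_pow, hj]; group⟩)
      (zpowers_le.2 (mem_sup_right hcu))
    obtain ⟨t, ht, k', hk', e⟩ := (mem_sup_of_normalizes (H := NS S R) (N := K) (fun t ht =>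
      mem_normalizer_fintype (hKn t ht.2)) hk).1
    obtain ⟨c, hc, t', ht', e'⟩ := hdec k' hk'
    subst e e'
    have hm : t * (c * t') * n ∈ normalizer ((S : Subgroup G) : Set G) := by
      refine h.toSelfCent.share hA hS (mul_mem (mul_mem ht.2 (mul_mem (centralizer_le_normalizer _ hc) ht'.1.2)) hn)
        hu.1 huR ?_
      rw [show t * (c * t') * n * u * (t * (c * t') * n)⁻¹ = t * (c * t') * (n * u * n⁻¹) * (t * (c * t'))⁻¹ by group]
      exact (hkP _ (mem_zpowers _)).1
    have hSS : ∀ s ∈ NS S R, s ∈ normalizer ((S : Subgroup G) : Set G) := fun s hs => le_normalizer hs.1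
    -- n = t'⁻¹ c⁻¹ t⁻¹ m
    set m := t * (c * t') * n with hmdef
    have hm' : m ∈ normalizer (R : Set G) :=
      mul_mem (mul_mem ht.2 (mul_mem (centralizer_le_normalizer _ hc) ht'.1.2)) hn
    refine hn' (t'⁻¹ * (t⁻¹ * m)) (mul_mem (inv_mem ht'.1.2) (mul_mem (inv_mem ht.2) hm'))
      (mul_mem (inv_mem (hSS t' ht'.1)) (mul_mem (inv_mem (hSS t ht)) hm)) ?_
    rw [show (t'⁻¹ * (t⁻¹ * m))⁻¹ * n = n⁻¹ * (t'⁻¹ * c⁻¹ * t') * n by rw [hmdef]; group]
    refine mem_centralizer_iff.2 fun a ha => comm_of_conj (g := n) ?_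
    have hc' : t'⁻¹ * c⁻¹ * t' ∈ C := mem_centralizer_iff.2 fun b hb => comm_of_conj (g := t') (by
      simpa [mul_assoc] using mem_centralizer_iff.1 (inv_mem hc) _ ((conj_mem_iff ht'.1.2).2 hb))
    simpa [mul_assoc] using mem_centralizer_iff.1 hc' _ ((conj_mem_iff hn).2 ha)
  refine ⟨fun u hu hc => hT0R u ⟨hu, hu.2, mem_centralizer_iff.2 fun v hv => (hc v hv.1 hv.2).symm⟩,
    fun g hg hc => ?_⟩
  obtain ⟨c, hc', t, ht, rfl⟩ := hdec g ⟨hg, mem_centralizer_iff.2 fun v hv => (hc v hv.1 hv.2).symm⟩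
  exact mul_mem hc' (mem_centralizer_iff.2 fun a ha => h.comm a ha t (hT0R t ht))

theorem Ess.exists_moved {R : Subgroup G} (h : Ess S R) {u : G} (hu : u ∈ NS S R) (hu' : u ∉ R) :
    ∃ v ∈ R, v * v = 1 ∧ u * v ≠ v * u := by
  by_contra! hall
  exact hu' ((h.centralizes hA hS).1 u hu hall)

end Bridge

end Cfsg.Agent.AbInter
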