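import Cfsg.Agent.Lib.AbInter.Chain

/-!
The second family of essential subgroups in the small case, and the resulting shape of the Sylow subgroup.
-/

set_option autoImplicit false
set_option linter.unusedSectionVars false
set_option linter.style.haveILetI false

namespace Cfsg.Agent.AbInter

open Subgroup

universe u

variable {G : Type u} [Group G] [Finite G] {S : Sylow 2 G} {A A' P R : Subgroup G} {v d w y : G} {i : ℕ}

/-- The commutators of the 2-elements of the normaliser of `A` with `A`. -/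
structure Com (S : Sylow 2 G) (A : Subgroup G) (v d : G) : Prop where
  comm : ∀ u ∈ normalizer (A : Set G), TwoEl u → ∀ x ∈ A, u * x * u⁻¹ * x⁻¹ ∈ ({1, d, v, d * v} : Set G)
  exists_u : ∃ u₀ ∈ normalizer (A : Set G), TwoEl u₀ ∧ (∃ x ∈ A, u₀ * x * u₀⁻¹ * x⁻¹ = v) ∧
    (∀ x ∈ A, (∀ g ∈ NS S A, g * x = x * g) → u₀ * x = x * u₀ →
      ∀ u ∈ normalizer (A : Set G), TwoEl u → u * x = x * u) ∧
    ∀ x ∈ A, ∀ z ∈ A, u₀ * x ≠ x * u₀ → u₀ * z ≠ z * u₀ → u₀ * (x⁻¹ * z) = x⁻¹ * z * u₀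

theorem SelfCent.eq_of_le {X : Subgroup G} (hR : SelfCent S R) (hX : SelfCent S X) (hle : R ≤ X) : R = X :=
  le_antisymm hle fun x hx => hR.self x (hX.le hx) fun r hr => hX.comm x hx r (hle hr)

variable (hA : AbInt G) (hS : ∃ x ∈ (S : Subgroup G), ∃ y ∈ (S : Subgroup G), x * y ≠ y * x)
include hA hS

theorem exists_setup [IsSimpleGroup G] (hG : ¬ IsMulCommutative G) (hE : Ess S A)
    (hnn : ¬ (S : Subgroup G) ≤ NS S A) : ∃ A' v d, Setup S A A' v d ∧ Com S A v d := by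
  obtain ⟨s, hs, hsN, hs'⟩ := exists_mover hnn
  have h : Mate S A (A.map (MulAut.conj s).toMonoidHom) := Mate.of_conj hE hs hsN hs'
  set A' := A.map (MulAut.conj s).toMonoidHom
  have hsmall := small_of_simple hA hS hG h hnn
  obtain ⟨b₀, hb, hb'⟩ := SetLike.not_le_iff_exists.1 h.not_le
  have hsmall' : Nat.card A' ≤ 2 * Nat.card ↥(A' ⊓ A) := by rw [inf_comm, ← h.card_eq hA hS]; exact hsmall
  have h2 : ∀ b ∈ A', b ∈ A ∨ b₀⁻¹ * b ∈ A := fun b hbA => by
    rcases coset_two (Z := A' ⊓ A) inf_le_left hsmall' hb (fun e => hb' e.2) hbA with h1 | h1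
    · exact Or.inl h1.2
    · exact Or.inr h1.2
  obtain ⟨v, hv, hv2, hne, hcomm, u₀, hu₀, hu₀2, hw, hfix, hnon⟩ :=
    (h.offend (h.card_eq hA hS).le).two_case hA hS hb hb' h2
  have hv' : v ∉ A' := fun e => hne (h.ess'.comm b₀ hb v e)
  refine ⟨A', v, _, h.setup hA hS hnn hsmall hv hv2 hv' hb hb', fun u hu htu x hx => ?_,
    u₀, hu₀, hu₀2, hw, fun x hx hN hc => hfix x hx (hN b₀ (h.le_right hb)) hc, hnon⟩
  have := hcomm u hu htu x hx
  rwa [show b₀ * v * b₀⁻¹ * v⁻¹ * v = b₀ * v * b₀⁻¹ by group]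

section

variable (st : Setup S A A' v d) (T : Top S A A' v d P w i y) (hy : y * y = 1)
include st T hy

theorem Top.yv_sq : y * v * (y * v) = w := by
  have h := T.conj
  rw [inv_eq_of_mul_eq_one_right hy] at h
  rw [show y * v * (y * v) = y * v * y * v by group, h, mul_assoc, st.v_sq, mul_one]

theorem Top.conj_y (k : ℤ) : y * w ^ k * y⁻¹ = w ^ (-k) := by
  have hyi : y⁻¹ = y := inv_eq_of_mul_eq_one_right hy
  have h1 : y * w * y⁻¹ = w⁻¹ := by
    rw [← T.yv_sq hA hS st hy]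
    calc y * (y * v * (y * v)) * y⁻¹ = y * y * (v * y * v * y⁻¹) := by group
      _ = v⁻¹ * y⁻¹ * (v⁻¹ * y⁻¹) := by rw [hy, one_mul, st.v_inv, hyi]; group
      _ = _ := by group
  rw [← conj_zpow, h1, inv_zpow']

theorem Top.exists_c : ∃ c ∈ P, (∀ k : ℤ, Commute c (w ^ k)) ∧ (∀ z ∈ A ⊓ A', Commute c z) ∧
    v * c * v⁻¹ = c⁻¹ ∧ y * c * y⁻¹ = c⁻¹ ∧ c * c = d ∧ c⁻¹ ≠ c := by
  have I := T.inv
  obtain ⟨j, rfl⟩ : ∃ j, i = j + 2 := ⟨i - 2, by have := I.two_le; omega⟩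
  obtain ⟨hd, hd2, hd1⟩ := st.d_facts hA hS
  have hcc : w ^ (2 : ℤ) ^ j * w ^ (2 : ℤ) ^ j = d := by
    rw [← zpow_add, ← two_mul, ← pow_succ', show ((2 : ℤ) ^ (j + 1)) = ((2 ^ (j + 1) : ℕ) : ℤ) by norm_num,
      zpow_natCast]
    exact I.pow
  refine ⟨_, zpow_mem I.mem ((2 : ℤ) ^ j), fun k => (Commute.refl w).zpow_zpow _ k, fun z hz => ?_, I.conj_v _ |>.trans
    (zpow_neg w _), (T.conj_y hA hS st hy _).trans (zpow_neg w _), hcc, fun e => hd1 ?_⟩
  · obtain ⟨u, hu, hconj⟩ := I.conj_z hz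
    refine (show Commute z (w ^ (2 : ℤ) ^ j) from mul_inv_eq_iff_eq_mul.1 ?_).symm
    rw [hconj]
    refine (I.zpow_inj hA hS st).2 ?_
    rw [show u * (2 : ℤ) ^ j - 2 ^ j = (2 : ℤ) ^ j * (u - 1) by ring, pow_add]
    exact mul_dvd_mul_left _ (Int.dvd_of_emod_eq_zero (by omega))
  · rw [← hcc]
    conv_lhs => arg 1; rw [← e]
    exact inv_mul_cancel _

theorem Top.comm_d : y * d = d * y := by
  obtain ⟨c, -, -, -, -, hc, hcc, -⟩ := T.exists_c hA hS st hy
  obtain ⟨hd, hd2, -⟩ := st.d_facts hA hS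
  refine mul_inv_eq_iff_eq_mul.1 ?_
  calc y * d * y⁻¹ = y * c * y⁻¹ * (y * c * y⁻¹) := by rw [← hcc]; group
    _ = (c * c)⁻¹ := by rw [hc]; group
    _ = d := by rw [hcc]; exact inv_eq_of_mul_eq_one_right hd2

theorem Top.conj_z_even {z : G} (hz : z ∈ A ⊓ A') :
    ∃ k : ℤ, Even k ∧ ∃ z' ∈ A ⊓ A', y * z * y⁻¹ = w ^ k * z' := by
  obtain ⟨c, -, hcw, hcz, hvc, hyc, -, hne⟩ := T.exists_c hA hS st hy
  have I := T.inv
  have hp : y * z * y⁻¹ ∈ P := (conj_mem_iff (T.normal T.n_mem)).2 (I.le_A st hz.1)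
  obtain ⟨k, z', hz', e⟩ := I.cover _ hp
  rcases e with e | e
  · obtain ⟨u, hu, hconj⟩ := I.conj_z hz'
    refine ⟨k, ?_, z', hz', e⟩
    have h1 := conj_comm (st.comm_z hz) y
    rw [e, T.conj] at h1
    have h2 : w ^ k * z' * (w * v) * (w ^ k * z')⁻¹ = w * v := by rw [h1, mul_inv_cancel_right]
    have h3 : w ^ (k + u + k) = w ^ (1 : ℤ) := by
      refine mul_right_cancel (b := v) ?_
      rw [zpow_one]
      conv_rhs => rw [← h2]
      have h4 : v * w ^ (-k) = w ^ k * v := by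
        have := I.conj_v (-k)
        rw [neg_neg] at this
        exact mul_inv_eq_iff_eq_mul.1 this
      have h5 : z' * w * z'⁻¹ = w ^ u := by simpa using hconj 1
      calc w ^ (k + u + k) * v = w ^ k * w ^ u * (w ^ k * v) := by rw [zpow_add, zpow_add]; group
        _ = w ^ k * (z' * w * z'⁻¹) * (v * w ^ (-k)) := by rw [h4, h5]
        _ = _ := by
          rw [show w ^ k * z' * (w * v) * (w ^ k * z')⁻¹ = w ^ k * (z' * w * z'⁻¹) * (z' * v * z'⁻¹) * w ^ (-k) by group,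
            st.comm_z hz', mul_inv_cancel_right]
          group
    have h6 := (I.zpow_inj hA hS st).1 h3
    have h7 : (4 : ℤ) ∣ k + u + k - 1 := by
      refine dvd_trans ?_ h6
      rw [show (4 : ℤ) = 2 ^ 2 by norm_num]
      exact pow_dvd_pow 2 I.two_le
    exact Int.even_iff.2 (by omega)
  · exfalso
    have h1 : Commute (y * z * y⁻¹) c := by
      have h2 : Commute (y * z * y⁻¹) (y * c * y⁻¹) := conj_comm (hcz z hz).symm.eq y
      rw [hyc] at h2
      simpa using h2.inv_right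
    rw [e] at h1
    have h2 : Commute v c := by
      have h3 := ((hcw (-k)).symm.mul_left h1).mul_left ((hcz z' hz').symm.inv_left)
      rwa [show w ^ (-k) * (w ^ k * v * z') * z'⁻¹ = v by group] at h3
    exact hne (hvc ▸ mul_inv_eq_iff_eq_mul.2 h2.eq)

/-- The centraliser of `y` in `P` has no part in the reflections. -/
theorem Top.cent_y {p : G} (hp : p ∈ P) (hc : p * y = y * p) : ∃ k : ℤ, ∃ z ∈ A ⊓ A', p = w ^ k * z := by
  have I := T.inv
  obtain ⟨k, z, hz, e⟩ := I.cover p hp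
  rcases e with e | e
  · exact ⟨k, z, hz, e⟩
  exfalso
  obtain ⟨m, hm, z', hz', e'⟩ := T.conj_z_even hA hS st hy hz
  have h4 : v * w ^ m = w ^ (-m) * v := mul_inv_eq_iff_eq_mul.1 (I.conj_v m)
  have h1 : w ^ (1 - k - m) * v * z' = w ^ k * v * z := by
    rw [← e]
    conv_rhs => rw [show p = y * p * y⁻¹ by rw [← hc]; group, e]
    calc w ^ (1 - k - m) * v * z' = w ^ (-k) * w * (w ^ (-m) * v) * z' := by
          rw [show 1 - k - m = -k + 1 + -m by ring, zpow_add, zpow_add, zpow_one]; group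
      _ = w ^ (-k) * (w * v) * (w ^ m * z') := by rw [← h4]; group
      _ = y * w ^ k * y⁻¹ * (y * v * y⁻¹) * (y * z * y⁻¹) := by rw [T.conj_y hA hS st hy, T.conj, e']
      _ = _ := by group
  have h2 : w ^ (1 - k - m + -k) ∈ A := by
    have h3 : w ^ (-k + (1 - k - m)) = v * (z * z'⁻¹) * v⁻¹ := by
      rw [zpow_add]
      calc w ^ (-k) * w ^ (1 - k - m) = w ^ (-k) * (w ^ (1 - k - m) * v * z') * z'⁻¹ * v⁻¹ := by group
        _ = _ := by rw [h1]; group
    rw [add_comm, h3]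
    exact mul_mem (mul_mem st.v_mem (mul_mem hz.1 (inv_mem hz'.1))) (inv_mem st.v_mem)
  have h5 : (2 : ℤ) ∣ 1 - k - m + -k :=
    (dvd_pow_self 2 (show i - 1 ≠ 0 by have := I.two_le; omega)).trans (I.mem_A hA hS st h2).1
  obtain ⟨r, rfl⟩ := hm
  omega

/-- The subgroup containing `y`. -/
theorem Top.second (hR : Ess S R) (hyR : y ∈ R) :
    ∃ c ∈ P, c ∈ NS S R ∧ c * y * c⁻¹ = d * y ∧ c * y ≠ y * c ∧ (∀ g ∈ NS S R, g ∈ R ∨ c⁻¹ * g ∈ R) ∧
      (∀ r ∈ R, r ∈ P → r * c = c * r) ∧ (∀ g ∈ (S : Subgroup G), g * y = y * g → g ∈ R) ∧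
      ¬ (S : Subgroup G) ≤ NS S R := by
  have I := T.inv
  obtain ⟨c, hcP, hcw, hcz, hvc, hyc, hcc, hne⟩ := T.exists_c hA hS st hy
  obtain ⟨hd, hd2, hd1⟩ := st.d_facts hA hS
  have hyi : y⁻¹ = y := inv_eq_of_mul_eq_one_right hy
  have hyS := T.n_mem
  have hRP : ∀ r ∈ R, r ∈ P → r * c = c * r := fun r hr hrP => by
    obtain ⟨k, z, hz, rfl⟩ := T.cent_y hA hS st hy hrP (hR.comm r hr y hyR)
    exact ((hcw k).mul_right (hcz z hz)).symm.eq
  have hsplit : ∀ r ∈ R, r ∉ P → y⁻¹ * r ∈ P ∧ y⁻¹ * r ∈ R := fun r hr hrP =>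
    ⟨T.quot hyS (hR.le hr) T.n_out hrP, mul_mem (inv_mem hyR) hr⟩
  have hcy : c * y * c⁻¹ = d * y := by
    have h1 : y * c⁻¹ * y⁻¹ = c := by
      rw [show y * c⁻¹ * y⁻¹ = (y * c * y⁻¹)⁻¹ by group, hyc, inv_inv]
    calc c * y * c⁻¹ = c * (y * c⁻¹ * y⁻¹) * y := by group
      _ = _ := by rw [h1, hcc]
  have hdR : d ∈ R := by
    refine hR.self d (st.mate.ess.le hd.1) fun r hr => ?_
    by_cases hrP : r ∈ P
    · exact T.central hA hS st hd hd2 hrP
    · have h1 := (show Commute d y from (T.comm_d hA hS st hy).symm).mul_right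
        (show Commute d (y⁻¹ * r) from T.central hA hS st hd hd2 (hsplit r hr hrP).1)
      rw [mul_inv_cancel_left] at h1
      exact h1.eq
  have hcN : c ∈ NS S R := ⟨I.le hcP, mem_normalizer_fintype fun r hr => by
    by_cases hrP : r ∈ P
    · show c * r * c⁻¹ ∈ R
      rw [← hRP r hr hrP, mul_inv_cancel_right]; exact hr
    · obtain ⟨h1, h2⟩ := hsplit r hr hrP
      show c * r * c⁻¹ ∈ R
      rw [show c * r * c⁻¹ = c * y * c⁻¹ * (c * (y⁻¹ * r) * c⁻¹) by group, hcy, ← hRP _ h2 h1,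
        mul_inv_cancel_right]
      exact mul_mem (mul_mem hdR hyR) h2⟩
  have hcy' : c * y ≠ y * c := fun e => hd1 (by
    rw [e, mul_inv_cancel_right] at hcy
    exact mul_eq_right.1 hcy.symm)
  have htop := hR.top_of_index_two hA hS hcN (fun e => hcy' (hR.comm c e y hyR)) fun a ha b hb ha' hb' => by
    have haP : a ∉ P := fun e => ha' (hRP a ha e).symm
    have hbP : b ∉ P := fun e => hb' (hRP b hb e).symm
    exact (hRP _ (mul_mem (inv_mem ha) hb) (T.quot (hR.le ha) (hR.le hb) haP hbP)).symm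
  have hcS : ∀ g ∈ (S : Subgroup G), g * y = y * g → g ∈ R := by
    intro g hg hgy
    by_contra hgR
    have hle : R ≤ cS S y := fun r hr => mem_cS.2 ⟨hR.le hr, hR.comm r hr y hyR⟩
    obtain ⟨u, hu, hu', hun⟩ := exists_normalizing (S.isPGroup'.to_le (inf_le_left : cS S y ≤ (S : Subgroup G)))
      hle fun h => hgR (h (mem_cS.2 ⟨hg, hgy⟩))
    have hm := (htop u ⟨(mem_cS.1 hu).1, hun⟩).resolve_left hu'
    refine hcy' ?_
    have h1 := (show Commute u y from (mem_cS.1 hu).2).mul_left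
      (show Commute (c⁻¹ * u)⁻¹ y from (show Commute (c⁻¹ * u) y from hR.comm _ hm y hyR).inv_left)
    rwa [show u * (c⁻¹ * u)⁻¹ = c by group] at h1
  refine ⟨c, hcP, hcN, hcy, hcy', htop, hRP, hcS, fun hle => ?_⟩
  rcases htop v (hle st.vS) with h1 | h1
  · have h2 := T.conj
    rw [← hR.comm v h1 y hyR, mul_inv_cancel_right] at h2
    have h4 : w = 1 := mul_eq_right.1 h2.symm
    exact hne (by
      have h5 : c * c = 1 → c⁻¹ = c := fun h => inv_eq_of_mul_eq_one_right h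
      refine h5 ?_
      rw [hcc, ← I.pow, h4, one_pow])
  · obtain ⟨k, z, hz, e⟩ := T.cent_y hA hS st hy (mul_mem (inv_mem hcP) (I.le_A st st.v_mem)) (hR.comm _ h1 y hyR)
    refine hne (hvc ▸ mul_inv_eq_iff_eq_mul.2 ?_)
    have h3 : Commute c (c⁻¹ * v) := e ▸ (hcw k).mul_right (hcz z hz)
    have h4 := (Commute.refl c).mul_right h3
    rw [mul_inv_cancel_left] at h4
    exact h4.symm.eq

/-- The two families have the same order, and the intersection moves `y` by a power. -/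
theorem Top.compare {R' : Subgroup G} {d' : G} (st' : Setup S R R' y d') :
    d' = d ∧ ∀ z ∈ A ⊓ A', ∃ k : ℤ, y * z * y⁻¹ = w ^ (-(2 * k)) * z := by
  classical
  have I := T.inv
  have hyi : y⁻¹ = y := inv_eq_of_mul_eq_one_right hy
  have hR := st'.mate.ess
  have hyR := st'.v_mem
  obtain ⟨c, hcP, hcN, hcy, hcy', htop, hRP, hcS, hnn⟩ := T.second hA hS st hy hR hyR
  obtain ⟨hd, hd2, hd1⟩ := st.d_facts hA hS
  have hdd : d' = d := by
    obtain ⟨b, hb, hb'⟩ := SetLike.not_le_iff_exists.1 st'.mate.not_le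
    have h1 := (htop b (st'.mate.le_right hb)).resolve_left hb'
    have h2 : c⁻¹ * b * y = y * (c⁻¹ * b) := hR.comm _ h1 y hyR
    rw [← st'.d_eq b hb hb']
    calc b * y * b⁻¹ * y⁻¹ = c * (c⁻¹ * b * y) * (c⁻¹ * b)⁻¹ * c⁻¹ * y⁻¹ := by group
      _ = c * y * c⁻¹ * y⁻¹ := by rw [h2]; group
      _ = d := by rw [hcy]; group
  refine ⟨hdd, ?_⟩
  -- the chain of `y`
  obtain ⟨P₂, w₂, i₂, n₂, T₂⟩ := exists_top hA hS st'
  have hvP₂ : v ∉ P₂ := by
    intro hvP
    have hvZ : v ∉ R ⊓ R' := fun hZ => by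
      obtain ⟨c₁, -, hcw₁, hcz₁, hvc₁, -, -, hne₁⟩ := T.exists_c hA hS st hy
      have h1 := st'.mate.central hA hS hZ hcN
      exact T.n_out (by
        have h2 : v * y = y * v := hR.comm v hZ.1 y hyR
        have h3 := T.conj
        rw [← h2, mul_inv_cancel_right] at h3
        have h4 : w = 1 := mul_eq_right.1 h3.symm
        exact absurd (by rw [← I.pow, h4, one_pow]) hd1)
    obtain ⟨g, hg, a, ha, ha', e⟩ := T₂.inv_conj hA hS st' hvP st.v_sq hvZ
    have hAR := st'.eq_conj hA hS st.mate.ess.toSelfCent hg ha ha' (e ▸ st.v_mem)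
    refine T.n_out ?_
    have h1 : g * y * g⁻¹ ∈ P :=
      I.le_A st (hAR.symm ▸ mem_map_of_mem (MulAut.conj g).toMonoidHom hyR)
    exact (conj_mem_iff (T.normal hg)).1 h1
  obtain ⟨w₃, T₃⟩ := T₂.change hA hS st' st.vS hvP₂
  have hw₃ : w₃ = w⁻¹ := by
    have h1 := T₃.conj
    rw [← T.yv_sq hA hS st hy]
    calc w₃ = w₃ * y * y⁻¹ := by group
      _ = v⁻¹ * y⁻¹ * (v⁻¹ * y⁻¹) := by rw [← h1, st.v_inv, hyi]; group
      _ = _ := by group
  have hi : i₂ = i := by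
    have h1 := T₃.inv.ord hA hS st'
    rw [hw₃, orderOf_inv, I.ord hA hS st] at h1
    exact (Nat.pow_right_injective le_rfl h1).symm
  have hcard : Nat.card A = Nat.card R := by
    have h1 := T.card hA hS st
    rw [T₂.card hA hS st', hi] at h1
    exact (Nat.eq_of_mul_eq_mul_left (by positivity) h1).symm
  -- counting
  have hZR : Nat.card ↥(A ⊓ A') ≤ Nat.card ↥(R ⊓ P) := by
    have h1 : Nat.card (Bool × ↥(A ⊓ A')) ≤ Nat.card A := by
      refine Nat.card_le_card_of_injective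
        (fun x => if x.1 then (⟨x.2, x.2.2.1⟩ : A) else ⟨v * x.2, mul_mem st.v_mem x.2.2.1⟩) ?_
      have hno : ∀ p q : ↥(A ⊓ A'), (p : G) ≠ v * q := fun p q e => st.v_out (by
        rw [show v = (p : G) * (q : G)⁻¹ by rw [e]; group]
        exact A'.mul_mem p.2.2 (A'.inv_mem q.2.2))
      rintro ⟨a, p⟩ ⟨b, q⟩ e
      cases a <;> cases b <;> simp at e
      · simp [Subtype.ext_iff, e]
      · exact absurd e.symm (hno q p)
      · exact absurd e (hno p q)
      · simp [Subtype.ext_iff, e]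
    have h2 : Nat.card R ≤ Nat.card (Bool × ↥(R ⊓ P)) := by
      refine Nat.card_le_card_of_injective (fun r : R => if h : (r : G) ∈ P then (true, ⟨r, r.2, h⟩) else
        (false, ⟨y⁻¹ * r, R.mul_mem (R.inv_mem hyR) r.2, T.quot T.n_mem (hR.le r.2) T.n_out h⟩)) ?_
      intro a b e
      by_cases ha : (a : G) ∈ P <;> by_cases hb : (b : G) ∈ P <;> simp [ha, hb] at e
      · exact Subtype.ext (congrArg Subtype.val e :)
      · exact Subtype.ext (mul_left_cancel (congrArg Subtype.val e :))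
    rw [hcard] at h1
    have h3 := h1.trans h2
    rw [Nat.card_prod, Nat.card_prod, Nat.card_eq_fintype_card (α := Bool), Fintype.card_bool] at h3
    omega
  let N := 2 ^ (i - 1)
  have hN : ((2 : ℤ) ^ (i - 1)) = ((N : ℕ) : ℤ) := by norm_num [N]
  let f : Fin N × ↥(R ⊓ P) → G := fun x => w ^ ((x.1 : ℕ) : ℤ) * x.2
  let f' : Fin N × ↥(A ⊓ A') → G := fun x => w ^ ((x.1 : ℕ) : ℤ) * x.2
  have hf : Function.Injective f := by
    rintro ⟨r, p⟩ ⟨r', p'⟩ e
    have e' : w ^ ((r : ℕ) : ℤ) * (p : G) = w ^ ((r' : ℕ) : ℤ) * (p' : G) := e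
    set m : ℤ := ((r : ℕ) : ℤ) - ((r' : ℕ) : ℤ) with hm
    have h1 : w ^ m = (p' : G) * (p : G)⁻¹ := by
      calc w ^ m = w ^ (-((r' : ℕ) : ℤ)) * (w ^ ((r : ℕ) : ℤ) * (p : G)) * (p : G)⁻¹ := by
            rw [hm, sub_eq_neg_add, zpow_add]; group
        _ = _ := by rw [e']; group
    have h2 : w ^ m = w ^ (-m) := by
      rw [← T.conj_y hA hS st hy, hR.comm y hyR (w ^ m) (h1 ▸ mul_mem p'.2.1 (inv_mem p.2.1)),
        mul_inv_cancel_right]
    have h3 := (I.zpow_inj hA hS st).1 h2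
    rw [show i = i - 1 + 1 by have := I.two_le; omega, pow_succ, show m - -m = m * 2 by ring] at h3
    have h4 : (r' : ℕ) ≡ (r : ℕ) [MOD N] := Nat.modEq_iff_dvd.2 (by
      rw [← hN]; exact Int.dvd_of_mul_dvd_mul_right (by norm_num) h3)
    have h5 : r' = r := Fin.ext (h4.eq_of_lt_of_lt r'.2 r.2)
    subst h5
    exact Prod.ext rfl (Subtype.ext (mul_left_cancel e'))
  have hsub : Set.range f ⊆ Set.range f' := by
    rintro _ ⟨⟨r, p⟩, rfl⟩
    obtain ⟨k, z, hz, e⟩ := T.cent_y hA hS st hy p.2.2 (hR.comm _ p.2.1 y hyR)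
    set m : ℤ := ((r : ℕ) : ℤ) + k with hm
    have hN0 : (0 : ℤ) < (N : ℤ) := by positivity
    obtain ⟨r', hr'⟩ := Int.eq_ofNat_of_zero_le (Int.emod_nonneg m hN0.ne')
    have hlt : r' < N := by
      have := Int.emod_lt_of_pos m hN0
      rw [hr'] at this
      exact_mod_cast this
    refine ⟨(⟨r', hlt⟩, ⟨w ^ ((2 : ℤ) ^ (i - 1) * (m / N)) * z, mul_mem (I.zpow_d hA hS st _) hz⟩), ?_⟩
    show w ^ (r' : ℤ) * (w ^ ((2 : ℤ) ^ (i - 1) * (m / N)) * z) = w ^ ((r : ℕ) : ℤ) * (p : G)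
    rw [e, ← mul_assoc, ← mul_assoc, ← zpow_add, ← zpow_add, hN, ← hr', Int.emod_add_mul_ediv, hm]
  have heq : Set.range f = Set.range f' := by
    refine Set.eq_of_subset_of_ncard_le hsub ?_ (Set.toFinite _)
    rw [Set.ncard_range_of_injective hf, ← Nat.card_coe_set_eq]
    refine (Finite.card_range_le f').trans ?_
    rw [Nat.card_prod, Nat.card_prod]
    exact Nat.mul_le_mul_left _ hZR
  intro z hz
  have hz' : z ∈ Set.range f' := ⟨(⟨0, by positivity⟩, ⟨z, hz⟩), by simp [f']⟩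
  rw [← heq] at hz'
  obtain ⟨⟨r, p⟩, hp⟩ := hz'
  change w ^ ((r : ℕ) : ℤ) * (p : G) = z at hp
  refine ⟨(r : ℕ), ?_⟩
  have hyp : y * (p : G) * y⁻¹ = p := mul_inv_eq_iff_eq_mul.2 (hR.comm y hyR p p.2.1)
  rw [← hp, show y * (w ^ ((r : ℕ) : ℤ) * (p : G)) * y⁻¹ = y * w ^ ((r : ℕ) : ℤ) * y⁻¹ * (y * (p : G) * y⁻¹) by group,
    T.conj_y hA hS st hy, hyp]
  group

end

omit hA hS

/-- The shape of the Sylow subgroup in the small case: `S = ⟨W⟩ Z ⟨v⟩` with two families of essential subgroups. -/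
structure Pair (S : Sylow 2 G) (A A' R : Subgroup G) (v y d W : G) (i : ℕ) : Prop where
  st : Setup S A A' v d
  comA : Com S A v d
  ess : Ess S R
  comR : Com S R y d
  two_le : 2 ≤ i
  y_mem : y ∈ R
  y_sq : y * y = 1
  y_eq : y = W * v
  W_mem : W ∈ (S : Subgroup G)
  ord : orderOf W = 2 ^ (i + 1)
  pow : W ^ 2 ^ i = d
  inv : v * W * v⁻¹ = W⁻¹
  centR : ∀ g ∈ (S : Subgroup G), g * y = y * g → g ∈ R
  act : ∀ z ∈ A ⊓ A', ∃ u : ℤ, u % 4 = 1 ∧ z * W * z⁻¹ = W ^ u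
  cover : ∀ g ∈ (S : Subgroup G), ∃ k : ℤ, ∃ z ∈ A ⊓ A', g = W ^ k * z ∨ g = W ^ k * v * z
  ess_conj : ∀ X : Subgroup G, Ess S X →
    ∃ g ∈ (S : Subgroup G), X = A.map (MulAut.conj g).toMonoidHom ∨ X = R.map (MulAut.conj g).toMonoidHom

include hA hS

theorem exists_pair_structure [IsSimpleGroup G] (hG : ¬ IsMulCommutative G) (st : Setup S A A' v d)
    (hcom : Com S A v d) : ∃ R y W i, Pair S A A' R v y d W i := by
  obtain ⟨P, w₀, i, n, T₀⟩ := exists_top hA hS st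
  obtain ⟨R, hR, hle⟩ := T₀.exists_out hA hS hG st
  obtain ⟨y₀, hy₀R, hy₀, hy₀P⟩ := T₀.ess_out hA hS st hR hle
  obtain ⟨w₁, T₁⟩ := T₀.change hA hS st (hR.le hy₀R) hy₀P
  obtain ⟨c, -, hcN, -, hcy, htop, hRP, -, hnn⟩ := T₁.second hA hS st hy₀ hR hy₀R
  obtain ⟨R', y, d', st', hcomR⟩ := exists_setup hA hS hG hR hnn
  have hy : y * y = 1 := st'.v_sq
  have hyR := st'.v_mem
  have hyS := hR.le hyR
  have hyP : y ∉ P := by
    intro hyP
    obtain ⟨b, hb, hb'⟩ := SetLike.not_le_iff_exists.1 st'.mate.not_le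
    have h1 := (htop b (st'.mate.le_right hb)).resolve_left hb'
    have h2 := (show Commute y c from hRP y hyR hyP).mul_right (show Commute y (c⁻¹ * b) from hR.comm y hyR _ h1)
    rw [mul_inv_cancel_left] at h2
    exact st'.v_out (st'.mate.mem_of_comm hA hS hyR hb hb' h2.symm.eq)
  obtain ⟨w, T⟩ := T₀.change hA hS st hyS hyP
  obtain ⟨hdd, hmove⟩ := T.compare hA hS st hy st'
  subst hdd
  obtain ⟨c, hcP, -, -, -, -, -, hcS, -⟩ := T.second hA hS st hy hR hyR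
  have I := T.inv
  have hyi : y⁻¹ = y := inv_eq_of_mul_eq_one_right hy
  set W := y * v with hW
  have hW2 : W * W = w := T.yv_sq hA hS st hy
  have hsq : ∀ k : ℤ, w ^ k = W ^ (2 * k) := fun k => by rw [← hW2, zpow_mul, zpow_two]
  have hvW : v * W * v⁻¹ = W⁻¹ := by
    rw [hW, mul_inv_rev y v, ← mul_assoc, mul_inv_cancel_right, st.v_inv, hyi]
  have hyv : y = W * v := by rw [hW, mul_assoc, st.v_sq, mul_one]
  haveI : Fact (Nat.Prime 2) := ⟨Nat.prime_two⟩
  obtain ⟨hd, hd2, hd1⟩ := st.d_facts hA hS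
  have hpow : W ^ 2 ^ i = d' := by
    rw [show i = i - 1 + 1 by have := I.two_le; omega, pow_succ', pow_mul, pow_two, hW2, I.pow]
  have hord : orderOf W = 2 ^ (i + 1) := by
    refine orderOf_eq_prime_pow (by rw [hpow]; exact hd1) ?_
    rw [pow_succ, pow_mul, hpow, pow_two, hd2]
  have hvk : ∀ k : ℤ, v * W ^ k * v⁻¹ = W ^ (-k) := fun k => by rw [← conj_zpow, hvW, inv_zpow']
  have hcover : ∀ g ∈ (S : Subgroup G), ∃ k : ℤ, ∃ z ∈ A ⊓ A', g = W ^ k * z ∨ g = W ^ k * v * z := by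
    intro g hg
    rcases T.cosets g hg with h1 | h1
    · obtain ⟨k, z, hz, e⟩ := I.cover g h1
      exact ⟨2 * k, z, hz, by rwa [← hsq]⟩
    · obtain ⟨k, z, hz, e⟩ := I.cover _ h1
      refine ⟨1 - 2 * k, z, hz, ?_⟩
      have h2 : W ^ (1 - 2 * k) = W * (v * W ^ (2 * k) * v⁻¹) := by rw [hvk, sub_eq_add_neg, zpow_add, zpow_one]
      rcases e with e | e
      · refine Or.inr ?_
        rw [h2, ← hsq, show g = y * (y⁻¹ * g) by group, e, hyv]
        group
      · refine Or.inl ?_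
        rw [h2, ← hsq, show g = y * (y⁻¹ * g) by group, e, hyv, st.v_inv]
        group
  have hact : ∀ z ∈ A ⊓ A', ∃ u : ℤ, u % 4 = 1 ∧ z * W * z⁻¹ = W ^ u := by
    intro z hz
    obtain ⟨k, hk⟩ := hmove z hz
    refine ⟨4 * k + 1, by omega, ?_⟩
    have h1 : z * y * z⁻¹ = w ^ (2 * k) * y := by
      calc z * y * z⁻¹ = z * (y * z * y⁻¹)⁻¹ * y := by group
        _ = _ := by rw [hk]; group
    rw [zpow_add_one, show (4 * k : ℤ) = 2 * (2 * k) by ring, ← hsq, hW,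
      show z * (y * v) * z⁻¹ = z * y * z⁻¹ * (z * v * z⁻¹) by group, h1, st.comm_z hz, mul_inv_cancel_right]
    group
  refine ⟨R, y, W, i, st, hcom, hR, hcomR, I.two_le, hyR, hy, hyv, mul_mem hyS st.vS, hord, hpow, hvW, hcS,
    hact, hcover, fun X hX => ?_⟩
  -- every essential subgroup is conjugate to one of the two
  by_cases hXP : X ≤ P
  · obtain ⟨g, hg, e⟩ := T.ess_le hA hS st hX hXP
    exact ⟨g, hg, Or.inl e⟩
  obtain ⟨t, htX, ht2, htP⟩ := T.ess_out hA hS st hX hXP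
  obtain ⟨k, z, hz, e⟩ := hcover t (hX.le htX)
  have hWe : ∀ m : ℤ, Even m → W ^ m ∈ P := by
    rintro m ⟨r, rfl⟩
    rw [← two_mul, ← hsq]
    exact zpow_mem I.mem r
  have hk : Odd k := by
    refine (Int.even_or_odd k).resolve_left fun hk => htP ?_
    rcases e with rfl | rfl
    · exact mul_mem (hWe k hk) (I.le_A st hz.1)
    · exact mul_mem (mul_mem (hWe k hk) (I.le_A st st.v_mem)) (I.le_A st hz.1)
  obtain ⟨u, hu, hzu⟩ := hact z hz
  have hzk : ∀ m : ℤ, z * W ^ m * z⁻¹ = W ^ (u * m) := fun m => by rw [← conj_zpow, hzu, ← zpow_mul]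
  have hu2 : Odd u := odd_of_four hu
  have hsq1 : ∀ m : ℤ, Even m → W ^ m * (z * z) = 1 → z * z = 1 ∧ (2 : ℤ) ^ (i + 1) ∣ m := by
    intro m hm hm1
    have h1 : W ^ m = (z * z)⁻¹ := eq_inv_of_mul_eq_one_left hm1
    obtain ⟨r, rfl⟩ := hm
    rw [← two_mul, ← hsq] at h1 hm1
    rcases (I.mem_A hA hS st (k := r) (h1 ▸ inv_mem (mul_mem hz.1 hz.1))).2 with h2 | h2
    · refine ⟨by rwa [h2, one_mul] at hm1, ?_⟩
      rw [pow_succ, ← mul_two]
      exact mul_dvd_mul_right ((I.one_iff hA hS st).1 h2) 2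
    · refine absurd ?_ (st.sq_ne hA hS hz)
      rw [h2] at h1
      rw [← inv_inv (z * z), ← h1]
      exact inv_eq_of_mul_eq_one_right hd2
  obtain ⟨r, rfl⟩ := hk
  obtain ⟨s, rfl⟩ : ∃ s, u = 4 * s + 1 := ⟨u / 4, by omega⟩
  rcases e with e | e
  · exfalso
    have h1 : W ^ (2 * r + 1 + (4 * s + 1) * (2 * r + 1)) * (z * z) = 1 := by
      rw [← ht2, e, zpow_add, ← hzk]; group
    obtain ⟨-, hdvd⟩ := hsq1 _ ⟨4 * r * s + 2 * r + 2 * s + 1, by ring⟩ h1
    have h4 : (4 : ℤ) ∣ 2 * r + 1 + (4 * s + 1) * (2 * r + 1) := by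
      refine dvd_trans ?_ hdvd
      rw [show (4 : ℤ) = 2 ^ 2 by norm_num]
      exact pow_dvd_pow 2 (le_trans I.two_le (Nat.le_succ i))
    rw [show 2 * r + 1 + (4 * s + 1) * (2 * r + 1) = 4 * (2 * r * s + r + s) + 2 by ring] at h4
    omega
  · have hvz : v * z * (v * z) = z * z := by
      rw [sq_mul st.mate.ess.comm st.v_mem hz.1, st.v_sq, one_mul]
    have hc : ∀ m : ℤ, v * z * W ^ m * (v * z)⁻¹ = W ^ (-((4 * s + 1) * m)) := fun m => by
      rw [show v * z * W ^ m * (v * z)⁻¹ = v * (z * W ^ m * z⁻¹) * v⁻¹ by group, hzk, hvk]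
    have h1 : W ^ (2 * r + 1 + -((4 * s + 1) * (2 * r + 1))) * (z * z) = 1 := by
      rw [← ht2, e, zpow_add, ← hc, ← hvz]; group
    obtain ⟨hz2, hdvd⟩ := hsq1 _ ⟨-(4 * r * s + 2 * s), by ring⟩ h1
    have hcomk : Commute z (W ^ (2 * r + 1)) := by
      refine mul_inv_eq_iff_eq_mul.1 ?_
      rw [hzk]
      have h2 : W ^ (2 * r + 1 + -((4 * s + 1) * (2 * r + 1))) = 1 := by
        rw [← orderOf_dvd_iff_zpow_eq_one, hord]
        exact_mod_cast hdvd
      rwa [zpow_add, zpow_neg, mul_inv_eq_one, eq_comm] at h2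
    have hzW : Commute z W := by
      obtain ⟨b, hb⟩ := exists_odd_mul (m := 2 * r + 1) ⟨r, rfl⟩ (i + 1) 1
      have h2 : W ^ ((2 * r + 1) * b - 1) = 1 := by
        rw [← orderOf_dvd_iff_zpow_eq_one, hord]
        exact_mod_cast hb
      rw [zpow_sub, mul_inv_eq_one, zpow_one, zpow_mul] at h2
      rw [← h2]
      exact hcomk.zpow_right b
    have hzy : Commute z y := hyv ▸ hzW.mul_right (st.comm_z hz)
    have hzR : z ∈ R := hcS z (st.mate.ess.le hz.1) hzy.eq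
    refine ⟨W ^ r, zpow_mem (mul_mem hyS st.vS) r, Or.inr ?_⟩
    refine hX.toSelfCent.eq_of_le (hR.toSelfCent.conj (le_normalizer (zpow_mem (mul_mem hyS st.vS) r))) fun x hx => ?_
    rw [conjMap_mem]
    have hxt : t * x = x * t := hX.comm t htX x hx
    have h2 : (W ^ r)⁻¹ * t * W ^ r = y * z := by
      calc (W ^ r)⁻¹ * t * W ^ r = (W ^ r)⁻¹ * W ^ (2 * r + 1) * v * (z * W ^ r) := by rw [e]; group
        _ = W ^ (r + 1) * (v * W ^ r * v⁻¹) * v * z := by rw [(hzW.zpow_right r).eq]; group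
        _ = _ := by rw [hvk, hyv]; group
    refine hcS _ (mul_mem (mul_mem (inv_mem (zpow_mem (mul_mem hyS st.vS) r)) (hX.le hx))
      (zpow_mem (mul_mem hyS st.vS) r)) ?_
    have h3 := conj_comm hxt (W ^ r)⁻¹
    rw [inv_inv, h2] at h3
    have hzS : ∀ g ∈ (S : Subgroup G), Commute z g := fun g hg => by
      obtain ⟨m, z₀, hz₀, e⟩ := hcover g hg
      have hzz : Commute z z₀ := st.mate.ess.comm z hz.1 z₀ hz₀.1
      rcases e with rfl | rfl
      · exact (hzW.zpow_right m).mul_right hzz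
      · exact ((hzW.zpow_right m).mul_right (st.comm_z hz)).mul_right hzz
    have h4 : Commute ((W ^ r)⁻¹ * x * W ^ r) (y * z) := h3.symm
    have h5 := h4.mul_right (hzS _ (mul_mem (mul_mem (inv_mem (zpow_mem (mul_mem hyS st.vS) r)) (hX.le hx))
      (zpow_mem (mul_mem hyS st.vS) r))).symm.inv_right
    rw [mul_inv_cancel_right] at h5
    exact h5.eq

end Cfsg.Agent.AbInter
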